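import Groth.Agent.Lib.AzMod.SepSplit
import Groth.Agent.Lib.Hensel.HullExtra
import Groth.Agent.Lib.Hensel.Local
import Groth.Agent.Lib.Hensel.Pair
import Groth.Agent.Lib.Hensel.PairNbhd
import Mathlib.FieldTheory.IsAlgClosed.AlgebraicClosure
import Mathlib.RingTheory.IntegralClosure.Algebra.Ideal
import Mathlib.RingTheory.Etale.Pi
import Mathlib.RingTheory.Spectrum.Prime.Chevalley
import Mathlib.LinearAlgebra.TensorProduct.Vanishing

set_option autoImplicit false

/-!
# Splitting an Azumaya algebra etale locally on the fixed ring of an involution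
-/

universe u v w

open scoped TensorProduct
open GrothLib.Hensel

namespace GrothLib.AzMod

section Field

variable {S : Type u} [CommRing S] {C : Type u} [Field C] [Algebra S C]

theorem hull_isUnit_iff (x : Hull S C) : IsUnit x ↔ Hull.proj x ≠ 0 :=
  ⟨fun h ↦ (h.map Hull.proj).ne_zero, fun h ↦ Hull.isUnit_of_isUnit_proj h.isUnit⟩

theorem hull_isLocalRing : IsLocalRing (Hull S C) := by
  have : Nontrivial (Hull S C) := (Hull.proj (A := S) (C := C)).toRingHom.domain_nontrivial
  refine .of_nonunits_add fun {a b} ha hb ↦ ?_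
  simp only [mem_nonunits_iff, hull_isUnit_iff, ne_eq, not_not] at *
  rw [map_add, ha, hb, add_zero]

attribute [local instance] hull_isLocalRing

theorem hull_maximalIdeal :
    IsLocalRing.maximalIdeal (Hull S C) = RingHom.ker (Hull.proj : Hull S C →ₐ[S] C).toRingHom := by
  ext x
  simp [IsLocalRing.mem_maximalIdeal, mem_nonunits_iff, hull_isUnit_iff]

theorem hull_henselian : HenselianLocalRing (Hull S C) := by
  refine henselianLocalRing_of_henselianRing ?_
  rw [hull_maximalIdeal]
  exact Hull.henselianRing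

open Polynomial in
theorem hull_isSepClosed [IsAlgClosed C] : IsSepClosed (IsLocalRing.ResidueField (Hull S C)) := by
  classical
  let H := Hull S C
  let κ := IsLocalRing.ResidueField H
  let j : κ →+* C := Ideal.Quotient.lift _ (Hull.proj : H →ₐ[S] C).toRingHom fun a ha => by
    rw [hull_maximalIdeal] at ha; exact ha
  refine IsSepClosed.of_exists_root _ fun p hp hirr hsep => ?_
  set d := p.natDegree with hd
  choose cf hcf using fun i : Fin d => Ideal.Quotient.mk_surjective (p.coeff i)
  obtain ⟨N, a, ha⟩ := Hull.exists_ι_family cf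
  let F : N.Ring[X] := X ^ d + ∑ i : Fin d, Polynomial.C (a i) * X ^ (i : ℕ)
  have : Nontrivial N.Ring := (Hull.ι N).toRingHom.domain_nontrivial
  have hFm : F.Monic := monic_X_pow_add ((degree_sum_le _ _).trans_lt ((Finset.sup_lt_iff
      (WithBot.bot_lt_coe d)).mpr fun i _ ↦ (degree_C_mul_X_pow_le _ _).trans_lt
      (Nat.cast_lt.mpr i.isLt)))
  let ρ : N.Ring →+* κ := (IsLocalRing.residue H).comp (Hull.ι N).toRingHom
  have hρ : F.map ρ = p := by
    conv_rhs => rw [hp.as_sum]
    rw [← Fin.sum_univ_eq_sum_range (fun i ↦ Polynomial.C (p.coeff i) * X ^ i)]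
    simp only [F, Polynomial.map_add, Polynomial.map_pow, map_X, Polynomial.map_sum, Polynomial.map_mul, map_C, d]
    congr 1
    refine Finset.sum_congr rfl fun i _ => ?_
    congr 2
    show IsLocalRing.residue H (Hull.ι N (a i)) = _
    rw [ha]
    exact hcf i
  let _ : Algebra N.Ring C := N.pt.toRingHom.toAlgebra
  have : IsScalarTower S N.Ring C :=
    IsScalarTower.of_algebraMap_eq (R := S) (S := N.Ring) (A := C) fun r ↦ (N.pt.commutes r).symm
  have hjρ : (algebraMap N.Ring C) = j.comp ρ := RingHom.ext fun y => (Hull.proj_ι N y).symm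
  obtain ⟨x, hx⟩ := IsAlgClosed.exists_root (p.map j) (by
    rw [Polynomial.degree_map]; exact (Polynomial.degree_pos_of_irreducible hirr).ne')
  have hx1 : aeval x F = 0 := by
    rw [aeval_def, hjρ, ← eval_map, ← Polynomial.map_map, hρ]; exact hx
  have hx2 : aeval x (derivative F) ≠ 0 := by
    rw [aeval_def, hjρ, ← eval_map, ← Polynomial.map_map, ← derivative_map, hρ, ← derivative_map]
    exact (hsep.map (f := j)).eval₂_derivative_ne_zero (RingHom.id C) (by simpa using hx) ∘ fun h => by simpa using h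
  let P := simpleRootPair F hFm
  have hmap : P.HasMap x := ⟨hx1, hx2.isUnit⟩
  let _ : Algebra S P.Ring := ((algebraMap N.Ring P.Ring).comp (algebraMap S N.Ring)).toAlgebra
  have : IsScalarTower S N.Ring P.Ring :=
    IsScalarTower.of_algebraMap_eq (R := S) (S := N.Ring) (A := P.Ring) fun _ ↦ rfl
  have : Algebra.Etale S P.Ring := Algebra.Etale.comp S N.Ring _
  let φ : P.Ring →ₐ[S] C := (P.lift _ hmap).restrictScalars S
  have hcomp : φ.comp (IsScalarTower.toAlgHom S N.Ring P.Ring) = N.pt :=
    AlgHom.ext fun y ↦ (P.lift _ hmap).commutes y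
  let h : H := Hull.of φ P.X
  refine ⟨IsLocalRing.residue H h, j.injective ?_⟩
  rw [map_zero, ← eval_map_apply]
  show eval (Hull.proj (Hull.of φ P.X)) (p.map j) = 0
  rw [show Hull.proj (Hull.of φ P.X) = φ P.X from AlgHom.congr_fun (Hull.proj_comp_of φ) P.X,
    show φ P.X = x from P.lift_X _ hmap]
  exact hx

end Field

/-! ### Descending elements of `Hull ⊗ A` -/

section Stage

variable {S : Type u} [CommRing S] {C : Type u} [CommRing C] [Algebra S C] {A : Type v} [AddCommGroup A] [Module S A]

theorem exists_stage (x : Hull S C ⊗[S] A) :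
    ∃ (N : Nbhd S C) (y : N.Ring ⊗[S] A), (Hull.ι N).toLinearMap.rTensor A y = x := by
  obtain ⟨m, h, a, rfl⟩ := TensorProduct.exists_sum_tmul_eq x
  obtain ⟨N, h', hh⟩ := Hull.exists_ι_family h
  exact ⟨N, ∑ i, h' i ⊗ₜ a i, by simp [hh]⟩

theorem exists_stage_zero {N : Nbhd S C} {y : N.Ring ⊗[S] A}
    (hy : (Hull.ι N).toLinearMap.rTensor A y = 0) :
    ∃ (M : Nbhd S C) (f : N ⟶ M), f.map.toLinearMap.rTensor A y = 0 := by
  classical
  obtain ⟨m, h, a, rfl⟩ := TensorProduct.exists_sum_tmul_eq y
  have h0 : ∑ i, a i ⊗ₜ[S] Hull.ι N (h i) = 0 := by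
    have := congrArg (TensorProduct.comm S _ _) hy
    simpa using this
  obtain ⟨k, c, z, hz, hc⟩ := TensorProduct.vanishesTrivially_of_sum_tmul_eq_zero_of_rTensor_injective S
    (m := a) (n := fun i => Hull.ι N (h i))
    (Module.Flat.rTensor_preserves_injective_linearMap _ (Submodule.injective_subtype _)) h0
  obtain ⟨N', z', hz'⟩ := Hull.exists_ι_family z
  obtain ⟨K, f₁, f₂, -⟩ := CategoryTheory.IsFilteredOrEmpty.cocone_objs N N'
  have hker : ∀ i, Hull.ι K (f₁.map (h i) - ∑ j, c i j • f₂.map (z' j)) = 0 := fun i => by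
    rw [map_sub, map_sum, Hull.ι_map, show Hull.ι N (h i) = _ from hz i, sub_eq_zero]
    exact Finset.sum_congr rfl fun j _ => by rw [map_smul, Hull.ι_map, hz']
  obtain ⟨M, g, hg⟩ : ∃ (M : Nbhd S C) (g : K ⟶ M), ∀ i, g.map (f₁.map (h i) - ∑ j, c i j • f₂.map (z' j)) = 0 := by
    obtain ⟨M, g, hg⟩ := Hull.exists_map_eq_zero_family Finset.univ
      (fun i => f₁.map (h i) - ∑ j, c i j • f₂.map (z' j)) fun i _ => hker i
    exact ⟨M, g, fun i => hg i (Finset.mem_univ i)⟩
  refine ⟨M, CategoryTheory.CategoryStruct.comp f₁ g, ?_⟩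
  have hcm : (CategoryTheory.CategoryStruct.comp f₁ g).map = g.map.comp f₁.map := rfl
  simp only [map_sum, LinearMap.rTensor_tmul, hcm, AlgHom.toLinearMap_apply, AlgHom.comp_apply]
  calc ∑ i, g.map (f₁.map (h i)) ⊗ₜ[S] a i = ∑ i, ∑ j, g.map (f₂.map (z' j)) ⊗ₜ[S] (c i j • a i) := by
        refine Finset.sum_congr rfl fun i _ => ?_
        have := hg i
        rw [map_sub, sub_eq_zero] at this
        rw [this, map_sum, TensorProduct.sum_tmul]
        exact Finset.sum_congr rfl fun j _ => by rw [map_smul, TensorProduct.smul_tmul]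
    _ = 0 := by
        rw [Finset.sum_comm]
        refine Finset.sum_eq_zero fun j _ => ?_
        rw [← TensorProduct.tmul_sum, hc j, TensorProduct.tmul_zero]

theorem exists_stage_zero_family {σ : Type*} (t : Finset σ) : ∀ {N : Nbhd S C} (y : σ → N.Ring ⊗[S] A),
    (∀ i ∈ t, (Hull.ι N).toLinearMap.rTensor A (y i) = 0) →
    ∃ (M : Nbhd S C) (f : N ⟶ M), ∀ i ∈ t, f.map.toLinearMap.rTensor A (y i) = 0 := by
  classical
  induction t using Finset.induction_on with
  | empty => exact fun {N} y _ => ⟨N, CategoryTheory.CategoryStruct.id N, by simp⟩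
  | insert a t ha ih =>
    intro N y hy
    obtain ⟨M, f, hf⟩ := ih y fun i hi => hy i (Finset.mem_insert_of_mem hi)
    have hM : (Hull.ι M).toLinearMap.rTensor A (f.map.toLinearMap.rTensor A (y a)) = 0 := by
      rw [← LinearMap.rTensor_comp_apply, show (Hull.ι M).toLinearMap ∘ₗ f.map.toLinearMap =
        (Hull.ι N).toLinearMap from LinearMap.ext (Hull.ι_map f)]
      exact hy a (Finset.mem_insert_self a t)
    obtain ⟨M', g, hg⟩ := exists_stage_zero hM
    refine ⟨M', CategoryTheory.CategoryStruct.comp f g, fun i hi => ?_⟩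
    rw [show (CategoryTheory.CategoryStruct.comp f g).map.toLinearMap = g.map.toLinearMap ∘ₗ f.map.toLinearMap from rfl,
      LinearMap.rTensor_comp_apply]
    rcases Finset.mem_insert.1 hi with rfl | hi
    · exact hg
    · rw [hf i hi, map_zero]

theorem exists_stage_family {σ : Type*} [Finite σ] (x : σ → Hull S C ⊗[S] A) :
    ∃ (N : Nbhd S C) (y : σ → N.Ring ⊗[S] A), ∀ i, (Hull.ι N).toLinearMap.rTensor A (y i) = x i := by
  classical
  choose N y hy using fun i => exists_stage (x i)
  have := Fintype.ofFinite σ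
  obtain ⟨K, hK⟩ := CategoryTheory.IsFiltered.sup_objs_exists (Finset.univ.image N)
  let f : ∀ i, N i ⟶ K := fun i ↦ (hK (by simp)).some
  refine ⟨K, fun i ↦ (f i).map.toLinearMap.rTensor A (y i), fun i => ?_⟩
  rw [← LinearMap.rTensor_comp_apply, show (Hull.ι K).toLinearMap ∘ₗ (f i).map.toLinearMap =
    (Hull.ι (N i)).toLinearMap from LinearMap.ext (Hull.ι_map (f i))]
  exact hy i

end Stage

/-! ### Base change of an algebra along the fixed ring -/

section Base

variable (S : Type u) {R : Type v} [CommRing S] [CommRing R] [Algebra S R]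
  (A : Type w) [Ring A] [Algebra S A] [Algebra R A] [IsScalarTower S R A]
  (T : Type u) [CommRing T] [Algebra S T]

attribute [local instance] Algebra.TensorProduct.rightAlgebra

/-- The structure map `T ⊗ R → T ⊗ A`. -/
noncomputable def scalarHom : (T ⊗[S] R) →ₐ[T] (T ⊗[S] A) :=
  Algebra.TensorProduct.map (AlgHom.id T T) (IsScalarTower.toAlgHom S R A)

theorem scalarHom_commutes (c : T ⊗[S] R) (x : T ⊗[S] A) : scalarHom S A T c * x = x * scalarHom S A T c := by
  induction c using TensorProduct.induction_on with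
  | zero => simp
  | add p q hp hq => rw [map_add, add_mul, mul_add, hp, hq]
  | tmul s r =>
    induction x using TensorProduct.induction_on with
    | zero => simp
    | add p q hp hq => rw [mul_add, add_mul, hp, hq]
    | tmul t a => simp [scalarHom, mul_comm, Algebra.commutes r a]

/-- `T ⊗ A` as an algebra over `T ⊗ R`. -/
@[reducible] noncomputable def scalarAlgebra : Algebra (T ⊗[S] R) (T ⊗[S] A) :=
  (scalarHom S A T).toRingHom.toAlgebra' (scalarHom_commutes S A T)

attribute [local instance] scalarAlgebra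

/-- The comparison `(T ⊗_S R) ⊗_R A ≅ T ⊗_S A`. -/
noncomputable def baseEquiv : ((T ⊗[S] R) ⊗[R] A) ≃ₐ[T ⊗[S] R] (T ⊗[S] A) :=
  letI : Algebra R (T ⊗[S] A) := ((scalarHom S A T).toRingHom.comp (algebraMap R (T ⊗[S] R))).toAlgebra'
    fun r x => scalarHom_commutes S A T (algebraMap R (T ⊗[S] R) r) x
  haveI : IsScalarTower R (T ⊗[S] R) (T ⊗[S] A) := IsScalarTower.of_algebraMap_eq fun _ => rfl
  AlgEquiv.ofBijective
    (Algebra.TensorProduct.lift (Algebra.ofId (T ⊗[S] R) (T ⊗[S] A))
      ({ toRingHom := (Algebra.TensorProduct.includeRight : A →ₐ[S] T ⊗[S] A).toRingHom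
         commutes' := fun r => by
          show (1 : T) ⊗ₜ[S] algebraMap R A r = scalarHom S A T ((1 : T) ⊗ₜ[S] r)
          simp [scalarHom] } : A →ₐ[R] T ⊗[S] A)
      fun c a => Algebra.commutes c _) (by
    let back : (T ⊗[S] A) →ₗ[S] ((T ⊗[S] R) ⊗[R] A) := TensorProduct.lift
      (LinearMap.mk₂ S (fun (t : T) (a : A) => (t ⊗ₜ[S] (1 : R)) ⊗ₜ[R] a)
        (fun t t' a => by rw [TensorProduct.add_tmul, TensorProduct.add_tmul])
        (fun c t a => by rw [← TensorProduct.smul_tmul', ← TensorProduct.smul_tmul'])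
        (fun t a a' => by rw [TensorProduct.tmul_add])
        (fun c t a => by
          rw [← algebraMap_smul R c a, ← TensorProduct.smul_tmul, TensorProduct.smul_tmul']
          congr 1
          rw [Algebra.smul_def, show algebraMap R (T ⊗[S] R) (algebraMap S R c) = (1 : T) ⊗ₜ[S] algebraMap S R c from rfl,
            Algebra.TensorProduct.tmul_mul_tmul, one_mul, mul_one, Algebra.algebraMap_eq_smul_one,
            TensorProduct.tmul_smul]))
    refine ⟨Function.LeftInverse.injective (g := back) fun z => ?_, fun y => ?_⟩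
    · induction z using TensorProduct.induction_on with
      | zero => simp
      | add p q hp hq => rw [map_add, map_add, hp, hq]
      | tmul c a =>
        induction c using TensorProduct.induction_on with
        | zero => simp
        | add p q hp hq => rw [TensorProduct.add_tmul, map_add, map_add, hp, hq]
        | tmul t r =>
          simp only [Algebra.TensorProduct.lift_tmul, Algebra.ofId_apply]
          show back (scalarHom S A T (t ⊗ₜ r) * ((1 : T) ⊗ₜ a)) = _
          simp only [scalarHom, Algebra.TensorProduct.map_tmul, AlgHom.id_apply, IsScalarTower.coe_toAlgHom',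
            Algebra.TensorProduct.tmul_mul_tmul, mul_one, ← Algebra.smul_def]
          show (t ⊗ₜ[S] (1 : R)) ⊗ₜ[R] (r • a) = _
          rw [← TensorProduct.smul_tmul, Algebra.smul_def,
            show algebraMap R (T ⊗[S] R) r = (1 : T) ⊗ₜ[S] r from rfl,
            Algebra.TensorProduct.tmul_mul_tmul, one_mul, mul_one]
    · induction y using TensorProduct.induction_on with
      | zero => exact ⟨0, map_zero _⟩
      | add p q hp hq =>
        obtain ⟨a, rfl⟩ := hp; obtain ⟨b, rfl⟩ := hq
        exact ⟨a + b, map_add _ _ _⟩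
      | tmul t a =>
        refine ⟨(t ⊗ₜ[S] (1 : R)) ⊗ₜ[R] a, ?_⟩
        simp only [Algebra.TensorProduct.lift_tmul, Algebra.ofId_apply]
        show scalarHom S A T (t ⊗ₜ 1) * ((1 : T) ⊗ₜ a) = _
        simp [scalarHom])

theorem isAzumaya_base [IsAzumaya R A] : IsAzumaya (T ⊗[S] R) (T ⊗[S] A) := by
  have := GrothLib.Azu.isAzumaya_baseChange R (T ⊗[S] R) A
  exact IsAzumaya.of_AlgEquiv _ _ _ (baseEquiv S A T)

theorem rankAtStalk_base [IsAzumaya R A] (q : PrimeSpectrum (T ⊗[S] R)) :
    Module.rankAtStalk (T ⊗[S] A) q =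
      Module.rankAtStalk A (PrimeSpectrum.comap (algebraMap R (T ⊗[S] R)) q) := by
  rw [← Module.rankAtStalk_baseChange, Module.rankAtStalk_eq_of_equiv (baseEquiv S A T).toLinearEquiv]

end Base

/-! ### Splitting -/

section Split

attribute [local instance] scalarAlgebra
attribute [local instance] Algebra.TensorProduct.rightAlgebra

variable {S : Type u} {R : Type v} [CommRing S] [CommRing R] [Algebra S R] (lam : R ≃ₐ[S] R)
  (A : Type w) [Ring A] [Algebra S A] [Algebra R A] [IsScalarTower S R A] [IsAzumaya R A] {n : ℕ}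

theorem isIntegral_of_fixed (hlam : ∀ r, lam (lam r) = r)
    (hfix : ∀ r, lam r = r → r ∈ Set.range (algebraMap S R)) : Algebra.IsIntegral S R := by
  refine ⟨fun r => ?_⟩
  obtain ⟨s, hs⟩ := hfix (r + lam r) (by rw [map_add, hlam, add_comm])
  obtain ⟨t, ht⟩ := hfix (r * lam r) (by rw [map_mul, hlam, mul_comm])
  refine ⟨Polynomial.X ^ 2 + (Polynomial.C (-s) * Polynomial.X + Polynomial.C t),
    Polynomial.monic_X_pow_add (Polynomial.degree_linear_le.trans_lt (by norm_num)), ?_⟩
  simp [hs, ht]
  ring

theorem exists_units_hull (hlam : ∀ r, lam (lam r) = r) (hinj : Function.Injective (algebraMap S R))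
    (hfix : ∀ r, lam r = r → r ∈ Set.range (algebraMap S R))
    (hrk : ∀ p : PrimeSpectrum R, Module.rankAtStalk A p = n ^ 2)
    (C : Type u) [Field C] [IsAlgClosed C] [Algebra S C] :
    ∃ E : Fin n → Fin n → Hull S C ⊗[S] A, (∀ i j k l, E i j * E k l = if j = k then E i l else 0) ∧
      ∑ i, E i i = 1 := by
  classical
  let H := Hull S C
  have : IsLocalRing H := hull_isLocalRing
  have : HenselianLocalRing H := hull_henselian
  have : IsSepClosed (IsLocalRing.ResidueField H) := hull_isSepClosed
  have := isIntegral_of_fixed lam hlam hfix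
  let RH := H ⊗[S] R
  have hint : Algebra.IsIntegral H RH := inferInstance
  let m := IsLocalRing.maximalIdeal H
  let lamH : RH →ₐ[H] RH := Algebra.TensorProduct.map (AlgHom.id H H) (lam : R →ₐ[S] R)
  have hlamH : ∀ x, lamH (lamH x) = x := fun x => by
    induction x using TensorProduct.induction_on with
    | zero => simp
    | add p q hp hq => rw [map_add, map_add, hp, hq]
    | tmul h r =>
      show h ⊗ₜ[S] lam (lam r) = _
      rw [hlam]
  have hfixH : ∀ x, lamH x = x → x ∈ Set.range (algebraMap H RH) := fun x hx => by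
    have hex : Function.Exact (Algebra.linearMap S R) ((lam.toLinearMap - LinearMap.id : R →ₗ[S] R)) := fun r => by
      rw [LinearMap.sub_apply, LinearMap.id_apply, sub_eq_zero]
      exact ⟨fun h => hfix r h, by rintro ⟨s, rfl⟩; exact lam.commutes s⟩
    obtain ⟨y, hy⟩ := (Module.Flat.lTensor_exact H hex x).1 (by
      have : ∀ z : RH, (lam.toLinearMap - LinearMap.id : R →ₗ[S] R).lTensor H z = lamH z - z := fun z => by
        induction z using TensorProduct.induction_on with
        | zero => simp
        | add p q hp hq => rw [map_add, map_add, hp, hq]; abel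
        | tmul h r =>
          rw [LinearMap.lTensor_tmul, LinearMap.sub_apply, TensorProduct.tmul_sub]
          rfl
      rw [this, hx, sub_self])
    induction y using TensorProduct.induction_on generalizing x with
    | zero => exact ⟨0, by simpa using hy⟩
    | add p q hp hq =>
      have hp' : ∀ z, (Algebra.linearMap S R).lTensor H z ∈ Set.range (algebraMap H RH) := fun z => by
        induction z using TensorProduct.induction_on with
        | zero => exact ⟨0, by simp⟩
        | add p q hp hq => obtain ⟨a, ha⟩ := hp; obtain ⟨b, hb⟩ := hq; exact ⟨a + b, by rw [map_add, map_add, ha, hb]⟩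
        | tmul h s =>
          refine ⟨s • h, ?_⟩
          show (s • h) ⊗ₜ[S] (1 : R) = h ⊗ₜ algebraMap S R s
          rw [Algebra.algebraMap_eq_smul_one, TensorProduct.smul_tmul]
      exact hy ▸ hp' _
    | tmul h s =>
      refine ⟨s • h, ?_⟩
      rw [← hy]
      show (s • h) ⊗ₜ[S] (1 : R) = h ⊗ₜ algebraMap S R s
      rw [Algebra.algebraMap_eq_smul_one, TensorProduct.smul_tmul]
  have hMm : ∀ M : MaximalSpectrum RH, M.asIdeal.comap (algebraMap H RH) = m := fun M => by
    have := M.isMaximal
    exact IsLocalRing.eq_maximalIdeal (Ideal.isMaximal_comap_of_isIntegral_of_isMaximal M.asIdeal)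
  have hfin : Finite (MaximalSpectrum RH) := by
    rcases isEmpty_or_nonempty (MaximalSpectrum RH) with h | ⟨⟨M₀⟩⟩
    · exact Finite.of_subsingleton
    let M₁ : Ideal RH := M₀.asIdeal.comap (lamH : RH →+* RH)
    have hkey : ∀ M : MaximalSpectrum RH, M.asIdeal = M₀.asIdeal ∨ M.asIdeal = M₁ := fun M => by
      have := M₀.isMaximal
      have hsub : (M.asIdeal : Set RH) ⊆ ↑M₀.asIdeal ∪ ↑M₁ := fun x hx => by
        obtain ⟨h, hh⟩ := hfixH (x * lamH x) (by rw [map_mul, hlamH, mul_comm])
        have h1 : h ∈ M.asIdeal.comap (algebraMap H RH) := by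
          rw [Ideal.mem_comap, hh]; exact M.asIdeal.mul_mem_right _ hx
        rw [hMm, ← hMm M₀, Ideal.mem_comap, hh] at h1
        exact M₀.isMaximal.isPrime.mem_or_mem h1
      rcases Ideal.subset_union.1 hsub with h | h
      · exact Or.inl (M.isMaximal.eq_of_le M₀.isMaximal.ne_top h)
      · exact Or.inr (M.isMaximal.eq_of_le (Ideal.comap_ne_top _ M₀.isMaximal.ne_top) h)
    refine Finite.of_injective (β := Bool) (fun M => decide (M.asIdeal = M₀.asIdeal)) fun M M' h => ?_
    refine MaximalSpectrum.ext ?_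
    simp only [decide_eq_decide] at h
    rcases hkey M with h1 | h1 <;> rcases hkey M' with h2 | h2
    · rw [h1, h2]
    · rw [h1, h.1 h1]
    · rw [h.2 h2, h2]
    · rw [h1, h2]
  have : HenselianRing H m := inferInstance
  have hB₁ : HenselianRing RH (m.map (algebraMap H RH)) := henselianRing_of_isIntegral m RH
  have hrad : (m.map (algebraMap H RH)).radical = ⨅ M : MaximalSpectrum RH, M.asIdeal := by
    refine le_antisymm (le_iInf fun M => ?_) ?_
    · rw [M.isMaximal.isPrime.isRadical.radical_le_iff, Ideal.map_le_iff_le_comap, hMm M]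
    · rw [Ideal.radical_eq_sInf]
      refine le_sInf fun P hP => ?_
      obtain ⟨hle, hPp⟩ := hP
      have hmax : (P.comap (algebraMap H RH)).IsMaximal := by
        have h1 : m ≤ P.comap (algebraMap H RH) := Ideal.map_le_iff_le_comap.1 hle
        rw [← (IsLocalRing.maximalIdeal.isMaximal H).eq_of_le (Ideal.comap_ne_top _ hPp.ne_top) h1]
        exact IsLocalRing.maximalIdeal.isMaximal H
      exact iInf_le_of_le (⟨P, Ideal.isMaximal_of_isIntegral_of_isMaximal_comap P hmax⟩ : MaximalSpectrum RH) le_rfl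
  have hhens : HenselianRing RH (⨅ M : MaximalSpectrum RH, M.asIdeal) :=
    hrad ▸ (henselianRing_iff_of_radical_eq (Ideal.radical_idem _).symm).mp hB₁
  have hsep : ∀ M : MaximalSpectrum RH, letI := Ideal.Quotient.field M.asIdeal; IsSepClosed (RH ⧸ M.asIdeal) := fun M => by
    let := Ideal.Quotient.field M.asIdeal
    let : Algebra (IsLocalRing.ResidueField H) (RH ⧸ M.asIdeal) :=
      (Ideal.Quotient.lift m (algebraMap H (RH ⧸ M.asIdeal)) fun a ha => by
        rw [← hMm M, Ideal.mem_comap] at ha
        exact Ideal.Quotient.eq_zero_iff_mem.2 ha).toAlgebra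
    have : IsScalarTower H (IsLocalRing.ResidueField H) (RH ⧸ M.asIdeal) := IsScalarTower.of_algebraMap_eq fun _ => rfl
    have : Algebra.IsIntegral (IsLocalRing.ResidueField H) (RH ⧸ M.asIdeal) := Algebra.IsIntegral.tower_top H
    exact isSepClosed_of_isAlgebraic (IsLocalRing.ResidueField H) _
  have := isAzumaya_base (R := R) S A H
  obtain ⟨e⟩ := nonempty_algEquiv_matrix_of_henselian hsep (H ⊗[S] A) (n := n) fun q => by
    rw [rankAtStalk_base (R := R) S A H q, hrk]
  refine ⟨fun i j => e.symm (Matrix.single i j 1), fun i j k l => ?_, ?_⟩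
  · rw [← map_mul]
    split_ifs with h
    · subst h; rw [Matrix.single_mul_single_same, one_mul]
    · rw [Matrix.single_mul_single_of_ne _ _ _ _ h, map_zero]
  · rw [← map_sum, Matrix.sum_single_one, map_one]

theorem exists_units_etale (hlam : ∀ r, lam (lam r) = r) (hinj : Function.Injective (algebraMap S R))
    (hfix : ∀ r, lam r = r → r ∈ Set.range (algebraMap S R))
    (hrk : ∀ p : PrimeSpectrum R, Module.rankAtStalk A p = n ^ 2) (p : PrimeSpectrum S) :
    ∃ (T : Type u) (_ : CommRing T) (_ : Algebra S T), Algebra.Etale S T ∧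
      p ∈ Set.range (PrimeSpectrum.comap (algebraMap S T)) ∧
      ∃ E : Fin n → Fin n → T ⊗[S] A, (∀ i j k l, E i j * E k l = if j = k then E i l else 0) ∧
        ∑ i, E i i = 1 := by
  classical
  let C := AlgebraicClosure p.asIdeal.ResidueField
  obtain ⟨E, hE, hE1⟩ := exists_units_hull lam A hlam hinj hfix hrk C
  obtain ⟨N, y, hy⟩ := exists_stage_family (fun q : Fin n × Fin n => E q.1 q.2)
  let φ := fun (M : Nbhd S C) => Algebra.TensorProduct.map (Hull.ι M) (AlgHom.id S A)
  have hφ : ∀ (M : Nbhd S C) (z : M.Ring ⊗[S] A), (Hull.ι M).toLinearMap.rTensor A z = φ M z := fun M z => rfl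
  let rel : (Fin n × Fin n) × (Fin n × Fin n) ⊕ Unit → N.Ring ⊗[S] A :=
    Sum.elim (fun q => y q.1 * y q.2 - if q.1.2 = q.2.1 then y (q.1.1, q.2.2) else 0) (fun _ => ∑ i, y (i, i) - 1)
  have hyy : ∀ q, φ N (y q) = E q.1 q.2 := fun q => (hφ N (y q)).symm.trans (hy q)
  obtain ⟨M, g, hg⟩ := exists_stage_zero_family Finset.univ rel (by
    rintro (⟨⟨i, j⟩, ⟨k, l⟩⟩ | u) -
    · simp only [rel, Sum.elim_inl]
      rw [hφ, map_sub, map_mul, hyy, hyy, hE, sub_eq_zero]
      split_ifs with h
      · rw [hyy]
      · rw [map_zero]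
    · simp only [rel, Sum.elim_inr]
      rw [hφ, map_sub, map_sum, map_one, sub_eq_zero, ← hE1]
      exact Finset.sum_congr rfl fun i _ => hyy (i, i))
  let ψ := Algebra.TensorProduct.map g.map (AlgHom.id S A)
  have hg' : ∀ r, ψ (rel r) = 0 := fun r => hg r (Finset.mem_univ r)
  refine ⟨M.Ring, inferInstance, inferInstance, inferInstance, ⟨⟨RingHom.ker M.pt.toRingHom, RingHom.ker_isPrime _⟩, ?_⟩,
    fun i j => ψ (y (i, j)), fun i j k l => ?_, ?_⟩
  · refine PrimeSpectrum.ext (Ideal.ext fun s => ?_)
    show M.pt (algebraMap S M.Ring s) = 0 ↔ _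
    rw [M.pt.commutes, IsScalarTower.algebraMap_apply S p.asIdeal.ResidueField C,
      map_eq_zero_iff _ (RingHom.injective _), Ideal.algebraMap_residueField_eq_zero]
  · have h := hg' (Sum.inl ((i, j), (k, l)))
    simp only [rel, Sum.elim_inl, map_sub, map_mul, sub_eq_zero] at h
    rw [h]
    split_ifs with hjk
    · rfl
    · rw [map_zero]
  · have h := hg' (Sum.inr ())
    simp only [rel, Sum.elim_inr, map_sub, map_sum, map_one, sub_eq_zero] at h
    exact h

theorem exists_etale_split (hlam : ∀ r, lam (lam r) = r) (hinj : Function.Injective (algebraMap S R))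
    (hfix : ∀ r, lam r = r → r ∈ Set.range (algebraMap S R)) (hn : 0 < n)
    (hrk : ∀ p : PrimeSpectrum R, Module.rankAtStalk A p = n ^ 2) :
    ∃ (S' : Type u) (_ : CommRing S') (_ : Algebra S S') (_ : Algebra.Etale S S')
      (_ : Module.FaithfullyFlat S S') (f : S' ⊗[S] A ≃ₐ[S'] Matrix (Fin n) (Fin n) (S' ⊗[S] R)),
      ∀ (r : R) (x : S' ⊗[S] A),
        f (((1 : S') ⊗ₜ[S] algebraMap R A r) * x) = Matrix.scalar (Fin n) ((1 : S') ⊗ₜ[S] r) * f x := by
  classical
  have : Nonempty (Fin n) := ⟨⟨0, hn⟩⟩
  choose T hT1 hT2 hTe hTp E hE hE1 using exists_units_etale lam A hlam hinj hfix hrk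
  have hopen : ∀ p, IsOpen (Set.range (PrimeSpectrum.comap (algebraMap S (T p)))) := fun p => by
    have := hTe p
    exact (PrimeSpectrum.isOpenMap_comap_of_hasGoingDown_of_finitePresentation (R := S) (S := T p)).isOpen_range
  obtain ⟨t, ht⟩ := isCompact_univ.elim_finite_subcover _ hopen fun p _ => Set.mem_iUnion.2 ⟨p, hTp p⟩
  let S' := ∀ i : ↥t, T i
  have hflat : ∀ i : ↥t, Module.Flat S (T i) := fun i => by have := hTe i; infer_instance
  have hS'e : Algebra.Etale S S' := by
    have : ∀ i : ↥t, Algebra.Etale S (T i) := fun i => hTe i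
    infer_instance
  have hff : Module.FaithfullyFlat S S' := by
    have : Module.Flat S S' :=
      Module.Flat.of_linearEquiv (DirectSum.linearEquivFunOnFintype S ↥t fun i : ↥t => T i).symm
    refine Module.FaithfullyFlat.of_comap_surjective fun p => ?_
    obtain ⟨i, hi, q, hq⟩ := Set.mem_iUnion₂.1 (ht (Set.mem_univ p))
    exact ⟨PrimeSpectrum.comap (Pi.evalRingHom (fun i : ↥t => T i) ⟨i, hi⟩) q, hq ▸ PrimeSpectrum.ext rfl⟩
  -- matrix units over the product
  let inc : ∀ i : ↥t, T i ⊗[S] A →ₗ[S] S' ⊗[S] A := fun i => (LinearMap.single S (fun i : ↥t => T i) i).rTensor A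
  have hinc : ∀ (i j : ↥t) (a : T i ⊗[S] A) (b : T j ⊗[S] A), i ≠ j → inc i a * inc j b = 0 := fun i j a b hij => by
    induction a using TensorProduct.induction_on with
    | zero => simp
    | add p q hp hq => rw [map_add, add_mul, hp, hq, add_zero]
    | tmul s x =>
      induction b using TensorProduct.induction_on with
      | zero => simp
      | add p q hp hq => rw [map_add, mul_add, hp, hq, add_zero]
      | tmul s' x' =>
        simp only [inc, LinearMap.rTensor_tmul, LinearMap.coe_single, Algebra.TensorProduct.tmul_mul_tmul]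
        rw [show (Pi.single i s : S') * Pi.single j s' = 0 from funext fun l => by
          show (Pi.single i s : S') l * (Pi.single j s' : S') l = 0
          rcases eq_or_ne l i with rfl | hl
          · rw [Pi.single_eq_of_ne hij, mul_zero]
          · rw [Pi.single_eq_of_ne hl, zero_mul], TensorProduct.zero_tmul]
  have hinc' : ∀ (i : ↥t) (a b : T i ⊗[S] A), inc i a * inc i b = inc i (a * b) := fun i a b => by
    induction a using TensorProduct.induction_on with
    | zero => simp
    | add p q hp hq => rw [map_add, add_mul, hp, hq, add_mul, map_add]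
    | tmul s x =>
      induction b using TensorProduct.induction_on with
      | zero => simp
      | add p q hp hq => rw [map_add, mul_add, hp, hq, mul_add, map_add]
      | tmul s' x' => simp [inc, Algebra.TensorProduct.tmul_mul_tmul, Pi.single_mul]
  let U : Fin n → Fin n → S' ⊗[S] A := fun a b => ∑ i, inc i (E i a b)
  have hU : ∀ a b c d, U a b * U c d = if b = c then U a d else 0 := fun a b c d => by
    simp only [U]
    rw [Finset.sum_mul]
    refine (Finset.sum_congr rfl fun i _ => (Finset.mul_sum _ _ _).trans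
      (Finset.sum_eq_single i (fun j _ hj => hinc i j _ _ hj.symm) (fun h => absurd (Finset.mem_univ i) h))).trans ?_
    simp only [hinc', hE]
    split_ifs with h
    · rfl
    · simp
  have hU1 : ∑ a, U a a = 1 := by
    simp only [U]
    rw [Finset.sum_comm]
    simp only [← map_sum, hE1, Algebra.TensorProduct.one_def, inc, LinearMap.rTensor_tmul, LinearMap.coe_single]
    rw [← TensorProduct.sum_tmul, Finset.univ_sum_single]
    rfl
  -- the algebra map
  have := isAzumaya_base (R := R) S A S'
  have : IsAzumaya (S' ⊗[S] R) (Matrix (Fin n) (Fin n) (S' ⊗[S] R)) := IsAzumaya.matrix _ _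
  let R' := S' ⊗[S] R
  let σ : R' →+* S' ⊗[S] A := algebraMap R' (S' ⊗[S] A)
  have hσ : ∀ (c c' : R') (x x' : S' ⊗[S] A), σ c * x * (σ c' * x') = σ (c * c') * (x * x') := fun c c' x x' => by
    rw [map_mul, mul_assoc, ← mul_assoc x, ← Algebra.commutes c' x, mul_assoc, ← mul_assoc]
  let G : Matrix (Fin n) (Fin n) R' →ₐ[R'] S' ⊗[S] A := AlgHom.ofLinearMap
    { toFun := fun M => ∑ a, ∑ b, σ (M a b) * U a b
      map_add' := fun M M' => by simp only [Matrix.add_apply, map_add, add_mul, Finset.sum_add_distrib]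
      map_smul' := fun c M => by
        simp only [RingHom.id_apply, Matrix.smul_apply, smul_eq_mul, Algebra.smul_def c (∑ a, ∑ b, σ (M a b) * U a b),
          Finset.mul_sum, map_mul]
        exact Finset.sum_congr rfl fun a _ => Finset.sum_congr rfl fun b _ => mul_assoc _ _ _ }
    (by
      show ∑ a, ∑ b, σ ((1 : Matrix (Fin n) (Fin n) R') a b) * U a b = 1
      rw [← hU1]
      refine Finset.sum_congr rfl fun a _ => ?_
      rw [Finset.sum_eq_single a (fun b _ hb => by rw [Matrix.one_apply_ne hb.symm, map_zero, zero_mul]) (by simp),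
        Matrix.one_apply_eq, map_one, one_mul])
    (fun M M' => by
      show ∑ a, ∑ b, σ ((M * M') a b) * U a b = (∑ a, ∑ b, σ (M a b) * U a b) * ∑ a, ∑ b, σ (M' a b) * U a b
      rw [Finset.sum_mul]
      refine Finset.sum_congr rfl fun a _ => ?_
      rw [Finset.sum_mul]
      simp only [Finset.mul_sum, hσ, hU, mul_ite, mul_zero, Matrix.mul_apply, map_sum, Finset.sum_mul,
        Finset.sum_ite_irrel, Finset.sum_const_zero, Finset.sum_ite_eq, Finset.mem_univ, if_true]
      exact Finset.sum_comm)
  have hbij : Function.Bijective G := hom_bijective G fun q => by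
    have := q.nontrivial
    rw [rankAtStalk_base (R := R) S A S' q, hrk, Module.rankAtStalk_eq_finrank_of_free, Pi.natCast_apply,
      Nat.cast_id, Module.finrank_matrix, Module.finrank_self, Fintype.card_fin, mul_one, pow_two]
  let F := (AlgEquiv.ofBijective G hbij).symm
  have hcomm : ∀ c : S', F (algebraMap S' (S' ⊗[S] A) c) = algebraMap S' (Matrix (Fin n) (Fin n) R') c := fun c => by
    have h1 : algebraMap S' (S' ⊗[S] A) c = algebraMap R' (S' ⊗[S] A) (algebraMap S' R' c) :=
      ((scalarHom S A S').commutes c).symm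
    rw [h1, F.commutes]
    rfl
  refine ⟨S', inferInstance, inferInstance, hS'e, hff, AlgEquiv.ofRingEquiv (f := F.toRingEquiv) hcomm, fun r x => ?_⟩
  show F (_ * x) = _ * F x
  rw [map_mul, show ((1 : S') ⊗ₜ[S] algebraMap R A r : S' ⊗[S] A) = algebraMap R' _ ((1 : S') ⊗ₜ[S] r) from by
    show _ = scalarHom S A S' _
    simp [scalarHom], F.commutes]
  rfl

end Split

end GrothLib.AzMod
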