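import Groth.Agent.Lib.AzMod.Core
import Mathlib.RingTheory.PicardGroup

set_option autoImplicit false

/-!
# The Skolem–Noether theorem for Azumaya algebras
-/

universe u v w w'

open scoped TensorProduct
open MulOpposite

namespace GrothLib.AzMod

variable {R : Type u} [CommRing R]

section Pairing

variable {L : Type v} [AddCommGroup L] [Module R L] {L' : Type w} [AddCommGroup L'] [Module R L']
  (r : L →ₗ[R] L' →ₗ[R] R) (s : L' →ₗ[R] L →ₗ[R] R)

/-- A pairing which has the associativity of a Morita context and whose values generate `R`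
identifies `L ⊗ L'` with `R`. -/
theorem pairing_bijective (h1 : ∀ x y z, r x y • z = s y z • x) (h2 : ∀ x y w, s y x • w = r x w • y)
    {n : ℕ} (z : Fin n → L) (w : Fin n → L') (hzw : ∑ i, r (z i) (w i) = 1) :
    Function.Bijective (TensorProduct.lift r) := by
  let ψ : R →ₗ[R] L ⊗[R] L' := LinearMap.toSpanSingleton R _ (∑ i, z i ⊗ₜ w i)
  refine ⟨Function.LeftInverse.injective (g := ψ) fun t => ?_,
    Function.RightInverse.surjective (g := ψ) fun c => ?_⟩
  · induction t using TensorProduct.induction_on with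
    | zero => simp
    | add p q hp hq => rw [map_add, map_add, hp, hq]
    | tmul x y =>
      simp only [ψ, TensorProduct.lift.tmul, LinearMap.toSpanSingleton_apply, Finset.smul_sum]
      conv_rhs => rw [← one_smul R x, ← hzw, Finset.sum_smul, TensorProduct.sum_tmul]
      refine Finset.sum_congr rfl fun i _ => ?_
      rw [h1 (z i) (w i) x, TensorProduct.smul_tmul, h2 x (w i) y, TensorProduct.tmul_smul]
  · simp [ψ, Finset.smul_sum, ← Finset.mul_sum, hzw]

theorem invertible_of_pairing (h1 : ∀ x y z, r x y • z = s y z • x) (h2 : ∀ x y w, s y x • w = r x w • y)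
    {n : ℕ} (z : Fin n → L) (w : Fin n → L') (hzw : ∑ i, r (z i) (w i) = 1) :
    Module.Invertible R L :=
  Module.Invertible.left (LinearEquiv.ofBijective _ (pairing_bijective r s h1 h2 z w hzw))

end Pairing

variable {A : Type v} [Ring A] [Algebra R A]

/-- The elements `z` with `u a * z = z * a`. -/
def twistFixed (u : A →ₐ[R] A) : Submodule R A :=
  ⨅ a : A, LinearMap.ker (LinearMap.mulLeft R (u a) - LinearMap.mulRight R a)

theorem mem_twistFixed {u : A →ₐ[R] A} {z : A} : z ∈ twistFixed u ↔ ∀ a : A, u a * z = z * a := by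
  simp [twistFixed, sub_eq_zero]

variable [IsAzumaya R A]

omit [IsAzumaya R A] in
theorem twistFixed_eq_fixed (u : A →ₐ[R] A) :
    twistFixed u = fixed ((AlgHom.mulLeftRight R A).comp
      (Algebra.TensorProduct.map u (AlgHom.id R Aᵐᵒᵖ))) := by
  ext z; simp [mem_twistFixed, mem_fixed]

theorem exists_sum_twistFixed (u : A →ₐ[R] A) :
    ∃ (n : ℕ) (a : Fin n → A) (z : Fin n → twistFixed u), ∑ i, u (a i) * (z i : A) = 1 := by
  rw [twistFixed_eq_fixed]
  obtain ⟨n, a, z, h⟩ := exists_sum_eq ((AlgHom.mulLeftRight R A).comp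
      (Algebra.TensorProduct.map u (AlgHom.id R Aᵐᵒᵖ))) 1
  exact ⟨n, a, z, by simpa using h⟩

theorem mul_twistFixed_mem (u : A ≃ₐ[R] A) (z : twistFixed (u : A →ₐ[R] A))
    (w : twistFixed (u.symm : A →ₐ[R] A)) : ∃ r : R, (z : A) * w = algebraMap R A r := by
  refine exists_eq_algebraMap_of_forall_commute fun a => ?_
  have h1 := mem_twistFixed.1 z.2 (u.symm a)
  have h2 := mem_twistFixed.1 w.2 a
  simp only [AlgEquiv.coe_toAlgHom, AlgEquiv.apply_symm_apply] at h1 h2
  rw [← mul_assoc, h1, mul_assoc, h2, ← mul_assoc]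

theorem mul_twistFixed_mem' (u : A ≃ₐ[R] A) (z : twistFixed (u : A →ₐ[R] A))
    (w : twistFixed (u.symm : A →ₐ[R] A)) : ∃ r : R, (w : A) * z = algebraMap R A r :=
  mul_twistFixed_mem u.symm w z

/-- The values `z * w` generate the unit ideal. -/
theorem exists_mul_notMem (u : A ≃ₐ[R] A) (p : Ideal R) (hp : p ≠ ⊤) :
    ∃ (z : twistFixed (u : A →ₐ[R] A)) (w : twistFixed (u.symm : A →ₐ[R] A)) (r : R),
      (z : A) * w = algebraMap R A r ∧ r ∉ p := by
  by_contra hcon
  push Not at hcon
  obtain ⟨n, a, z, hz⟩ := exists_sum_twistFixed (u : A →ₐ[R] A)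
  obtain ⟨m, b, w, hw⟩ := exists_sum_twistFixed (u.symm : A →ₐ[R] A)
  have h1 : (1 : A) ∈ Ideal.map (algebraMap R A) p := by
    rw [← hz]
    refine sum_mem fun i _ => Ideal.mul_mem_left _ _ ?_
    rw [← mul_one (z i : A), ← hw, Finset.mul_sum]
    refine sum_mem fun j _ => ?_
    have h2 := mem_twistFixed.1 (z i).2 (u.symm (b j))
    simp only [AlgEquiv.coe_toAlgHom, AlgEquiv.apply_symm_apply] at h2
    rw [← mul_assoc, AlgEquiv.coe_toAlgHom, ← h2, mul_assoc]
    obtain ⟨r, hr⟩ := mul_twistFixed_mem u (z i) (w j)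
    rw [hr]
    exact Ideal.mul_mem_left _ _ (Ideal.mem_map_of_mem _ (hcon _ _ _ hr))
  have h2 : (1 : R) ∈ (Ideal.map (algebraMap R A) p).comap (algebraMap R A) := by simpa using h1
  rw [comap_map_eq] at h2
  exact hp ((Ideal.eq_top_iff_one _).2 h2)

/-- If `z w = r` and `w z = s` for twisted central `z`, `w` then `(r - s) r = 0`. -/
theorem sub_mul_eq_zero_of_mul {z w : A} {r s : R} (h1 : z * w = algebraMap R A r)
    (h2 : w * z = algebraMap R A s) : (r - s) * r = 0 := by
  apply algebraMap_injective (R := R) (A := A)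
  have h3 : algebraMap R A (r - s) * z = 0 := by
    rw [map_sub, sub_mul, ← h1, Algebra.commutes s z, ← h2, mul_assoc, sub_self]
  rw [map_mul, map_zero, ← h1, ← mul_assoc, h3, zero_mul]

/-- Over a local ring every automorphism of an Azumaya algebra is inner. -/
theorem exists_unit_conj [IsLocalRing R] (u : A ≃ₐ[R] A) :
    ∃ a : Aˣ, ∀ x : A, u x = (a : A) * x * (a⁻¹ : Aˣ) := by
  obtain ⟨z, w, r, hr, hrm⟩ :=
    exists_mul_notMem u (IsLocalRing.maximalIdeal R) (IsLocalRing.maximalIdeal.isMaximal R).ne_top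
  have hru : IsUnit r := by simpa using hrm
  obtain ⟨s, hs⟩ := mul_twistFixed_mem' u z w
  have hsr : s = r := (sub_eq_zero.1 (hru.mul_left_eq_zero.1 (sub_mul_eq_zero_of_mul hr hs))).symm
  obtain ⟨r, rfl⟩ := hru
  let a : Aˣ := ⟨z, (↑r⁻¹ : R) • (w : A),
    by rw [mul_smul_comm, hr, Algebra.smul_def, ← map_mul, Units.inv_mul, map_one],
    by rw [smul_mul_assoc, hs, hsr, Algebra.smul_def, ← map_mul, Units.inv_mul, map_one]⟩
  refine ⟨a, fun x => ?_⟩
  have h := mem_twistFixed.1 z.2 x
  simp only [AlgEquiv.coe_toAlgHom] at h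
  rw [show ((a : A)) = z from rfl, ← h, mul_assoc, show (z : A) = a from rfl, Units.mul_inv, mul_one]

theorem twistFixed_invertible (u : A ≃ₐ[R] A) : Module.Invertible R (twistFixed (u : A →ₐ[R] A)) := by
  obtain ⟨g, hg⟩ := exists_dual_one (R := R) (A := A)
  have hgm : ∀ c : R, g (algebraMap R A c) = c := fun c => by
    rw [Algebra.algebraMap_eq_smul_one, map_smul, hg, smul_eq_mul, mul_one]
  let r : twistFixed (u : A →ₐ[R] A) →ₗ[R] twistFixed (u.symm : A →ₐ[R] A) →ₗ[R] R :=
    ((LinearMap.mul R A).compr₂ g).compl₁₂ (twistFixed _).subtype (twistFixed _).subtype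
  let s : twistFixed (u.symm : A →ₐ[R] A) →ₗ[R] twistFixed (u : A →ₐ[R] A) →ₗ[R] R :=
    ((LinearMap.mul R A).compr₂ g).compl₁₂ (twistFixed _).subtype (twistFixed _).subtype
  have hr : ∀ z w, algebraMap R A (r z w) = (z : A) * w := fun z w => by
    obtain ⟨c, hc⟩ := mul_twistFixed_mem u z w
    simp [r, hc, hgm]
  have hs : ∀ w z, algebraMap R A (s w z) = (w : A) * z := fun w z => by
    obtain ⟨c, hc⟩ := mul_twistFixed_mem' u z w
    simp [s, hc, hgm]
  have hJ : Ideal.span (Set.range fun p : _ × _ => r p.1 p.2) = ⊤ := by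
    by_contra hne
    obtain ⟨z, w, c, hc, hcm⟩ := exists_mul_notMem u _ hne
    refine hcm (Ideal.subset_span ⟨(z, w), ?_⟩)
    exact algebraMap_injective (A := A) ((hr z w).trans hc)
  obtain ⟨c, hc⟩ := (Finsupp.mem_span_range_iff_exists_finsupp).1
    (hJ ▸ Submodule.mem_top : (1 : R) ∈ Ideal.span (Set.range fun p : _ × _ => r p.1 p.2))
  refine invertible_of_pairing r s (fun x y z => Subtype.ext ?_) (fun x y w => Subtype.ext ?_)
    (fun i => c (c.support.equivFin.symm i).1 • (c.support.equivFin.symm i).1.1)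
    (fun i => (c.support.equivFin.symm i).1.2) ?_
  · show r x y • (z : A) = s y z • (x : A)
    rw [Algebra.smul_def, Algebra.smul_def, hr, Algebra.commutes, hs, mul_assoc]
  · show s y x • (w : A) = r x w • (y : A)
    rw [Algebra.smul_def, Algebra.smul_def, hs, Algebra.commutes, hr, mul_assoc]
  · rw [← hc, Finsupp.sum, ← Finset.sum_coe_sort c.support, ← c.support.equivFin.symm.sum_comp]
    simp

end GrothLib.AzMod
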