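import Groth.Agent.Lib.AzMod.LG

set_option autoImplicit false

/-!
# Cancellation of Azumaya algebras over LG-rings
-/

universe u v w w' w''

open scoped TensorProduct

namespace GrothLib.AzMod

variable {R : Type u} [CommRing R]

/-- The trace ideal of a faithful finite projective module is the unit ideal. -/
theorem exists_sum_dual_eq_one (P : Type v) [AddCommGroup P] [Module R P] [Module.Finite R P]
    [Module.Projective R P] [FaithfulSMul R P] :
    ∃ (n : ℕ) (y : Fin n → P) (g : Fin n → P →ₗ[R] R), ∑ i, g i (y i) = 1 := by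
  let T : Module.Dual R P ⊗[R] P →ₗ[R] R := contractLeft R P
  have hJ : LinearMap.range T = ⊤ := by
    refine eq_top_of_top_le_smul (M := P) fun x _ => ?_
    obtain ⟨n, y, g, hy⟩ := exists_dualBasis (R := R) P
    rw [← hy x]
    exact sum_mem fun i _ => Submodule.smul_mem_smul ⟨g i ⊗ₜ x, rfl⟩ Submodule.mem_top
  obtain ⟨t, ht⟩ : (1 : R) ∈ LinearMap.range T := hJ ▸ Submodule.mem_top
  obtain ⟨s, rfl⟩ := TensorProduct.exists_finset t
  refine ⟨s.card, fun i => (s.equivFin.symm i).1.2, fun i => (s.equivFin.symm i).1.1, ?_⟩
  rw [← ht, map_sum, ← Finset.sum_coe_sort s, ← s.equivFin.symm.sum_comp]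
  simp [T]

theorem rankAtStalk_pos (P : Type v) [AddCommGroup P] [Module R P] [Module.Finite R P]
    [Module.Projective R P] [FaithfulSMul R P] (p : PrimeSpectrum R) :
    0 < Module.rankAtStalk P p := by
  have := GrothLib.Azu.faithfullyFlat_of_faithfulSMul (R := R) P
  rw [Module.rankAtStalk_eq]
  exact Module.finrank_pos

theorem rankAtStalk_end (P : Type v) [AddCommGroup P] [Module R P] [Module.Finite R P]
    [Module.Projective R P] (p : PrimeSpectrum R) :
    Module.rankAtStalk (Module.End R P) p = Module.rankAtStalk P p ^ 2 := by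
  obtain ⟨_, _⟩ := GrothLib.Azu.finite_projective_end R P
  rw [Module.rankAtStalk_eq, Module.rankAtStalk_eq,
    (LinearEquiv.ofBijective _
      (GrothLib.Azu.bijective_tensorProductEnd R p.asIdeal.ResidueField P)).finrank_eq]
  exact (Module.finrank_linearMap _ _ _ _).trans (sq _).symm

variable {A : Type v} [Ring A] [Algebra R A]

section Rep

variable (R A) (P : Type w) [AddCommGroup P] [Module R P]

/-- `A ⊗ P` as a module over `A ⊗ End P`. -/
noncomputable def tensorRep : A ⊗[R] Module.End R P →ₐ[R] Module.End R (A ⊗[R] P) :=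
  (Module.endTensorEndAlgHom (R := R) (S := R) (A := R) (M := A) (N := P)).comp
    (Algebra.TensorProduct.map (Algebra.lmul R A) (AlgHom.id R (Module.End R P)))

@[simp] theorem tensorRep_tmul (a b : A) (T : Module.End R P) (q : P) :
    tensorRep R A P (a ⊗ₜ T) (b ⊗ₜ q) = (a * b) ⊗ₜ T q := rfl

/-- Right multiplication on `A ⊗ P`. -/
noncomputable def rightMul (a : A) : Module.End R (A ⊗[R] P) :=
  (LinearMap.mulRight R a).rTensor P

@[simp] theorem rightMul_tmul (a b : A) (q : P) : rightMul R A P a (b ⊗ₜ q) = (b * a) ⊗ₜ q := rfl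

theorem rightMul_comm (a : A) (c : A ⊗[R] Module.End R P) (t : A ⊗[R] P) :
    rightMul R A P a (tensorRep R A P c t) = tensorRep R A P c (rightMul R A P a t) := by
  induction c using TensorProduct.induction_on with
  | zero => simp
  | add x y hx hy => simp only [map_add, LinearMap.add_apply, hx, hy]
  | tmul b T =>
    induction t using TensorProduct.induction_on with
    | zero => simp
    | add x y hx hy => simp only [map_add, hx, hy]
    | tmul b' q => simp [mul_assoc]

theorem rightMul_mul (a a' : A) : rightMul R A P (a * a') = rightMul R A P a' * rightMul R A P a :=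
  TensorProduct.ext' fun b q => by simp [mul_assoc]

variable [Module.Finite R P] [Module.Projective R P] [FaithfulSMul R P]

/-- A commutant of `tensorRep` is a right multiplication. -/
theorem exists_rightMul_eq (F : Module.End R (A ⊗[R] P))
    (hF : ∀ c t, F (tensorRep R A P c t) = tensorRep R A P c (F t)) :
    ∃ a, rightMul R A P a = F := by
  obtain ⟨n, y, g, hg⟩ := exists_sum_dual_eq_one (R := R) P
  refine ⟨∑ k, TensorProduct.rid R A ((g k).lTensor A (F ((1 : A) ⊗ₜ y k))), TensorProduct.ext' fun b q => ?_⟩
  have h1 : b ⊗ₜ[R] q = ∑ k, tensorRep R A P (b ⊗ₜ (g k).smulRight q) ((1 : A) ⊗ₜ y k) := by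
    simp [← TensorProduct.tmul_sum, ← Finset.sum_smul, hg]
  rw [h1, map_sum F]
  simp only [hF]
  have h2 : ∀ k (t : A ⊗[R] P), tensorRep R A P (b ⊗ₜ (g k).smulRight q) t =
      (b * TensorProduct.rid R A ((g k).lTensor A t)) ⊗ₜ q := fun k t => by
    induction t using TensorProduct.induction_on with
    | zero => simp
    | add x y hx hy => simp only [map_add, hx, hy, mul_add, TensorProduct.add_tmul]
    | tmul c z => simp [TensorProduct.smul_tmul]
  simp only [h2, ← h1, rightMul_tmul, ← Finset.mul_sum, ← TensorProduct.sum_tmul]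
  simp [← Finset.sum_smul, hg]

theorem rightMul_injective : Function.Injective (rightMul R A P) := by
  intro a a' h
  obtain ⟨n, y, g, hg⟩ := exists_sum_dual_eq_one (R := R) P
  have h1 : ∀ a : A, ∑ k, TensorProduct.rid R A ((g k).lTensor A (rightMul R A P a ((1 : A) ⊗ₜ y k))) = a :=
    fun a => by simp [← Finset.sum_smul, hg]
  rw [← h1 a, ← h1 a', h]

end Rep

/-- Two Azumaya algebras of the same rank with isomorphic amplifications are isomorphic. -/
theorem nonempty_algEquiv_of_tensor_end (hR : LGRing.IsLGRing R) (A : Type v) (B : Type w) [Ring A]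
    [Algebra R A] [IsAzumaya R A] [Ring B] [Algebra R B] [IsAzumaya R B]
    (hdeg : ∀ p : PrimeSpectrum R, Module.rankAtStalk A p = Module.rankAtStalk B p)
    (P : Type w') (Q : Type w'') [AddCommGroup P] [Module R P] [Module.Finite R P]
    [Module.Projective R P] [FaithfulSMul R P] [AddCommGroup Q] [Module R Q] [Module.Finite R Q]
    [Module.Projective R Q] [FaithfulSMul R Q]
    (e : A ⊗[R] Module.End R P ≃ₐ[R] B ⊗[R] Module.End R Q) : Nonempty (A ≃ₐ[R] B) := by
  have := GrothLib.Azu.isAzumaya_end R P
  have := GrothLib.Azu.isAzumaya_tensor R A (Module.End R P)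
  let : Module (A ⊗[R] Module.End R P) (A ⊗[R] P) := Module.compHom _ (tensorRep R A P).toRingHom
  let : Module (A ⊗[R] Module.End R P) (B ⊗[R] Q) :=
    Module.compHom _ ((tensorRep R B Q).comp (e : _ →ₐ[R] _)).toRingHom
  have : IsScalarTower R (A ⊗[R] Module.End R P) (A ⊗[R] P) := ⟨fun r c x => by
    show tensorRep R A P (r • c) x = r • tensorRep R A P c x
    rw [map_smul]; rfl⟩
  have : IsScalarTower R (A ⊗[R] Module.End R P) (B ⊗[R] Q) := ⟨fun r c x => by
    show tensorRep R B Q (e (r • c)) x = r • tensorRep R B Q (e c) x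
    rw [map_smul, map_smul]; rfl⟩
  have hsP : ∀ (c : A ⊗[R] Module.End R P) (x : A ⊗[R] P), c • x = tensorRep R A P c x := fun _ _ => rfl
  have hsQ : ∀ (c : A ⊗[R] Module.End R P) (x : B ⊗[R] Q), c • x = tensorRep R B Q (e c) x := fun _ _ => rfl
  -- both are finite projective over `A ⊗ End P`
  obtain ⟨n, y, g, hg⟩ := exists_sum_dual_eq_one (R := R) P
  obtain ⟨m, z, f, hf⟩ := exists_sum_dual_eq_one (R := R) Q
  let iP : A ⊗[R] P →ₗ[A ⊗[R] Module.End R P] (Fin n → A ⊗[R] Module.End R P) :=
    { toFun := fun x k => (LinearMap.smulRightₗ (g k)).lTensor A x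
      map_add' := fun x y => funext fun k => map_add _ _ _
      map_smul' := fun c x => funext fun k => by
        rw [hsP, RingHom.id_apply, Pi.smul_apply, smul_eq_mul]
        induction c using TensorProduct.induction_on with
        | zero => simp
        | add p q hp hq => rw [map_add, LinearMap.add_apply, map_add, hp, hq, add_mul]
        | tmul a T =>
          induction x using TensorProduct.induction_on with
          | zero => simp
          | add p q hp hq => rw [map_add, map_add, map_add, hp, hq, mul_add]
          | tmul b q =>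
            simp only [tensorRep_tmul, LinearMap.lTensor_tmul, Algebra.TensorProduct.tmul_mul_tmul]
            congr 1
            ext s
            simp }
  let rP : (Fin n → A ⊗[R] Module.End R P) →ₗ[A ⊗[R] Module.End R P] A ⊗[R] P :=
    Fintype.linearCombination _ fun k => (1 : A) ⊗ₜ[R] y k
  have hrP : rP ∘ₗ iP = LinearMap.id := by
    refine LinearMap.ext fun x => ?_
    show rP (iP x) = x
    simp only [rP, iP, Fintype.linearCombination_apply, LinearMap.coe_mk, AddHom.coe_mk, hsP]
    induction x using TensorProduct.induction_on with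
    | zero => simp
    | add p q hp hq => simp only [map_add, LinearMap.add_apply, Finset.sum_add_distrib, hp, hq]
    | tmul a q => simp [← TensorProduct.tmul_sum, ← Finset.sum_smul, hg]
  have : Module.Projective (A ⊗[R] Module.End R P) (A ⊗[R] P) := Module.Projective.of_split iP rP hrP
  have : Module.Finite (A ⊗[R] Module.End R P) (A ⊗[R] P) :=
    Module.Finite.of_surjective rP fun x => ⟨iP x, LinearMap.congr_fun hrP x⟩
  let iQ : B ⊗[R] Q →ₗ[A ⊗[R] Module.End R P] (Fin m → A ⊗[R] Module.End R P) :=
    { toFun := fun x k => e.symm ((LinearMap.smulRightₗ (f k)).lTensor B x)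
      map_add' := fun x y => funext fun k => by simp [map_add]
      map_smul' := fun c x => funext fun k => by
        rw [hsQ, RingHom.id_apply, Pi.smul_apply, smul_eq_mul, AlgEquiv.symm_apply_eq, map_mul,
          AlgEquiv.apply_symm_apply]
        generalize e c = c'
        induction c' using TensorProduct.induction_on with
        | zero => simp
        | add p q hp hq => rw [map_add, LinearMap.add_apply, map_add, hp, hq, add_mul]
        | tmul a T =>
          induction x using TensorProduct.induction_on with
          | zero => simp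
          | add p q hp hq => rw [map_add, map_add, map_add, hp, hq, mul_add]
          | tmul b q =>
            simp only [tensorRep_tmul, LinearMap.lTensor_tmul, Algebra.TensorProduct.tmul_mul_tmul]
            congr 1
            ext s
            simp }
  let rQ : (Fin m → A ⊗[R] Module.End R P) →ₗ[A ⊗[R] Module.End R P] B ⊗[R] Q :=
    Fintype.linearCombination _ fun k => (1 : B) ⊗ₜ[R] z k
  have hrQ : rQ ∘ₗ iQ = LinearMap.id := by
    refine LinearMap.ext fun x => ?_
    show rQ (iQ x) = x
    simp only [rQ, iQ, Fintype.linearCombination_apply, LinearMap.coe_mk, AddHom.coe_mk, hsQ,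
      AlgEquiv.apply_symm_apply]
    induction x using TensorProduct.induction_on with
    | zero => simp
    | add p q hp hq => simp only [map_add, LinearMap.add_apply, Finset.sum_add_distrib, hp, hq]
    | tmul a q => simp [← TensorProduct.tmul_sum, ← Finset.sum_smul, hf]
  have : Module.Projective (A ⊗[R] Module.End R P) (B ⊗[R] Q) := Module.Projective.of_split iQ rQ hrQ
  have : Module.Finite (A ⊗[R] Module.End R P) (B ⊗[R] Q) :=
    Module.Finite.of_surjective rQ fun x => ⟨iQ x, LinearMap.congr_fun hrQ x⟩
  obtain ⟨h⟩ := nonempty_linearEquiv (A := A ⊗[R] Module.End R P) hR (A ⊗[R] P) (B ⊗[R] Q) fun p => by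
    have h1 := congr_fun (Module.rankAtStalk_eq_of_equiv e.toLinearEquiv) p
    obtain ⟨_, _⟩ := GrothLib.Azu.finite_projective_end R P
    obtain ⟨_, _⟩ := GrothLib.Azu.finite_projective_end R Q
    rw [Module.rankAtStalk_tensorProduct, Module.rankAtStalk_tensorProduct, Pi.mul_apply, Pi.mul_apply,
      rankAtStalk_end, rankAtStalk_end, ← hdeg] at h1
    rw [Module.rankAtStalk_tensorProduct, Module.rankAtStalk_tensorProduct, Pi.mul_apply, Pi.mul_apply,
      ← hdeg, Nat.pow_left_injective two_ne_zero (Nat.eq_of_mul_eq_mul_left (rankAtStalk_pos A p) h1)]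
  let h' : A ⊗[R] P ≃ₗ[R] B ⊗[R] Q := h.restrictScalars R
  have hhs : ∀ c x, h' (tensorRep R A P c x) = tensorRep R B Q (e c) (h' x) := fun c x => h.map_smul c x
  have hhs' : ∀ c x, h'.symm (tensorRep R B Q c x) = tensorRep R A P (e.symm c) (h'.symm x) := fun c x => by
    rw [LinearEquiv.symm_apply_eq, hhs, LinearEquiv.apply_symm_apply, AlgEquiv.apply_symm_apply]
  have hex : ∀ a : A, ∃ b : B, rightMul R B Q b = h'.conj (rightMul R A P a) := fun a =>
    exists_rightMul_eq R B Q _ fun c t => by
      simp only [LinearEquiv.conj_apply_apply, hhs']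
      rw [rightMul_comm, hhs, AlgEquiv.apply_symm_apply]
  have hex' : ∀ b : B, ∃ a : A, rightMul R A P a = h'.symm.conj (rightMul R B Q b) := fun b =>
    exists_rightMul_eq R A P _ fun c t => by
      simp only [LinearEquiv.conj_apply_apply, LinearEquiv.symm_symm, hhs]
      rw [rightMul_comm, hhs', AlgEquiv.symm_apply_apply]
  choose ψ hψ using hex
  choose ψ' hψ' using hex'
  have hinj := rightMul_injective R B Q
  exact ⟨AlgEquiv.ofBijective
    { toFun := ψ
      map_one' := hinj ((hψ 1).trans (by
        refine TensorProduct.ext' fun b q => ?_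
        simp [rightMul]))
      map_mul' := fun a a' => hinj (by
        rw [hψ, rightMul_mul R B Q, hψ, hψ, rightMul_mul]
        ext x; simp)
      map_zero' := hinj ((hψ 0).trans (by simp [rightMul]))
      map_add' := fun a a' => hinj (by
        have hadd : ∀ {C : Type w} [Ring C] [Algebra R C] (x y : C),
            rightMul R C Q (x + y) = rightMul R C Q x + rightMul R C Q y := fun x y =>
          TensorProduct.ext' fun b q => by simp [mul_add, TensorProduct.add_tmul]
        have haddP : ∀ x y : A, rightMul R A P (x + y) = rightMul R A P x + rightMul R A P y := fun x y =>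
          TensorProduct.ext' fun b q => by simp [mul_add, TensorProduct.add_tmul]
        rw [hψ, hadd, hψ, hψ, haddP, map_add])
      commutes' := fun r => hinj ((hψ _).trans (by
        have h1 : rightMul R A P (algebraMap R A r) = r • 1 := TensorProduct.ext' fun b q => by
          simp [TensorProduct.smul_tmul', ← Algebra.commutes, ← Algebra.smul_def]
        have h2 : rightMul R B Q (algebraMap R B r) = r • 1 := TensorProduct.ext' fun b q => by
          simp [TensorProduct.smul_tmul', ← Algebra.commutes, ← Algebra.smul_def]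
        rw [h1, h2, map_smul]
        ext x; simp)) }
    ⟨fun a a' haa => rightMul_injective R A P (h'.conj.injective (by
        rw [← hψ, ← hψ]; exact congrArg _ haa)),
      fun b => ⟨ψ' b, hinj (by
        show rightMul R B Q (ψ (ψ' b)) = _
        rw [hψ, hψ']
        ext x; simp)⟩⟩⟩

end GrothLib.AzMod
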