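import Groth.Agent.Lib.AzMod.Cancel
import Mathlib.Algebra.Central.Defs
import Mathlib.Algebra.Algebra.Opposite

set_option autoImplicit false

/-!
# Centralizers of Azumaya algebras
-/

universe u v w

open scoped TensorProduct
open MulOpposite

namespace GrothLib.AzMod

variable {R : Type u} [CommRing R]

theorem isAzumaya_op (A : Type v) [Ring A] [Algebra R A] [IsAzumaya R A] : IsAzumaya R Aᵐᵒᵖ := by
  let o : A ≃ₗ[R] Aᵐᵒᵖ := opLinearEquiv R
  have : Module.Finite R Aᵐᵒᵖ := Module.Finite.equiv o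
  have : Module.Projective R Aᵐᵒᵖ := Module.Projective.of_equiv o
  have : FaithfulSMul R Aᵐᵒᵖ := ⟨fun {r s} h => eq_of_smul_eq_smul fun a : A => o.injective (by
    rw [map_smul, map_smul]; exact h (o a))⟩
  let t : Aᵐᵒᵖ ⊗[R] Aᵐᵒᵖᵐᵒᵖ ≃ₗ[R] A ⊗[R] Aᵐᵒᵖ :=
    (TensorProduct.comm R Aᵐᵒᵖ Aᵐᵒᵖᵐᵒᵖ).trans (TensorProduct.congr
      ((opLinearEquiv R).symm.trans (opLinearEquiv R).symm) (LinearEquiv.refl R _))
  refine ⟨?_⟩
  have key : ⇑(AlgHom.mulLeftRight R Aᵐᵒᵖ) = ⇑o.conj ∘ ⇑(AlgHom.mulLeftRight R A) ∘ ⇑t := by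
    funext x
    induction x using TensorProduct.induction_on with
    | zero => simp
    | tmul a b => ext y; simp [t, o, mul_assoc]
    | add p q hp hq => simp only [Function.comp_apply, map_add] at hp hq ⊢; rw [hp, hq]
  rw [key]
  exact o.conj.bijective.comp (IsAzumaya.bij.comp t.bijective)

/-- A tensor factor of a central simple algebra is central simple. -/
theorem isSimpleRing_and_isCentral_of_tensor {k : Type u} [Field k] (A : Type v) (C : Type w) [Ring A]
    [Algebra k A] [Nontrivial A] [Ring C] [Algebra k C] [IsSimpleRing (A ⊗[k] C)]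
    [Algebra.IsCentral k (A ⊗[k] C)] : IsSimpleRing C ∧ Algebra.IsCentral k C := by
  obtain ⟨g, hg⟩ : ∃ g : A →ₗ[k] k, g 1 = 1 := by
    obtain ⟨φ, hφ⟩ := Module.Projective.exists_dual_ne_zero k (one_ne_zero : (1 : A) ≠ 0)
    exact ⟨(φ 1)⁻¹ • φ, by simp [inv_mul_cancel₀ hφ]⟩
  let E : A ⊗[k] C →ₗ[k] C := (TensorProduct.lid k C).toLinearMap ∘ₗ g.rTensor C
  have hE : ∀ c : C, E ((1 : A) ⊗ₜ c) = c := fun c => by simp [E, hg]
  have : Nontrivial C := by
    by_contra hcon
    rw [not_nontrivial_iff_subsingleton] at hcon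
    have : Subsingleton (A ⊗[k] C) := subsingleton_of_forall_eq 0 fun x => by
      induction x using TensorProduct.induction_on with
      | zero => rfl
      | tmul a c => rw [Subsingleton.elim c 0, TensorProduct.tmul_zero]
      | add p q hp hq => rw [hp, hq, add_zero]
    exact false_of_nontrivial_of_subsingleton (A ⊗[k] C)
  refine ⟨.of_eq_bot_or_eq_top fun I => ?_, ⟨fun z hz => ?_⟩⟩
  · let T : Submodule k (A ⊗[k] C) := Submodule.span k {x | ∃ (a : A) (c : C), c ∈ I ∧ a ⊗ₜ[k] c = x}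
    have hmul : ∀ (u x : A ⊗[k] C), x ∈ T → u * x ∈ T ∧ x * u ∈ T := by
      intro u x hx
      induction hx using Submodule.span_induction with
      | zero => exact ⟨by simp [T], by simp [T]⟩
      | add p q _ _ hp hq =>
        exact ⟨by rw [mul_add]; exact add_mem hp.1 hq.1, by rw [add_mul]; exact add_mem hp.2 hq.2⟩
      | smul r p _ hp =>
        exact ⟨by rw [mul_smul_comm]; exact Submodule.smul_mem _ r hp.1,
          by rw [smul_mul_assoc]; exact Submodule.smul_mem _ r hp.2⟩
      | mem y hy =>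
        obtain ⟨a, c, hc, rfl⟩ := hy
        induction u using TensorProduct.induction_on with
        | zero => exact ⟨by simp [T], by simp [T]⟩
        | add p q hp hq =>
          exact ⟨by rw [add_mul]; exact add_mem hp.1 hq.1, by rw [mul_add]; exact add_mem hp.2 hq.2⟩
        | tmul b d =>
          rw [Algebra.TensorProduct.tmul_mul_tmul, Algebra.TensorProduct.tmul_mul_tmul]
          exact ⟨Submodule.subset_span ⟨_, _, I.mul_mem_left _ _ hc, rfl⟩,
            Submodule.subset_span ⟨_, _, I.mul_mem_right _ _ hc, rfl⟩⟩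
    let J : TwoSidedIdeal (A ⊗[k] C) := .mk' T (by simp [T]) (fun hx hy => add_mem hx hy)
      (fun hx => neg_mem hx) (fun hx => (hmul _ _ hx).1) (fun hx => (hmul _ _ hx).2)
    have hJ : ∀ x, x ∈ J ↔ x ∈ T := fun x => TwoSidedIdeal.mem_mk' _ _ _ _ _ _ x
    rcases eq_bot_or_eq_top J with h | h
    · left
      refine eq_bot_iff.2 fun c hc => ?_
      have h1 : (1 : A) ⊗ₜ[k] c ∈ J := (hJ _).2 (Submodule.subset_span ⟨1, c, hc, rfl⟩)
      rw [h, TwoSidedIdeal.mem_bot] at h1
      rw [TwoSidedIdeal.mem_bot, ← hE c, h1, map_zero]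
    · right
      have h1 : (1 : A ⊗[k] C) ∈ T := (hJ _).1 (h ▸ trivial)
      have h2 : ∀ x ∈ T, E x ∈ I := by
        intro x hx
        induction hx using Submodule.span_induction with
        | zero => simp
        | add p q _ _ hp hq => rw [map_add]; exact I.add_mem hp hq
        | smul r p _ hp => rw [map_smul, Algebra.smul_def]; exact I.mul_mem_left _ _ hp
        | mem y hy =>
          obtain ⟨a, c, hc, rfl⟩ := hy
          simp only [E, LinearMap.comp_apply, LinearMap.rTensor_tmul, LinearEquiv.coe_coe,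
            TensorProduct.lid_tmul, Algebra.smul_def]
          exact I.mul_mem_left _ _ hc
      have h3 := h2 _ h1
      rw [Algebra.TensorProduct.one_def, hE] at h3
      exact I.one_mem_iff.1 h3
  · have h1 : (1 : A) ⊗ₜ[k] z ∈ Subalgebra.center k (A ⊗[k] C) := by
      rw [Subalgebra.mem_center_iff]
      intro x
      induction x using TensorProduct.induction_on with
      | zero => simp
      | tmul a c => simp [Subalgebra.mem_center_iff.1 hz c]
      | add p q hp hq => rw [add_mul, mul_add, hp, hq]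
    obtain ⟨r, hr⟩ := Algebra.mem_bot.1 (Algebra.IsCentral.out (K := k) h1)
    refine Algebra.mem_bot.2 ⟨r, ?_⟩
    rw [← hE z, ← hr, Algebra.algebraMap_eq_smul_one, Algebra.algebraMap_eq_smul_one (A := A ⊗[k] C),
      map_smul, Algebra.TensorProduct.one_def, hE]

/-- The commutant of an Azumaya algebra inside another one is Azumaya and complementary to it. -/
theorem centralizer_isAzumaya {A : Type v} [Ring A] [Algebra R A] [IsAzumaya R A] {T : Type w} [Ring T]
    [Algebra R T] [IsAzumaya R T] (f : A →ₐ[R] T) :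
    Function.Bijective (Algebra.TensorProduct.lift f
      (Subalgebra.centralizer R (Set.range f)).val
      fun a c => ((Subalgebra.mem_centralizer_iff R).1 c.2 _ ⟨a, rfl⟩ : f a * (c : T) = c * f a)) ∧
    IsAzumaya R (Subalgebra.centralizer R (Set.range f)) := by
  set C := Subalgebra.centralizer R (Set.range f)
  let ρ : A ⊗[R] Aᵐᵒᵖ →ₐ[R] Module.End R T :=
    (AlgHom.mulLeftRight R T).comp (Algebra.TensorProduct.map f f.op)
  have hfix : fixed ρ = Subalgebra.toSubmodule C := by
    ext z; simp [mem_fixed, ρ, C, Subalgebra.mem_centralizer_iff]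
  let ι : fixed ρ ≃ₗ[R] C := LinearEquiv.ofEq _ _ hfix
  have hbij : Function.Bijective (Algebra.TensorProduct.lift f C.val
      fun a c => ((Subalgebra.mem_centralizer_iff R).1 c.2 _ ⟨a, rfl⟩ : f a * (c : T) = c * f a)) := by
    have h : ⇑(Algebra.TensorProduct.lift f C.val
        fun a c => ((Subalgebra.mem_centralizer_iff R).1 c.2 _ ⟨a, rfl⟩ : f a * (c : T) = c * f a)) =
        ⇑(fixedMap ρ) ∘ ⇑(TensorProduct.congr (LinearEquiv.refl R A) ι.symm) := by
      funext x
      induction x using TensorProduct.induction_on with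
      | zero => simp
      | tmul a c => simp [ρ, ι]; rfl
      | add p q hp hq => simp only [Function.comp_apply, map_add] at hp hq ⊢; rw [hp, hq]
    rw [h]
    exact (fixedMap_bijective ρ).comp (LinearEquiv.bijective _)
  refine ⟨hbij, ?_⟩
  obtain ⟨g, hg⟩ := exists_dual_one (R := R) (A := A)
  let π : T →ₗ[R] C := ι.toLinearMap ∘ₗ fixedProj ρ g
  have hπ : π ∘ₗ (Subalgebra.toSubmodule C).subtype = LinearMap.id := LinearMap.ext fun c => by
    show ι (fixedProj ρ g ((ι.symm c : fixed ρ) : T)) = c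
    rw [fixedProj_of_one ρ hg, LinearEquiv.apply_symm_apply]
  have : Module.Projective R C := Module.Projective.of_split (Subalgebra.toSubmodule C).subtype π hπ
  have : Module.Finite R C := Module.Finite.of_surjective π fun c => ⟨(c : T), LinearMap.congr_fun hπ c⟩
  refine GrothLib.Azu.isAzumaya_of_forall_maximal.{u, u, w} R C fun m hm => ?_
  let := Ideal.Quotient.field m
  refine ⟨R ⧸ m, inferInstance, inferInstance, inferInstance, (Ideal.mk_ker).ge, ?_⟩
  let e : T ≃ₐ[R] A ⊗[R] C := (AlgEquiv.ofBijective _ hbij).symm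
  have := IsAzumaya.of_AlgEquiv R _ _ e
  have := GrothLib.Azu.isAzumaya_baseChange R (R ⧸ m) (A ⊗[R] C)
  have h2 := IsAzumaya.of_AlgEquiv (R ⧸ m) _ _ (GrothLib.Azu.distribAlgEquiv R A C (R ⧸ m))
  obtain ⟨_, _, _⟩ := CSAExtra.csa_of_isAzumaya (R ⧸ m) (((R ⧸ m) ⊗[R] A) ⊗[R ⧸ m] ((R ⧸ m) ⊗[R] C))
  have := GrothLib.Azu.faithfullyFlat_of_isAzumaya R A
  obtain ⟨_, _⟩ := isSimpleRing_and_isCentral_of_tensor (k := R ⧸ m) ((R ⧸ m) ⊗[R] A) ((R ⧸ m) ⊗[R] C)
  exact CSAExtra.isAzumaya_of_csa (R ⧸ m) ((R ⧸ m) ⊗[R] C)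

end GrothLib.AzMod
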