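import Groth.Agent.Lib.Azumaya.Constructions
import Groth.Agent.Lib.CSAExtra.Basic

set_option autoImplicit false

/-!
# Modules over Azumaya algebras

For a bimodule `M` over an Azumaya algebra `A`, the multiplication map from `A ⊗ M^A` to `M` is
bijective.  Consequences: centre, two-sided ideals, centralizers.
-/

universe u v w

open scoped TensorProduct
open MulOpposite

namespace GrothLib.AzMod

variable {R : Type u} [CommRing R]

/-- A finite projective module has a finite dual basis. -/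
theorem exists_dualBasis (M : Type v) [AddCommGroup M] [Module R M] [Module.Finite R M]
    [Module.Projective R M] :
    ∃ (n : ℕ) (x : Fin n → M) (g : Fin n → M →ₗ[R] R), ∀ m, ∑ i, g i m • x i = m := by
  obtain ⟨n, p, q, -, -, hpq⟩ := Module.Finite.exists_comp_eq_id_of_projective R M
  refine ⟨n, fun i => p (Pi.single i 1), fun i => LinearMap.proj i ∘ₗ q, fun m => ?_⟩
  have h := LinearMap.congr_fun hpq m
  conv_rhs => rw [← LinearMap.id_apply (R := R) m, ← h, LinearMap.comp_apply]
  conv_rhs => rw [pi_eq_sum_univ' (q m), map_sum]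
  simp

/-- If `1 = ∑ aᵢ • xᵢ` with `aᵢ` in an ideal `J`, and `M` is faithful finite, then `J = ⊤`. -/
theorem eq_top_of_top_le_smul {M : Type v} [AddCommGroup M] [Module R M] [Module.Finite R M]
    [FaithfulSMul R M] {J : Ideal R} (h : (⊤ : Submodule R M) ≤ J • (⊤ : Submodule R M)) : J = ⊤ := by
  obtain ⟨r, hr, hr0⟩ :=
    Submodule.exists_sub_one_mem_and_smul_eq_zero_of_fg_of_le_smul J ⊤ Module.Finite.fg_top h
  have h0 : r = 0 := eq_of_smul_eq_smul fun m : M => by rw [hr0 m Submodule.mem_top, zero_smul]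
  subst h0
  exact (Ideal.eq_top_iff_one _).2 (by simpa using hr)

variable {A : Type v} [Ring A] [Algebra R A] [IsAzumaya R A]

theorem exists_dual_one : ∃ g : A →ₗ[R] R, g 1 = 1 := by
  have hJ : LinearMap.range (LinearMap.applyₗ (R := R) (M₂ := R) (1 : A)) = ⊤ := by
    apply eq_top_of_top_le_smul (M := A)
    intro a _
    obtain ⟨n, x, g, hx⟩ := exists_dualBasis (R := R) A
    have ha : a = ∑ i, g i 1 • (a * x i) := by
      simp_rw [← mul_smul_comm, ← Finset.mul_sum, hx, mul_one]
    rw [ha]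
    refine sum_mem fun i _ => ?_
    exact Submodule.smul_mem_smul ⟨g i, rfl⟩ Submodule.mem_top
  obtain ⟨g, hg⟩ : (1 : R) ∈ LinearMap.range (LinearMap.applyₗ (R := R) (M₂ := R) (1 : A)) :=
    hJ ▸ Submodule.mem_top
  exact ⟨g, hg⟩

theorem algebraMap_injective : Function.Injective (algebraMap R A) := by
  intro r s h
  exact eq_of_smul_eq_smul fun m : A => by rw [Algebra.smul_def, Algebra.smul_def, h]

/-- The inverse of `AlgHom.mulLeftRight`. -/
noncomputable def sandwich (f : Module.End R A) : A ⊗[R] Aᵐᵒᵖ :=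
  (AlgEquiv.ofBijective (AlgHom.mulLeftRight R A) IsAzumaya.bij).symm f

theorem mulLeftRight_sandwich (f : Module.End R A) :
    AlgHom.mulLeftRight R A (sandwich f) = f :=
  (AlgEquiv.ofBijective (AlgHom.mulLeftRight R A) IsAzumaya.bij).apply_symm_apply f

section Bimodule

variable {M : Type w} [AddCommGroup M] [Module R M] (ρ : A ⊗[R] Aᵐᵒᵖ →ₐ[R] Module.End R M)

/-- The centre of a bimodule. -/
def fixed : Submodule R M :=
  ⨅ a : A, LinearMap.ker (ρ (a ⊗ₜ 1) - ρ (1 ⊗ₜ op a))

variable {ρ}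

omit [IsAzumaya R A] in
theorem mem_fixed {m : M} : m ∈ fixed ρ ↔ ∀ a : A, ρ (a ⊗ₜ 1) m = ρ (1 ⊗ₜ op a) m := by
  simp [fixed, sub_eq_zero]

omit [IsAzumaya R A] in
theorem apply_of_mem_fixed {z : M} (hz : z ∈ fixed ρ) (t : A ⊗[R] Aᵐᵒᵖ) (a : A) :
    ρ t (ρ (a ⊗ₜ 1) z) = ρ (AlgHom.mulLeftRight R A t a ⊗ₜ 1) z := by
  induction t using TensorProduct.induction_on with
  | zero => simp
  | add x y hx hy => simp [hx, hy, TensorProduct.add_tmul]
  | tmul c d =>
    rw [AlgHom.mulLeftRight_apply, ← Module.End.mul_apply, ← map_mul,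
      Algebra.TensorProduct.tmul_mul_tmul, mul_one,
      show (c * a) ⊗ₜ[R] d = ((c * a) ⊗ₜ 1) * ((1 : A) ⊗ₜ d) by
        rw [Algebra.TensorProduct.tmul_mul_tmul, mul_one, one_mul],
      map_mul, Module.End.mul_apply, show d = op d.unop from rfl, ← mem_fixed.1 hz d.unop,
      ← Module.End.mul_apply, ← map_mul, Algebra.TensorProduct.tmul_mul_tmul, mul_one, unop_op]

theorem sandwich_mem_fixed (g : A →ₗ[R] R) (m : M) :
    ρ (sandwich (g.smulRight (1 : A))) m ∈ fixed ρ := by
  refine mem_fixed.2 fun a => ?_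
  rw [← Module.End.mul_apply, ← Module.End.mul_apply, ← map_mul, ← map_mul]
  congr 2
  refine IsAzumaya.bij.injective (LinearMap.ext fun x => ?_)
  simp [map_mul, mulLeftRight_sandwich]

variable (ρ)

/-- The projection to the centre attached to a linear form. -/
noncomputable def fixedProj (g : A →ₗ[R] R) : M →ₗ[R] fixed ρ :=
  LinearMap.codRestrict (fixed ρ) (ρ (sandwich (g.smulRight (1 : A)))) (sandwich_mem_fixed g)

theorem fixedProj_apply (g : A →ₗ[R] R) (a : A) (z : fixed ρ) :
    fixedProj ρ g (ρ (a ⊗ₜ 1) (z : M)) = g a • z := by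
  apply Subtype.ext
  show ρ (sandwich (g.smulRight (1 : A))) (ρ (a ⊗ₜ 1) (z : M)) = _
  rw [apply_of_mem_fixed z.2, mulLeftRight_sandwich]
  rw [LinearMap.smulRight_apply, ← TensorProduct.smul_tmul', ← Algebra.TensorProduct.one_def,
    map_smul, map_one]
  rfl

theorem fixedProj_of_one {g : A →ₗ[R] R} (hg : g 1 = 1) (z : fixed ρ) :
    fixedProj ρ g (z : M) = z := by
  have h := fixedProj_apply ρ g 1 z
  rwa [← Algebra.TensorProduct.one_def, map_one, Module.End.one_apply, hg, one_smul] at h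

/-- The multiplication map from `A ⊗ fixed ρ` to `M`. -/
noncomputable def fixedMap : A ⊗[R] fixed ρ →ₗ[R] M :=
  TensorProduct.lift (((ρ.toLinearMap ∘ₗ (Algebra.TensorProduct.includeLeft :
    A →ₐ[R] A ⊗[R] Aᵐᵒᵖ).toLinearMap).compl₂ (fixed ρ).subtype))

omit [IsAzumaya R A] in
@[simp] theorem fixedMap_tmul (a : A) (z : fixed ρ) : fixedMap ρ (a ⊗ₜ z) = ρ (a ⊗ₜ 1) (z : M) := rfl

theorem fixedMap_bijective : Function.Bijective (fixedMap ρ) := by
  obtain ⟨n, x, g, hx⟩ := exists_dualBasis (R := R) A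
  let Ψ : M →ₗ[R] A ⊗[R] fixed ρ := ∑ i, TensorProduct.mk R A (fixed ρ) (x i) ∘ₗ fixedProj ρ (g i)
  refine ⟨Function.LeftInverse.injective (g := Ψ) fun t => ?_,
    Function.RightInverse.surjective (g := Ψ) fun m => ?_⟩
  · induction t using TensorProduct.induction_on with
    | zero => simp
    | add p q hp hq => rw [map_add, map_add, hp, hq]
    | tmul a z =>
      simp only [Ψ, fixedMap_tmul, LinearMap.coe_sum, Finset.sum_apply, LinearMap.comp_apply,
        fixedProj_apply, TensorProduct.mk_apply]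
      simp_rw [← TensorProduct.smul_tmul, ← TensorProduct.sum_tmul, hx]
  · simp only [Ψ, LinearMap.coe_sum, Finset.sum_apply, LinearMap.comp_apply, map_sum,
      TensorProduct.mk_apply, fixedMap_tmul]
    show ∑ i, ρ (x i ⊗ₜ 1) (ρ (sandwich ((g i).smulRight (1 : A))) m) = m
    simp_rw [← Module.End.mul_apply, ← map_mul, ← LinearMap.sum_apply, ← map_sum]
    have h1 : ∑ i, (x i ⊗ₜ (1 : Aᵐᵒᵖ)) * sandwich ((g i).smulRight (1 : A)) = (1 : A ⊗[R] Aᵐᵒᵖ) :=
      IsAzumaya.bij.injective (LinearMap.ext fun a => by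
        simp [map_sum, map_mul, mulLeftRight_sandwich, LinearMap.sum_apply, hx])
    rw [h1, map_one, Module.End.one_apply]

theorem exists_sum_eq (m : M) :
    ∃ (n : ℕ) (a : Fin n → A) (z : Fin n → fixed ρ), ∑ i, ρ (a i ⊗ₜ 1) (z i : M) = m := by
  obtain ⟨t, rfl⟩ := (fixedMap_bijective ρ).2 m
  obtain ⟨s, rfl⟩ := TensorProduct.exists_finset t
  refine ⟨s.card, fun i => (s.equivFin.symm i).1.1, fun i => (s.equivFin.symm i).1.2, ?_⟩
  rw [map_sum, ← Finset.sum_coe_sort s, ← s.equivFin.symm.sum_comp]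
  simp

end Bimodule

/-- An Azumaya algebra is central, freeness not assumed. -/
theorem exists_eq_algebraMap_of_forall_commute {z : A} (h : ∀ a : A, a * z = z * a) :
    ∃ r : R, z = algebraMap R A r := by
  obtain ⟨g, hg⟩ := exists_dual_one (R := R) (A := A)
  have hz : z ∈ fixed (AlgHom.mulLeftRight R A) := mem_fixed.2 fun a => by simpa using h a
  refine ⟨g z, ?_⟩
  have h1 := congrArg Subtype.val (fixedProj_of_one (AlgHom.mulLeftRight R A) hg ⟨z, hz⟩)
  refine h1.symm.trans ?_
  show AlgHom.mulLeftRight R A (sandwich (g.smulRight (1 : A))) z = _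
  rw [mulLeftRight_sandwich, LinearMap.smulRight_apply, Algebra.algebraMap_eq_smul_one]

omit [IsAzumaya R A] in
theorem mulLeftRight_mem (I : TwoSidedIdeal A) (t : A ⊗[R] Aᵐᵒᵖ) {x : A} (hx : x ∈ I) :
    AlgHom.mulLeftRight R A t x ∈ I := by
  induction t using TensorProduct.induction_on with
  | zero => simp
  | tmul a b => rw [AlgHom.mulLeftRight_apply]; exact I.mul_mem_right _ _ (I.mul_mem_left _ _ hx)
  | add p q hp hq => rw [map_add, LinearMap.add_apply]; exact I.add_mem hp hq

/-- A two-sided ideal contains the scalars of the coordinates of its elements. -/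
theorem algebraMap_mem_of_mem (I : TwoSidedIdeal A) (g : A →ₗ[R] R) {x : A} (hx : x ∈ I) :
    algebraMap R A (g x) ∈ I := by
  have h := mulLeftRight_mem I (sandwich (g.smulRight (1 : A))) hx
  rwa [mulLeftRight_sandwich, LinearMap.smulRight_apply, ← Algebra.algebraMap_eq_smul_one] at h

theorem asIdeal_eq_map_comap (I : TwoSidedIdeal A) :
    TwoSidedIdeal.asIdeal I =
      Ideal.map (algebraMap R A) ((TwoSidedIdeal.asIdeal I).comap (algebraMap R A)) := by
  refine le_antisymm (fun x hx => ?_) Ideal.map_comap_le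
  obtain ⟨n, b, g, hb⟩ := exists_dualBasis (R := R) A
  rw [← hb x]
  refine sum_mem fun i _ => ?_
  rw [Algebra.smul_def, Algebra.commutes]
  refine Ideal.mul_mem_left _ _ (Ideal.mem_map_of_mem _ ?_)
  exact TwoSidedIdeal.mem_asIdeal.2 (algebraMap_mem_of_mem I (g i) (TwoSidedIdeal.mem_asIdeal.1 hx))

theorem comap_map_eq (J : Ideal R) : (Ideal.map (algebraMap R A) J).comap (algebraMap R A) = J := by
  refine le_antisymm (fun r hr => ?_) Ideal.le_comap_map
  obtain ⟨g, hg⟩ := exists_dual_one (R := R) (A := A)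
  have key : ∀ x ∈ Ideal.map (algebraMap R A) J, ∀ a : A, g (a * x) ∈ J := by
    intro x hx
    induction hx using Submodule.span_induction with
    | mem y hy =>
      obtain ⟨j, hj, rfl⟩ := hy
      intro a
      rw [← Algebra.commutes, ← Algebra.smul_def, map_smul, smul_eq_mul]
      exact J.mul_mem_right _ hj
    | zero => simp
    | add y z _ _ hy hz => intro a; rw [mul_add, map_add]; exact add_mem (hy a) (hz a)
    | smul c y _ hy => intro a; rw [smul_eq_mul, ← mul_assoc]; exact hy _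
  have h1 := key _ hr 1
  rwa [one_mul, Algebra.algebraMap_eq_smul_one, map_smul, hg, smul_eq_mul, mul_one] at h1

/-- An algebra map out of an Azumaya algebra is injective when it is so on scalars. -/
theorem injective_of_scalars {B : Type w} [Ring B] [Algebra R B] [FaithfulSMul R B] (f : A →ₐ[R] B) :
    Function.Injective f := by
  rw [injective_iff_map_eq_zero]
  intro x hx
  obtain ⟨n, b, g, hb⟩ := exists_dualBasis (R := R) A
  rw [← hb x]
  refine Finset.sum_eq_zero fun i _ => ?_
  have h := algebraMap_mem_of_mem (TwoSidedIdeal.ker f) (g i) ((TwoSidedIdeal.mem_ker f).2 hx)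
  rw [TwoSidedIdeal.mem_ker, AlgHom.commutes] at h
  have h0 : g i x = 0 := FaithfulSMul.algebraMap_injective R B (h.trans (map_zero _).symm)
  rw [h0, zero_smul]

end GrothLib.AzMod
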