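import Groth.Agent.Lib.AzMod.HomTwist
import Mathlib.LinearAlgebra.Matrix.Determinant.Basic

set_option autoImplicit false

/-!
# The determinant trivialises a tensor power of an invertible module
-/

universe u v

open scoped TensorProduct

namespace GrothLib.AzMod

variable {R : Type u} [CommRing R]

theorem piTensor_equiv_of_det {n : ℕ} {N : Type v} [AddCommGroup N] [Module R N] [Module.Invertible R N]
    (row : Fin n → N →ₗ[R] (Fin n → R))
    (h : ∀ m : Ideal R, m.IsMaximal → ∃ z : N, Matrix.det (fun i => row i z) ∉ m) :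
    Nonempty ((⨂[R] _ : Fin n, N) ≃ₗ[R] R) := by
  obtain ⟨_, -⟩ := piTensor_invertible (R := R) N n
  let D : (⨂[R] _ : Fin n, N) →ₗ[R] R := PiTensorProduct.lift
    ((Matrix.detRowAlternating (R := R) (n := Fin n)).toMultilinearMap.compLinearMap row)
  have hsurj : Function.Surjective D := by
    rw [← LinearMap.range_eq_top]
    by_contra hne
    obtain ⟨m, hm, hle⟩ := Ideal.exists_le_maximal _ hne
    obtain ⟨z, hz⟩ := h m hm
    refine hz (hle ⟨PiTensorProduct.tprod R fun _ => z, ?_⟩)
    simp [D]
    rfl
  exact ⟨LinearEquiv.ofBijective D (Module.Invertible.bijective_of_surjective hsurj)⟩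

end GrothLib.AzMod
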