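import Groth.Agent.Lib.AzMod.Split
import Mathlib.RingTheory.Smooth.Fiber
import Mathlib.RingTheory.AdjoinRoot
import Mathlib.FieldTheory.Separable
import Mathlib.FieldTheory.IsSepClosed
import Mathlib.FieldTheory.PurelyInseparable.Basic

set_option autoImplicit false

/-!
# Regular elements of Azumaya algebras over local rings
-/

universe u v w

open scoped TensorProduct
open Polynomial

namespace GrothLib.AzMod

/-- An algebra generated by a simple root of a polynomial is unramified. -/
theorem formallyUnramified_of_generator {R : Type u} [CommRing R] {E : Type w} [CommRing E] [Algebra R E]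
    (x : E) (f : R[X]) (hgen : Algebra.adjoin R ({x} : Set E) = ⊤) (hf : aeval x f = 0)
    (hd : IsUnit (aeval x (derivative f))) : Algebra.FormallyUnramified R E := by
  have hx : KaehlerDifferential.D R E x = 0 := by
    have h := (KaehlerDifferential.D R E).map_aeval f x
    rw [hf, map_zero] at h
    exact hd.smul_eq_zero.1 h.symm
  have hD : KaehlerDifferential.D R E = 0 :=
    Derivation.ext_of_adjoin_eq_top {x} hgen fun y hy => by
      rw [Set.mem_singleton_iff.1 hy, hx]; rfl
  refine ⟨subsingleton_of_forall_eq 0 fun z => ?_⟩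
  have hz : z ∈ Submodule.span E (Set.range (KaehlerDifferential.D R E)) := by
    rw [KaehlerDifferential.span_range_derivation]; trivial
  rw [hD] at hz
  have h0 : Set.range ⇑(0 : Derivation R E (Ω[E⁄R])) ⊆ {0} := by rintro _ ⟨a, rfl⟩; rfl
  simpa using Submodule.span_mono h0 hz

section Field

variable {k : Type u} [Field k] {B : Type v} [Ring B] [Algebra k B]

theorem finrank_adjoin_singleton {x : B} (hx : IsIntegral k x) :
    Module.finrank k (Algebra.adjoin k ({x} : Set B)) = (minpoly k x).natDegree := by
  rw [Algebra.adjoin_singleton_eq_range_aeval]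
  have e := Ideal.quotientKerEquivRange (aeval x : k[X] →ₐ[k] B)
  rw [← e.toLinearEquiv.finrank_eq,
    (Ideal.quotientEquivAlgOfEq k (minpoly.ker_aeval_eq_span_minpoly k x)).toLinearEquiv.finrank_eq]
  exact finrank_quotient_span_eq_natDegree

/-- If a separable polynomial kills `x` then `k[x]` consists of separable elements. -/
theorem isSeparable_adjoin_singleton {x : B} {p : k[X]} (hp : p.Separable) (hpx : aeval x p = 0) :
    Algebra.IsSeparable k (Algebra.adjoin k ({x} : Set B)) := by
  classical
  refine ⟨fun z => ?_⟩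
  rw [IsSeparable, ← minpoly.algHom_eq (Algebra.adjoin k ({x} : Set B)).val Subtype.val_injective]
  obtain ⟨g, hg⟩ : ∃ g : k[X], aeval x g = (z : B) :=
    (Algebra.adjoin_singleton_eq_range_aeval k x).le z.2
  show (minpoly k (z : B)).Separable
  rw [← hg]
  let Ω := AlgebraicClosure k
  let S : Finset k[X] := ((p.map (algebraMap k Ω)).roots.toFinset).image fun α => minpoly k (aeval α g)
  have hsepr : ∀ α : Ω, (p.map (algebraMap k Ω)).IsRoot α → IsSeparable k (aeval α g) := by
    intro α hα
    have h1 : IsSeparable k α := hp.of_dvd (minpoly.dvd k α (by rwa [IsRoot, eval_map_algebraMap] at hα))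
    have h2 : aeval α g ∈ separableClosure k Ω := by
      have h3 : aeval α g = ((aeval (⟨α, mem_separableClosure_iff.2 h1⟩ : separableClosure k Ω) g :
          separableClosure k Ω) : Ω) := aeval_algHom_apply (separableClosure k Ω).val
            (⟨α, mem_separableClosure_iff.2 h1⟩ : separableClosure k Ω) g
      rw [h3]
      exact Subtype.mem _
    exact mem_separableClosure_iff.1 h2
  have hq : (∏ m ∈ S, m).Separable := by
    refine separable_prod' (fun a ha b hb hab => ?_) (fun a ha => ?_)
    · simp only [S, Finset.mem_image, Multiset.mem_toFinset] at ha hb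
      obtain ⟨α, hα, rfl⟩ := ha
      obtain ⟨β, hβ, rfl⟩ := hb
      have hiα := (hsepr α (mem_roots'.1 hα).2).isIntegral
      have hiβ := (hsepr β (mem_roots'.1 hβ).2).isIntegral
      refine ((minpoly.irreducible hiα).coprime_iff_not_dvd).2 fun hd => hab ?_
      exact eq_of_monic_of_associated (minpoly.monic hiα) (minpoly.monic hiβ)
        ((minpoly.irreducible hiα).associated_of_dvd (minpoly.irreducible hiβ) hd)
    · simp only [S, Finset.mem_image, Multiset.mem_toFinset] at ha
      obtain ⟨α, hα, rfl⟩ := ha
      exact hsepr α (mem_roots'.1 hα).2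
  refine hq.of_dvd (minpoly.dvd k _ ?_)
  rw [← aeval_comp]
  have hdvd : p ∣ (∏ m ∈ S, m).comp g := by
    rw [← map_dvd_map' (algebraMap k Ω)]
    have hsplit := IsAlgClosed.splits (p.map (algebraMap k Ω))
    have hp0 : p.map (algebraMap k Ω) ≠ 0 := (Polynomial.map_ne_zero hp.ne_zero)
    by_cases h0 : ((∏ m ∈ S, m).comp g).map (algebraMap k Ω) = 0
    · rw [h0]; exact dvd_zero _
    refine hsplit.dvd_of_roots_le_roots hp0 ((Multiset.le_iff_subset (nodup_roots hp.map)).2 fun α hα => ?_)
    rw [mem_roots h0, IsRoot, eval_map_algebraMap, aeval_comp, map_prod]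
    refine Finset.prod_eq_zero (i := minpoly k (aeval α g))
      (Finset.mem_image.2 ⟨α, Multiset.mem_toFinset.2 hα, rfl⟩) ?_
    exact minpoly.aeval k _
  obtain ⟨c, hc⟩ := hdvd
  rw [hc, map_mul, hpx, zero_mul]

theorem exists_separable_poly {x : B} [FiniteDimensional k B]
    (h : Algebra.IsSeparable k (Algebra.adjoin k ({x} : Set B))) : (minpoly k x).Separable := by
  have h1 := h.isSeparable' (⟨x, Algebra.self_mem_adjoin_singleton k x⟩ : Algebra.adjoin k ({x} : Set B))
  rw [IsSeparable, ← minpoly.algHom_eq (Algebra.adjoin k ({x} : Set B)).val Subtype.val_injective] at h1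
  exact h1

end Field

variable {R : Type u} [CommRing R] {A : Type v} [Ring A] [Algebra R A]

/-- The map `R[T]/(f) → A` attached to a root of `f`. -/
noncomputable def rootHom (f : R[X]) (ξ : A) (h : aeval ξ f = 0) : AdjoinRoot f →ₐ[R] A :=
  Ideal.Quotient.liftₐ (Ideal.span {f}) (aeval ξ) fun a ha => by
    obtain ⟨c, rfl⟩ := Ideal.mem_span_singleton'.1 ha
    rw [map_mul, h, mul_zero]

theorem rootHom_mk (f : R[X]) (ξ : A) (h : aeval ξ f = 0) (g : R[X]) :
    rootHom f ξ h (AdjoinRoot.mk f g) = aeval ξ g := rfl

theorem rootHom_root (f : R[X]) (ξ : A) (h : aeval ξ f = 0) : rootHom f ξ h (AdjoinRoot.root f) = ξ :=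
  (rootHom_mk f ξ h X).trans (aeval_X ξ)

/-- A commutative algebra mapped into `A` acts on the right. -/
@[reducible] noncomputable def rightModule {E : Type w} [CommRing E] [Algebra R E] (u : E →ₐ[R] A) :
    Module E A where
  smul e a := a * u e
  one_smul a := show a * u 1 = a by rw [map_one, mul_one]
  mul_smul e e' a := show a * u (e * e') = a * u e' * u e by rw [mul_assoc, ← map_mul, mul_comm e']
  smul_zero e := zero_mul (u e)
  smul_add e a b := add_mul a b (u e)
  add_smul e e' a := show a * u (e + e') = a * u e + a * u e' by rw [map_add, mul_add]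
  zero_smul a := show a * u 0 = 0 by rw [map_zero, mul_zero]

variable [IsAzumaya R A]

theorem rankAtStalk_eq_of_finrank [IsLocalRing R] {n : ℕ} (h : Module.finrank R A = n)
    (p : PrimeSpectrum R) : Module.rankAtStalk A p = n := by
  have : Module.Free R A := Module.free_of_flat_of_isLocalRing
  rw [Module.rankAtStalk_eq_finrank_of_free, Pi.natCast_apply, Nat.cast_id, h]

theorem pos_of_finrank [IsLocalRing R] {r : ℕ} (h : Module.finrank R A = r ^ 2) : 0 < r := by
  have h1 := rankAtStalk_pos (R := R) A (IsLocalRing.closedPoint R)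
  rw [rankAtStalk_eq_of_finrank h] at h1
  exact Nat.pos_of_ne_zero fun h0 => by simp [h0] at h1

/-- In a central simple algebra of dimension `r²` a separable `k[x]` of dimension `r` is its own
centralizer. -/
theorem mem_adjoin_of_commute {k : Type u} [Field k] {B : Type v} [Ring B] [Algebra k B] [IsAzumaya k B]
    (r : ℕ) (hB : Module.finrank k B = r ^ 2) (x : B) (hsep : (minpoly k x).Separable)
    (hdeg : (minpoly k x).natDegree = r) (c : B) (hc : c * x = x * c) :
    c ∈ Algebra.adjoin k ({x} : Set B) := by
  have hx : IsIntegral k x := Algebra.IsIntegral.isIntegral x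
  let E := AdjoinRoot (minpoly k x)
  let u : E →ₐ[k] B := rootHom (minpoly k x) x (minpoly.aeval k x)
  have hfu : Algebra.FormallyUnramified k E := formallyUnramified_of_generator (AdjoinRoot.root _) (minpoly k x)
    AdjoinRoot.adjoinRoot_eq_top (by rw [AdjoinRoot.aeval_eq, AdjoinRoot.mk_self]) (by
      obtain ⟨a, b, hab⟩ := hsep
      refine IsUnit.of_mul_eq_one (aeval (AdjoinRoot.root _) b) ?_
      have h := congrArg (aeval (AdjoinRoot.root (minpoly k x))) hab
      rw [map_add, map_mul, map_mul, AdjoinRoot.aeval_eq (minpoly k x), AdjoinRoot.mk_self, mul_zero,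
        zero_add, map_one] at h
      rw [mul_comm]; exact h)
  have hE : Module.finrank k E = r := by
    rw [(AdjoinRoot.powerBasis' (minpoly.monic hx)).finrank, AdjoinRoot.powerBasis'_dim, hdeg]
  have : Module.Finite k E := (AdjoinRoot.powerBasis' (minpoly.monic hx)).finite
  have hui : Function.Injective u := by
    rw [injective_iff_map_eq_zero]
    intro e he
    obtain ⟨g, rfl⟩ := AdjoinRoot.mk_surjective e
    rw [rootHom_mk] at he
    exact AdjoinRoot.mk_eq_zero.2 (minpoly.dvd k x he)
  let := rightModule u
  have hmod : ∀ (e : E) (b : B), e • b = b * u e := fun _ _ => rfl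
  have := isScalarTower_right u hmod
  obtain ⟨_, _, hr'⟩ := free_of_formallyUnramified u hmod r hB hE hui
  obtain ⟨e, rfl⟩ := exists_eq_of_commute u hmod r (pos_of_finrank hB) (rankAtStalk_eq_of_finrank hB) hr' c
    fun e => by
      obtain ⟨g, rfl⟩ := AdjoinRoot.mk_surjective e
      rw [rootHom_mk]
      have hcomm : Commute c x := hc
      induction g using Polynomial.induction_on' with
      | add p q hp hq => rw [map_add, mul_add, add_mul, hp, hq]
      | monomial i a =>
        rw [aeval_monomial]
        exact (Commute.mul_right (Algebra.commute_algebraMap_right a c) (hcomm.pow_right i)).eq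
  obtain ⟨g, rfl⟩ := AdjoinRoot.mk_surjective e
  rw [rootHom_mk, Algebra.adjoin_singleton_eq_range_aeval]
  exact ⟨g, rfl⟩

/-- A regular section: powers split off and an equation of degree `r` with unit derivative. -/
theorem exists_equation [IsLocalRing R] (r : ℕ) (hA : Module.finrank R A = r ^ 2) (ξ : A)
    (hsep : (minpoly (IsLocalRing.ResidueField R) ((1 : IsLocalRing.ResidueField R) ⊗ₜ[R] ξ)).Separable)
    (hdeg : (minpoly (IsLocalRing.ResidueField R) ((1 : IsLocalRing.ResidueField R) ⊗ₜ[R] ξ)).natDegree = r) :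
    (∃ l, l ∘ₗ Fintype.linearCombination R (fun i : Fin r => ξ ^ (i : ℕ)) = LinearMap.id) ∧
      ∃ f : R[X], f.Monic ∧ f.natDegree = r ∧ aeval ξ f = 0 ∧
        IsUnit (aeval (AdjoinRoot.root f) (derivative f)) := by
  let κ := IsLocalRing.ResidueField R
  have := GrothLib.Azu.isAzumaya_baseChange R κ A
  have : Module.Free R A := Module.free_of_flat_of_isLocalRing
  set x : κ ⊗[R] A := (1 : κ) ⊗ₜ[R] ξ
  have hxi : IsIntegral κ x := Algebra.IsIntegral.isIntegral x
  let L := Fintype.linearCombination R (fun i : Fin r => ξ ^ (i : ℕ))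
  have hB : Module.finrank κ (κ ⊗[R] A) = r ^ 2 := by rw [Module.finrank_baseChange, hA]
  -- the fibre of the powers
  let ε : κ ⊗[R] (Fin r → R) ≃ₗ[κ] (Fin r → κ) := TensorProduct.piScalarRight R κ κ (Fin r)
  have hL : ∀ t : κ ⊗[R] (Fin r → R),
      L.lTensor κ t = ∑ i : Fin r, (ε t i) • x ^ (i : ℕ) := by
    intro t
    induction t using TensorProduct.induction_on with
    | zero => simp
    | add p q hp hq => simp only [map_add, hp, hq, Pi.add_apply, add_smul, Finset.sum_add_distrib]
    | tmul c v =>
      simp [L, ε, x, Fintype.linearCombination_apply, TensorProduct.tmul_sum, Algebra.TensorProduct.tmul_pow,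
        TensorProduct.smul_tmul', TensorProduct.tmul_smul]
  have hind : Function.Injective (L.lTensor κ) := by
    rw [injective_iff_map_eq_zero]
    intro t ht
    rw [hL] at ht
    apply ε.injective
    rw [map_zero]
    have h1 : (∑ i : Fin r, C (ε t i) * X ^ (i : ℕ)) = 0 := by
      by_contra hne
      have h2 := minpoly.degree_le_of_ne_zero κ x hne (by simpa [aeval_def, eval₂_finsetSum, Algebra.smul_def] using ht)
      rw [degree_eq_natDegree (minpoly.ne_zero hxi), hdeg] at h2
      exact absurd h2 (not_le.2 (degree_sum_fin_lt _))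
    funext i
    have h3 := congrArg (fun q : κ[X] => q.coeff (i : ℕ)) h1
    simpa [finsetSum_coeff, coeff_X_pow, Fin.val_inj] using h3
  obtain ⟨l, hl⟩ := (IsLocalRing.split_injective_iff_lTensor_residueField_injective L).2 hind
  refine ⟨⟨l, hl⟩, ?_⟩
  have hlL : ∀ v, l (L v) = v := LinearMap.congr_fun hl
  -- the centralizer of `ξ` is the span of the powers
  let π : A →ₗ[R] A := LinearMap.id - L ∘ₗ l
  let W := LinearMap.range π
  have hπW : W.subtype ∘ₗ π.rangeRestrict = π := rfl
  have hππ : ∀ a, π (π a) = π a := fun a => by simp [π, hlL]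
  have : Module.Finite R W := Module.Finite.of_surjective π.rangeRestrict (LinearMap.surjective_rangeRestrict _)
  let ad : A →ₗ[R] A := LinearMap.mulLeft R ξ - LinearMap.mulRight R ξ
  have hLad : ∀ v, ad (L v) = 0 := fun v => by
    simp [ad, L, Fintype.linearCombination_apply, Finset.mul_sum, Finset.sum_mul, mul_smul_comm,
      smul_mul_assoc, ← pow_succ, ← pow_succ']
  have hadW : Function.Injective ((ad ∘ₗ W.subtype).lTensor κ) := by
    rw [injective_iff_map_eq_zero]
    intro t ht
    have hsec : π.rangeRestrict ∘ₗ W.subtype = LinearMap.id := LinearMap.ext fun w => by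
      obtain ⟨w, a, rfl⟩ := w
      exact Subtype.ext (hππ a)
    have hinjW : Function.Injective (W.subtype.lTensor κ) :=
      Function.LeftInverse.injective (g := π.rangeRestrict.lTensor κ) fun s => by
        rw [← LinearMap.comp_apply, ← LinearMap.lTensor_comp, hsec, LinearMap.lTensor_id, LinearMap.id_apply]
    set c := W.subtype.lTensor κ t with hc
    have had : ∀ s : κ ⊗[R] A, ad.lTensor κ s = x * s - s * x := by
      intro s
      induction s using TensorProduct.induction_on with
      | zero => simp
      | add p q hp hq => rw [map_add, hp, hq, mul_add, add_mul]; abel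
      | tmul d a => simp [ad, x, TensorProduct.tmul_sub]
    rw [LinearMap.lTensor_comp, LinearMap.comp_apply, had, sub_eq_zero] at ht
    have hmem := mem_adjoin_of_commute r hB x hsep hdeg c ht.symm
    -- `k[x]` is the image of the powers
    obtain ⟨s, hs⟩ : c ∈ LinearMap.range (L.lTensor κ) := by
      rw [Algebra.adjoin_singleton_eq_range_aeval] at hmem
      obtain ⟨g, hg⟩ := hmem
      rw [← hg]
      show aeval x g ∈ _
      rw [← modByMonic_add_div g (minpoly κ x), map_add, map_mul, minpoly.aeval, zero_mul, add_zero]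
      have : Nontrivial (κ ⊗[R] A) := Module.nontrivial_of_finrank_pos (R := κ)
        (hB ▸ pow_pos (pos_of_finrank hA) 2)
      have hdg : (g %ₘ minpoly κ x).natDegree < r := by
        exact (natDegree_modByMonic_lt g (minpoly.monic hxi) (minpoly.ne_one κ x)).trans_eq hdeg
      refine ⟨ε.symm fun i => (g %ₘ minpoly κ x).coeff i, ?_⟩
      rw [hL, LinearEquiv.apply_symm_apply, aeval_eq_sum_range' hdg]
      exact (Finset.sum_range fun i => (g %ₘ minpoly κ x).coeff i • x ^ i).symm
    have h0 : π ∘ₗ L = 0 := LinearMap.ext fun v => by simp [π, hlL]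
    have hfix : π.lTensor κ c = c := by
      rw [hc, ← LinearMap.comp_apply, ← LinearMap.lTensor_comp]
      congr 2
      exact LinearMap.ext fun w => by
        obtain ⟨w, a, rfl⟩ := w
        exact hππ a
    refine hinjW ((map_zero (W.subtype.lTensor κ)).symm ▸ ?_)
    show c = 0
    rw [← hfix, ← hs, ← LinearMap.comp_apply, ← LinearMap.lTensor_comp, h0, LinearMap.lTensor_zero,
      LinearMap.zero_apply]
  obtain ⟨m, hm⟩ := (IsLocalRing.split_injective_iff_lTensor_residueField_injective (ad ∘ₗ W.subtype)).2 hadW
  have hW : ad (π.rangeRestrict (ξ ^ r) : A) = 0 := by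
    show ad (π (ξ ^ r)) = 0
    rw [show π (ξ ^ r) = ξ ^ r - L (l (ξ ^ r)) from rfl, map_sub, hLad, sub_zero]
    simp [ad, ← pow_succ, ← pow_succ']
  have hw0 : π.rangeRestrict (ξ ^ r) = 0 := by
    rw [← LinearMap.id_apply (R := R) (π.rangeRestrict (ξ ^ r)), ← hm, LinearMap.comp_apply,
      LinearMap.comp_apply, Submodule.subtype_apply, hW, map_zero]
  have hξr : ξ ^ r = L (l (ξ ^ r)) := sub_eq_zero.1 (congrArg Subtype.val hw0)
  -- the equation
  let v := l (ξ ^ r)
  let f : R[X] := X ^ r - ∑ i : Fin r, C (v i) * X ^ (i : ℕ)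
  have hfm : f.Monic := monic_X_pow_sub (by exact (degree_sum_fin_lt v))
  rcases subsingleton_or_nontrivial R with hR | hR
  · exact absurd hR (not_subsingleton R)
  have hfd : f.natDegree = r := by
    refine natDegree_eq_of_degree_eq_some ?_
    rw [degree_sub_eq_left_of_degree_lt (by rw [degree_X_pow]; exact degree_sum_fin_lt v), degree_X_pow]
  have hf0 : aeval ξ f = 0 := by
    simp only [f, map_sub, map_pow, aeval_X, map_sum, map_mul, aeval_C]
    rw [sub_eq_zero]
    conv_lhs => rw [hξr]
    simp [L, v, Fintype.linearCombination_apply, Algebra.smul_def]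
  refine ⟨f, hfm, hfd, hf0, ?_⟩
  -- the fibre equation is the minimal polynomial
  let ι : A →ₐ[R] κ ⊗[R] A := Algebra.TensorProduct.includeRight
  have hfκ : f.map (algebraMap R κ) = minpoly κ x := by
    have h1 : aeval x (f.map (algebraMap R κ)) = 0 := by
      rw [aeval_map_algebraMap, show x = ι ξ from rfl, aeval_algHom_apply, hf0, map_zero]
    refine (eq_of_monic_of_dvd_of_natDegree_le (minpoly.monic hxi) (hfm.map _) (minpoly.dvd κ x h1) ?_)
    rw [hfm.natDegree_map, hfd, hdeg]
  obtain ⟨a, b, hab⟩ := hfκ ▸ hsep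
  obtain ⟨a', ha'⟩ := map_surjective (algebraMap R κ) IsLocalRing.residue_surjective a
  obtain ⟨b', hb'⟩ := map_surjective (algebraMap R κ) IsLocalRing.residue_surjective b
  have : Module.Finite R (AdjoinRoot f) := (AdjoinRoot.powerBasis' hfm).finite
  set ρ := AdjoinRoot.root f
  have hρ : aeval ρ f = 0 := by rw [AdjoinRoot.aeval_eq, AdjoinRoot.mk_self]
  have hker : (a' * f + b' * derivative f - 1).map (algebraMap R κ) = 0 := by
    rw [Polynomial.map_sub, Polynomial.map_add, Polynomial.map_mul, Polynomial.map_mul, ha', hb',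
      ← derivative_map, hab, Polynomial.map_one, sub_self]
  have hjac : aeval ρ (a' * f + b' * derivative f - 1) ∈ (IsLocalRing.maximalIdeal R).map (algebraMap R (AdjoinRoot f)) := by
    rw [aeval_eq_sum_range]
    refine sum_mem fun i _ => ?_
    rw [Algebra.smul_def]
    refine Ideal.mul_mem_right _ _ (Ideal.mem_map_of_mem _ ?_)
    have := congrArg (fun q : κ[X] => q.coeff i) hker
    rw [coeff_map, coeff_zero] at this
    exact (IsLocalRing.residue_eq_zero_iff _).1 this
  have hu : IsUnit (aeval ρ (b' * derivative f)) := by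
    by_contra hnu
    obtain ⟨M, hM, hmem⟩ := exists_max_ideal_of_mem_nonunits hnu
    have hcm : M.comap (algebraMap R (AdjoinRoot f)) = IsLocalRing.maximalIdeal R :=
      IsLocalRing.eq_maximalIdeal (Ideal.isMaximal_comap_of_isIntegral_of_isMaximal (R := R) M)
    have h1 := Ideal.map_le_iff_le_comap.2 hcm.ge hjac
    rw [map_sub, map_add, map_mul, hρ, mul_zero, zero_add, map_one] at h1
    exact hM.ne_top ((Ideal.eq_top_iff_one _).2 (by simpa using M.sub_mem hmem h1))
  rw [map_mul] at hu
  exact isUnit_of_mul_isUnit_right hu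

end GrothLib.AzMod
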