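import Groth.Agent.Lib.AzMod.IdemLift
import Groth.Agent.Lib.AzMod.Cancel
import Groth.Agent.Lib.AzMod.Centralizer
import Groth.Agent.Lib.Azumaya.Constructions
import Groth.Agent.Lib.Hensel.Local
import Mathlib.RingTheory.Henselian
import Mathlib.RingTheory.Nakayama
import Mathlib.RingTheory.LocalRing.Module
import Mathlib.RingTheory.LocalRing.ResidueField.Basic
import Mathlib.LinearAlgebra.TensorProduct.Quotient

set_option autoImplicit false

/-!
# Isomorphisms of Azumaya algebras lift along henselian local rings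
-/

universe u v w

open scoped TensorProduct
open MulOpposite IsLocalRing

namespace GrothLib.AzMod

theorem mem_smul_top_of_one_tmul {R : Type u} [CommRing R] [IsLocalRing R] {M : Type v} [AddCommGroup M] [Module R M]
    {m : M} (h : (1 : ResidueField R) ⊗ₜ[R] m = 0) : m ∈ (maximalIdeal R • ⊤ : Submodule R M) := by
  have h1 := congrArg (TensorProduct.quotTensorEquivQuotSMul M (maximalIdeal R)) (show
    (1 : R ⧸ maximalIdeal R) ⊗ₜ[R] m = 0 from h)
  simp only [map_zero] at h1
  have h2 : Submodule.Quotient.mk ((1 : R) • m) = (0 : M ⧸ (maximalIdeal R • ⊤ : Submodule R M)) := by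
    rw [← h1]
    exact ((congrArg _ (by rw [map_one])).trans (TensorProduct.quotTensorEquivQuotSMul_mk_tmul (maximalIdeal R) 1 m)).symm
  rwa [one_smul, Submodule.Quotient.mk_eq_zero] at h2

variable {R : Type u} [CommRing R] [HenselianLocalRing R] {A : Type v} [Ring A] [Algebra R A]
  {B : Type w} [Ring B] [Algebra R B]

/-- The regular bimodule action on the special fibre through an isomorphism of special fibres. -/
noncomputable def fibreAct (e₀ : (ResidueField R ⊗[R] A) ≃ₐ[ResidueField R] (ResidueField R ⊗[R] B)) :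
    (A ⊗[R] Bᵐᵒᵖ) →ₐ[R] Module.End (ResidueField R) (ResidueField R ⊗[R] B) :=
  Algebra.TensorProduct.lift
    (((Algebra.lmul (ResidueField R) (ResidueField R ⊗[R] B)).restrictScalars R).comp
      ((e₀.toAlgHom.restrictScalars R).comp Algebra.TensorProduct.includeRight))
    (AlgHom.ofLinearMap
      { toFun := fun b => LinearMap.mulRight (ResidueField R) ((1 : ResidueField R) ⊗ₜ[R] b.unop)
        map_add' := fun b c => LinearMap.ext fun z => by simp [TensorProduct.tmul_add, mul_add]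
        map_smul' := fun r b => LinearMap.ext fun z => by simp [TensorProduct.tmul_smul] }
      (LinearMap.ext fun z => by simp [← Algebra.TensorProduct.one_def])
      (fun b c => LinearMap.ext fun z => by simp [mul_assoc]))
    (fun a b => LinearMap.ext fun z => by simp [mul_assoc])

theorem fibreAct_tmul_one (e₀ : (ResidueField R ⊗[R] A) ≃ₐ[ResidueField R] (ResidueField R ⊗[R] B)) (a : A) (z) :
    fibreAct e₀ (a ⊗ₜ 1) z = e₀ ((1 : ResidueField R) ⊗ₜ a) * z := by
  simp [fibreAct, ← Algebra.TensorProduct.one_def]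

theorem fibreAct_one_tmul (e₀ : (ResidueField R ⊗[R] A) ≃ₐ[ResidueField R] (ResidueField R ⊗[R] B)) (b : B) (z) :
    fibreAct e₀ (1 ⊗ₜ op b) z = z * ((1 : ResidueField R) ⊗ₜ b) := by
  simp [fibreAct, ← Algebra.TensorProduct.one_def]

variable [IsAzumaya R A] [IsAzumaya R B]

theorem fibreAct_surjective_and_ker
    (e₀ : (ResidueField R ⊗[R] A) ≃ₐ[ResidueField R] (ResidueField R ⊗[R] B)) :
    Function.Surjective (fibreAct e₀) ∧
      ∀ c, fibreAct e₀ c = 0 → c ∈ (maximalIdeal R • ⊤ : Submodule R (A ⊗[R] Bᵐᵒᵖ)) := by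
  let k := ResidueField R
  let B₀ := k ⊗[R] B
  let C := A ⊗[R] Bᵐᵒᵖ
  have hk : IsAzumaya k B₀ := GrothLib.Azu.isAzumaya_baseChange R k B
  have hBop : IsAzumaya R Bᵐᵒᵖ := isAzumaya_op B
  have hC : IsAzumaya R C := GrothLib.Azu.isAzumaya_tensor R A Bᵐᵒᵖ
  have hC₀ : IsAzumaya k (k ⊗[R] C) := GrothLib.Azu.isAzumaya_baseChange R k C
  have : Nontrivial B₀ := by
    by_contra h
    have := not_nontrivial_iff_subsingleton.1 h
    exact one_ne_zero (FaithfulSMul.eq_of_smul_eq_smul (α := B₀) (m₁ := (1 : k)) (m₂ := 0)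
      fun x => Subsingleton.elim _ _)
  have : FaithfulSMul k (Module.End k B₀) :=
    (faithfulSMul_iff_algebraMap_injective _ _).2 (RingHom.injective _)
  let act₀ : k ⊗[R] C →ₐ[k] Module.End k B₀ :=
    Algebra.TensorProduct.lift (Algebra.ofId k _) (fibreAct e₀) (fun r c => Algebra.commutes r _)
  have hinj : Function.Injective act₀ := injective_of_scalars (A := k ⊗[R] C) (B := Module.End k B₀) act₀
  have : Module.Free R A := Module.free_of_flat_of_isLocalRing
  have : Module.Free R B := Module.free_of_flat_of_isLocalRing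
  have : Module.Free R Bᵐᵒᵖ := Module.Free.of_equiv (MulOpposite.opLinearEquiv R)
  have hdim : Module.finrank k (k ⊗[R] C) = Module.finrank k (Module.End k B₀) := by
    rw [Module.finrank_linearMap, Module.finrank_baseChange, Module.finrank_tensorProduct,
      Module.finrank_baseChange, ← LinearEquiv.finrank_eq (MulOpposite.opLinearEquiv R (M := B))]
    congr 1
    rw [← Module.finrank_baseChange (R := k) (M' := A), e₀.toLinearEquiv.finrank_eq, Module.finrank_baseChange]
  have hsurj : Function.Surjective act₀ :=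
    (LinearMap.injective_iff_surjective_of_finrank_eq_finrank hdim (f := act₀.toLinearMap)).1 hinj
  have hone : ∀ c : C, act₀ ((1 : k) ⊗ₜ c) = fibreAct e₀ c := fun c => by simp [act₀]
  refine ⟨fun φ => ?_, fun c hc => mem_smul_top_of_one_tmul (hinj (by rw [hone, hc, map_zero]))⟩
  obtain ⟨x, hx⟩ := hsurj φ
  obtain ⟨c, hc⟩ := TensorProduct.mk_surjective R C k Ideal.Quotient.mk_surjective x
  exact ⟨c, by rw [← hone, ← hx, ← hc]; rfl⟩

omit [HenselianLocalRing R] [IsAzumaya R A] [IsAzumaya R B] in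
/-- A map to a projective module which is bijective modulo the maximal ideal is bijective. -/
theorem bijective_of_mod [IsLocalRing R] {M : Type v} [AddCommGroup M] [Module R M] [Module.Finite R M]
    {P : Type w} [AddCommGroup P] [Module R P] [Module.Finite R P] [Module.Projective R P] (f : M →ₗ[R] P)
    (hs : ∀ y : P, ∃ x, y - f x ∈ (maximalIdeal R • ⊤ : Submodule R P))
    (hi : ∀ x, f x = 0 → x ∈ (maximalIdeal R • ⊤ : Submodule R M)) : Function.Bijective f := by
  have hsurj : Function.Surjective f := by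
    rw [← LinearMap.range_eq_top]
    refine eq_top_iff.2 (Submodule.le_of_le_smul_of_le_jacobson_bot Module.Finite.fg_top
      (IsLocalRing.maximalIdeal_le_jacobson ⊥) fun y _ => ?_)
    obtain ⟨x, hx⟩ := hs y
    rw [← add_sub_cancel (f x) y]
    exact Submodule.add_mem_sup (LinearMap.mem_range_self f x) hx
  refine ⟨?_, hsurj⟩
  obtain ⟨g, hg⟩ := Module.projective_lifting_property f LinearMap.id hsurj
  let π : M →ₗ[R] M := LinearMap.id - g ∘ₗ f
  have hπ : ∀ x, f (π x) = 0 := fun x => by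
    simp [π, show f (g (f x)) = f x from LinearMap.congr_fun hg (f x)]
  have hker : ∀ x, f x = 0 → π x = x := fun x hx => by simp [π, hx]
  have hbot : LinearMap.range π ≤ ⊥ := by
    refine Submodule.le_of_le_smul_of_le_jacobson_bot (Module.Finite.fg_top.map π |> fun h => by
      rwa [Submodule.map_top] at h) (IsLocalRing.maximalIdeal_le_jacobson ⊥) ?_
    rintro _ ⟨x, rfl⟩
    rw [bot_sup_eq, ← hker _ (hπ x)]
    have h1 := hi _ (hπ x)
    rw [← Submodule.map_top, ← Submodule.map_smul'']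
    exact Submodule.mem_map_of_mem h1
  rw [← LinearMap.ker_eq_bot, eq_bot_iff]
  intro x hx
  exact hbot ⟨x, hker x hx⟩

theorem exists_algEquiv_lift
    (e₀ : (ResidueField R ⊗[R] A) ≃ₐ[ResidueField R] (ResidueField R ⊗[R] B)) :
    ∃ e : A ≃ₐ[R] B, ∀ a : A, e₀ ((1 : ResidueField R) ⊗ₜ[R] a) = (1 : ResidueField R) ⊗ₜ[R] (e a) := by
  let k := ResidueField R
  let B₀ := k ⊗[R] B
  let C := A ⊗[R] Bᵐᵒᵖ
  have hBop : IsAzumaya R Bᵐᵒᵖ := isAzumaya_op B
  have hC : IsAzumaya R C := GrothLib.Azu.isAzumaya_tensor R A Bᵐᵒᵖ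
  have hk : IsAzumaya k B₀ := GrothLib.Azu.isAzumaya_baseChange R k B
  obtain ⟨hsurj, hker⟩ := fibreAct_surjective_and_ker e₀
  have hkill : ∀ {c : C}, c ∈ (maximalIdeal R • ⊤ : Submodule R C) → fibreAct e₀ c = 0 := fun {c} hc =>
    Submodule.smul_induction_on hc (fun r hr y _ => by
      rw [map_smul, ← algebraMap_smul k r (fibreAct e₀ y),
        show algebraMap R k r = 0 from Ideal.Quotient.eq_zero_iff_mem.2 hr, zero_smul])
      (fun x y hx hy => by rw [map_add, hx, hy, add_zero])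
  obtain ⟨φ, hφ⟩ := exists_dual_one (R := k) (A := B₀)
  obtain ⟨x, hx⟩ := hsurj (φ.smulRight (1 : B₀))
  have : HenselianRing R (maximalIdeal R) := inferInstance
  obtain ⟨p, hp, hpx⟩ := exists_idempotent_lift (maximalIdeal R) (x := x) (hker _ (by
    rw [map_sub, map_mul, hx, sub_eq_zero]
    refine LinearMap.ext fun z => ?_
    simp [Module.End.mul_apply, hφ]))
  have hp' : fibreAct e₀ p = φ.smulRight (1 : B₀) := by
    have := hkill hpx
    rwa [map_sub, hx, sub_eq_zero] at this
  have hact : ∀ c : C, fibreAct e₀ (c * p) = φ.smulRight (fibreAct e₀ c 1) := fun c => by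
    rw [map_mul, hp']
    exact LinearMap.ext fun z => by simp [Module.End.mul_apply]
  let P : Submodule R C := LinearMap.range (LinearMap.mulRight R p)
  have hmem : ∀ c : C, c * p ∈ P := fun c => ⟨c, rfl⟩
  have hPp : ∀ y : P, (y : C) * p = y := fun y => by
    obtain ⟨c, hc⟩ := y.2
    rw [← hc, LinearMap.mulRight_apply, mul_assoc, hp.eq]
  let toP : C →ₗ[R] P := (LinearMap.mulRight R p).rangeRestrict
  have htoP : ∀ y : P, toP y = y := fun y => Subtype.ext (hPp y)
  have : Module.Finite R P := Module.Finite.of_surjective toP fun y => ⟨y, htoP y⟩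
  have : Module.Projective R P := Module.Projective.of_split P.subtype toP (LinearMap.ext htoP)
  have hsmul : ∀ {c : C}, c ∈ (maximalIdeal R • ⊤ : Submodule R C) →
      toP c ∈ (maximalIdeal R • ⊤ : Submodule R P) := fun {c} hc =>
    (Submodule.map_smul'' _ _ toP).trans_le (Submodule.smul_mono le_rfl le_top) ⟨c, hc, rfl⟩
  let L : A →ₗ[R] P := toP ∘ₗ (Algebra.TensorProduct.includeLeft : A →ₐ[R] C).toLinearMap
  let Rt : B →ₗ[R] P := toP ∘ₗ (Algebra.TensorProduct.includeRight : Bᵐᵒᵖ →ₐ[R] C).toLinearMap ∘ₗ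
    (MulOpposite.opLinearEquiv R).toLinearMap
  have hred : ∀ (y : P) (c : C), fibreAct e₀ (y : C) 1 = fibreAct e₀ c 1 →
      y - toP c ∈ (maximalIdeal R • ⊤ : Submodule R P) := fun y c h => by
    have h0 : fibreAct e₀ (((y : C) - c) * p) = 0 := by
      rw [hact, map_sub, LinearMap.sub_apply, h, sub_self]
      exact LinearMap.ext fun z => by simp
    have h1 := hsmul (hker _ h0)
    rwa [show toP (((y : C) - c) * p) = y - toP c from Subtype.ext (by
      show ((y : C) - c) * p * p = (y : C) - c * p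
      rw [mul_assoc, hp.eq, sub_mul, hPp])] at h1
  have h1 : fibreAct e₀ p 1 = 1 := by simp [hp', hφ]
  have hL1 : ∀ a : A, fibreAct e₀ (L a : C) 1 = e₀ ((1 : k) ⊗ₜ a) := fun a => by
    show fibreAct e₀ ((a ⊗ₜ 1) * p) 1 = _
    rw [map_mul, Module.End.mul_apply, h1, fibreAct_tmul_one, mul_one]
  have hR1 : ∀ b : B, fibreAct e₀ (Rt b : C) 1 = (1 : k) ⊗ₜ b := fun b => by
    show fibreAct e₀ ((1 ⊗ₜ op b) * p) 1 = _
    rw [map_mul, Module.End.mul_apply, h1, fibreAct_one_tmul, one_mul]
  have hLb : Function.Bijective L := by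
    refine bijective_of_mod (R := R) (M := A) (P := P) L (fun y => ?_) fun a ha => ?_
    · obtain ⟨a, ha⟩ := TensorProduct.mk_surjective R A k Ideal.Quotient.mk_surjective (e₀.symm (fibreAct e₀ (y : C) 1))
      refine ⟨a, hred y (a ⊗ₜ 1) ?_⟩
      rw [fibreAct_tmul_one, mul_one, show (1 : k) ⊗ₜ[R] a = _ from ha, AlgEquiv.apply_symm_apply]
    · refine mem_smul_top_of_one_tmul (e₀.injective ?_)
      rw [← hL1, ha, map_zero]
      simp
  have hRb : Function.Bijective Rt := by
    refine bijective_of_mod (R := R) (M := B) (P := P) Rt (fun y => ?_) fun b hb => ?_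
    · obtain ⟨b, hb⟩ := TensorProduct.mk_surjective R B k Ideal.Quotient.mk_surjective (fibreAct e₀ (y : C) 1)
      refine ⟨b, hred y (1 ⊗ₜ op b) ?_⟩
      rw [fibreAct_one_tmul, one_mul, show (1 : k) ⊗ₜ[R] b = _ from hb]
    · refine mem_smul_top_of_one_tmul ?_
      rw [← hR1, hb]
      simp
  let ε : A ≃ₗ[R] B := (LinearEquiv.ofBijective L hLb).trans (LinearEquiv.ofBijective Rt hRb).symm
  have hε : ∀ a : A, ((1 : A) ⊗ₜ[R] op (ε a)) * p = (a ⊗ₜ[R] (1 : Bᵐᵒᵖ)) * p := fun a =>
    congrArg Subtype.val ((LinearEquiv.ofBijective Rt hRb).apply_symm_apply (L a))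
  have huniq : ∀ (a : A) (b : B), ((1 : A) ⊗ₜ[R] op b) * p = (a ⊗ₜ[R] (1 : Bᵐᵒᵖ)) * p → ε a = b := fun a b h =>
    hRb.1 (Subtype.ext ((hε a).trans h.symm))
  have hone : ε 1 = 1 := huniq 1 1 rfl
  have hmul : ∀ a a' : A, ε (a * a') = ε a * ε a' := fun a a' => huniq _ _ (by
    calc ((1 : A) ⊗ₜ[R] op (ε a * ε a')) * p = (1 ⊗ₜ op (ε a')) * ((1 ⊗ₜ op (ε a)) * p) := by
          rw [← mul_assoc, Algebra.TensorProduct.tmul_mul_tmul, one_mul, op_mul]
      _ = (1 ⊗ₜ op (ε a')) * ((a ⊗ₜ 1) * p) := by rw [hε]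
      _ = (a ⊗ₜ 1) * ((1 ⊗ₜ op (ε a')) * p) := by
          rw [← mul_assoc, ← mul_assoc, Algebra.TensorProduct.tmul_mul_tmul, Algebra.TensorProduct.tmul_mul_tmul]
          simp
      _ = ((a * a') ⊗ₜ[R] (1 : Bᵐᵒᵖ)) * p := by
          rw [hε, ← mul_assoc, Algebra.TensorProduct.tmul_mul_tmul, one_mul])
  exact ⟨AlgEquiv.ofLinearEquiv ε hone hmul, fun a => by
    show e₀ ((1 : k) ⊗ₜ a) = (1 : k) ⊗ₜ ε a
    rw [← hL1, ← hR1]
    exact congrArg (fun y : C => fibreAct e₀ y 1) (hε a).symm⟩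

end GrothLib.AzMod
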