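import Groth.Agent.Lib.AzMod.Skolem
import Groth.Agent.Lib.AzMod.Cancel
import Mathlib.LinearAlgebra.PiTensorProduct.Basic

set_option autoImplicit false

/-!
# Isomorphisms of endomorphism algebras of finite projective modules
-/

universe u v w w'

open scoped TensorProduct
open MulOpposite

namespace GrothLib.AzMod

variable {R : Type u} [CommRing R] {F : Type v} [AddCommGroup F] [Module R F] {G : Type w}
  [AddCommGroup G] [Module R G]

/-- The maps `z` with `φ f ∘ z = z ∘ f`. -/
def homTwist (φ : Module.End R F →ₐ[R] Module.End R G) : Submodule R (F →ₗ[R] G) :=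
  ⨅ f : Module.End R F,
    LinearMap.ker (LinearMap.llcomp R F G G (φ f) - LinearMap.lcomp R G f)

theorem mem_homTwist {φ : Module.End R F →ₐ[R] Module.End R G} {z : F →ₗ[R] G} :
    z ∈ homTwist φ ↔ ∀ f : Module.End R F, φ f ∘ₗ z = z ∘ₗ f := by
  simp [homTwist, sub_eq_zero]
  rfl

variable [Module.Finite R F] [Module.Projective R F] [FaithfulSMul R F]
  [Module.Finite R G] [Module.Projective R G] [FaithfulSMul R G]

theorem exists_sum_homTwist (φ : Module.End R F →ₐ[R] Module.End R G) (a : F →ₗ[R] G) :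
    ∃ (n : ℕ) (c : Fin n → Module.End R F) (z : Fin n → homTwist φ),
      ∑ i, φ (c i) ∘ₗ (z i : F →ₗ[R] G) = a := by
  have := GrothLib.Azu.isAzumaya_end R F
  let l : Module.End R F →ₐ[R] Module.End R (F →ₗ[R] G) :=
    AlgHom.ofLinearMap ((LinearMap.llcomp R F G G) ∘ₗ φ.toLinearMap)
      (by refine LinearMap.ext fun z => ?_; simp; rfl)
      (fun a b => by refine LinearMap.ext fun z => ?_; simp [LinearMap.comp_assoc]; rfl)
  let r : (Module.End R F)ᵐᵒᵖ →ₐ[R] Module.End R (F →ₗ[R] G) :=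
    AlgHom.ofLinearMap
      ((LinearMap.llcomp R F F G).flip ∘ₗ (MulOpposite.opLinearEquiv R).symm.toLinearMap)
      (by refine LinearMap.ext fun z => ?_; simp; rfl)
      (fun a b => by refine LinearMap.ext fun z => ?_; simp [LinearMap.comp_assoc]; rfl)
  let ρ := Algebra.TensorProduct.lift l r fun a b => LinearMap.ext fun z =>
    LinearMap.ext fun t => rfl
  have hfix : fixed ρ = homTwist φ := by
    ext z; simp [mem_fixed, mem_homTwist, ρ, l, r]
    exact ⟨fun h f => h f, fun h f => h f⟩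
  obtain ⟨n, c, z, h⟩ := exists_sum_eq ρ a
  refine ⟨n, c, fun i => ⟨z i, hfix ▸ (z i).2⟩, ?_⟩
  rw [← h]
  simp [ρ, l, r]
  rfl

theorem comp_homTwist_mem (φ : Module.End R F ≃ₐ[R] Module.End R G)
    (z : homTwist (φ : Module.End R F →ₐ[R] Module.End R G))
    (w : homTwist (φ.symm : Module.End R G →ₐ[R] Module.End R F)) :
    ∃ r : R, (z : F →ₗ[R] G) ∘ₗ (w : G →ₗ[R] F) = algebraMap R (Module.End R G) r := by
  have := GrothLib.Azu.isAzumaya_end R G
  refine exists_eq_algebraMap_of_forall_commute fun g => ?_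
  have h1 := mem_homTwist.1 z.2 (φ.symm g)
  have h2 := mem_homTwist.1 w.2 g
  simp only [AlgEquiv.coe_toAlgHom, AlgEquiv.apply_symm_apply] at h1 h2
  rw [Module.End.mul_eq_comp, Module.End.mul_eq_comp, ← LinearMap.comp_assoc, h1, LinearMap.comp_assoc,
    h2, ← LinearMap.comp_assoc]

theorem comp_homTwist_mem' (φ : Module.End R F ≃ₐ[R] Module.End R G)
    (z : homTwist (φ : Module.End R F →ₐ[R] Module.End R G))
    (w : homTwist (φ.symm : Module.End R G →ₐ[R] Module.End R F)) :
    ∃ r : R, (w : G →ₗ[R] F) ∘ₗ (z : F →ₗ[R] G) = algebraMap R (Module.End R F) r :=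
  comp_homTwist_mem φ.symm w z

theorem exists_comp_notMem (φ : Module.End R F ≃ₐ[R] Module.End R G) (p : Ideal R) (hp : p ≠ ⊤) :
    ∃ (z : homTwist (φ : Module.End R F →ₐ[R] Module.End R G))
      (w : homTwist (φ.symm : Module.End R G →ₐ[R] Module.End R F)) (r : R),
      (z : F →ₗ[R] G) ∘ₗ (w : G →ₗ[R] F) = algebraMap R (Module.End R G) r ∧ r ∉ p := by
  by_contra hcon
  push Not at hcon
  have := GrothLib.Azu.isAzumaya_end R G
  have hab : ∀ (a : F →ₗ[R] G) (b : G →ₗ[R] F),
      a ∘ₗ b ∈ Ideal.map (algebraMap R (Module.End R G)) p := by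
    intro a b
    obtain ⟨n, c, z, rfl⟩ := exists_sum_homTwist (φ : Module.End R F →ₐ[R] Module.End R G) a
    obtain ⟨m, d, w, rfl⟩ := exists_sum_homTwist (φ.symm : Module.End R G →ₐ[R] Module.End R F) b
    have hexp : ∀ (u : Fin n → F →ₗ[R] G) (v : Fin m → G →ₗ[R] F),
        (∑ i, u i) ∘ₗ (∑ j, v j) = ∑ i, ∑ j, u i ∘ₗ v j := fun u v =>
      LinearMap.ext fun t => by simp [LinearMap.sum_apply, map_sum]; try exact Finset.sum_comm
    rw [hexp]
    refine sum_mem fun i _ => sum_mem fun j _ => ?_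
    obtain ⟨r, hr⟩ := comp_homTwist_mem φ (z i) (w j)
    have h2 := mem_homTwist.1 (z i).2 (φ.symm (d j))
    simp only [AlgEquiv.coe_toAlgHom, AlgEquiv.apply_symm_apply] at h2
    simp only [AlgEquiv.coe_toAlgHom]
    rw [LinearMap.comp_assoc, ← LinearMap.comp_assoc _ _ (z i : F →ₗ[R] G), ← h2, LinearMap.comp_assoc, hr,
      ← Module.End.mul_eq_comp, ← Module.End.mul_eq_comp]
    exact Ideal.mul_mem_left _ _ (Ideal.mul_mem_left _ _ (Ideal.mem_map_of_mem _ (hcon _ _ _ hr)))
  obtain ⟨n, x, f, hf⟩ := exists_sum_dual_eq_one (R := R) F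
  obtain ⟨m, y, g, hg⟩ := exists_dualBasis (R := R) G
  have h1 : (1 : Module.End R G) = ∑ k, ∑ i, (f i).smulRight (y k) ∘ₗ (g k).smulRight (x i) := by
    refine LinearMap.ext fun t => ?_
    simp
    simp_rw [← Finset.sum_smul, ← Finset.mul_sum, hf, mul_one, hg]
  have h2 : (1 : Module.End R G) ∈ Ideal.map (algebraMap R (Module.End R G)) p := by
    rw [h1]; exact sum_mem fun k _ => sum_mem fun i _ => hab _ _
  have h3 : (1 : R) ∈ (Ideal.map (algebraMap R (Module.End R G)) p).comap (algebraMap R (Module.End R G)) := by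
    simpa using h2
  rw [comap_map_eq] at h3
  exact hp ((Ideal.eq_top_iff_one _).2 h3)

/-- The twisting maps form an invertible module `L` and `F ⊗ L ≅ G`. -/
theorem homTwist_invertible_and_bijective (φ : Module.End R F ≃ₐ[R] Module.End R G) :
    Module.Invertible R (homTwist (φ : Module.End R F →ₐ[R] Module.End R G)) ∧
      Function.Bijective (TensorProduct.lift
        (homTwist (φ : Module.End R F →ₐ[R] Module.End R G)).subtype.flip) := by
  have := GrothLib.Azu.isAzumaya_end R G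
  have := GrothLib.Azu.isAzumaya_end R F
  obtain ⟨g, hg⟩ := exists_dual_one (R := R) (A := Module.End R G)
  obtain ⟨f, hf⟩ := exists_dual_one (R := R) (A := Module.End R F)
  let L := homTwist (φ : Module.End R F →ₐ[R] Module.End R G)
  let L' := homTwist (φ.symm : Module.End R G →ₐ[R] Module.End R F)
  let r : L →ₗ[R] L' →ₗ[R] R :=
    ((LinearMap.llcomp R G F G).compr₂ g).compl₁₂ L.subtype L'.subtype
  let s : L' →ₗ[R] L →ₗ[R] R :=
    ((LinearMap.llcomp R F G F).compr₂ f).compl₁₂ L'.subtype L.subtype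
  have hr : ∀ (z : L) (w : L'),
      algebraMap R (Module.End R G) (r z w) = (z : F →ₗ[R] G) ∘ₗ (w : G →ₗ[R] F) := fun z w => by
    obtain ⟨c, hc⟩ := comp_homTwist_mem φ z w
    rw [hc, show r z w = g ((z : F →ₗ[R] G) ∘ₗ (w : G →ₗ[R] F)) from rfl, hc,
      Algebra.algebraMap_eq_smul_one c, map_smul, hg, smul_eq_mul, mul_one, ← Algebra.algebraMap_eq_smul_one]
  have hs : ∀ (w : L') (z : L),
      algebraMap R (Module.End R F) (s w z) = (w : G →ₗ[R] F) ∘ₗ (z : F →ₗ[R] G) := fun w z => by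
    obtain ⟨c, hc⟩ := comp_homTwist_mem' φ z w
    rw [hc, show s w z = f ((w : G →ₗ[R] F) ∘ₗ (z : F →ₗ[R] G)) from rfl, hc,
      Algebra.algebraMap_eq_smul_one c, map_smul, hf, smul_eq_mul, mul_one, ← Algebra.algebraMap_eq_smul_one]
  have hr' : ∀ (z : L) (w : L') (t : G), (z : F →ₗ[R] G) ((w : G →ₗ[R] F) t) = r z w • t := fun z w t => by
    have h := LinearMap.congr_fun (hr z w) t
    simpa [Module.algebraMap_end_apply] using h.symm
  have hs' : ∀ (w : L') (z : L) (t : F), (w : G →ₗ[R] F) ((z : F →ₗ[R] G) t) = s w z • t := fun w z t => by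
    have h := LinearMap.congr_fun (hs w z) t
    simpa [Module.algebraMap_end_apply] using h.symm
  have hJ : Ideal.span (Set.range fun p : L × L' => r p.1 p.2) = ⊤ := by
    by_contra hne
    obtain ⟨z, w, c, hc, hcm⟩ := exists_comp_notMem φ _ hne
    refine hcm (Ideal.subset_span ⟨(z, w), ?_⟩)
    exact algebraMap_injective (A := Module.End R G) ((hr z w).trans hc)
  obtain ⟨c, hc⟩ := (Finsupp.mem_span_range_iff_exists_finsupp).1
    (hJ ▸ Submodule.mem_top : (1 : R) ∈ Ideal.span (Set.range fun p : L × L' => r p.1 p.2))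
  let z : Fin c.support.card → L := fun i => c (c.support.equivFin.symm i).1 • (c.support.equivFin.symm i).1.1
  let w : Fin c.support.card → L' := fun i => (c.support.equivFin.symm i).1.2
  have hzw : ∑ i, r (z i) (w i) = 1 := by
    rw [← hc, Finsupp.sum, ← Finset.sum_coe_sort c.support, ← c.support.equivFin.symm.sum_comp]
    simp [z, w]
  have h1 : ∀ (x : L) (y : L') (x' : L), r x y • x' = s y x' • x := fun x y x' =>
    Subtype.ext (LinearMap.ext fun t => by
      show r x y • (x' : F →ₗ[R] G) t = s y x' • (x : F →ₗ[R] G) t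
      rw [← hr', ← map_smul (x : F →ₗ[R] G), hs'])
  have h2 : ∀ (x : L) (y y' : L'), s y x • y' = r x y' • y := fun x y y' =>
    Subtype.ext (LinearMap.ext fun t => by
      show s y x • (y' : G →ₗ[R] F) t = r x y' • (y : G →ₗ[R] F) t
      rw [← hs', ← map_smul (y : G →ₗ[R] F), hr'])
  refine ⟨invertible_of_pairing r s h1 h2 z w hzw, ?_⟩
  let Ψ : G →ₗ[R] F ⊗[R] L := ∑ i, (TensorProduct.mk R F L).flip (z i) ∘ₗ (w i : G →ₗ[R] F)
  refine ⟨Function.LeftInverse.injective (g := Ψ) fun t => ?_,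
    Function.RightInverse.surjective (g := Ψ) fun t => ?_⟩
  · induction t using TensorProduct.induction_on with
    | zero => simp
    | add p q hp hq => rw [map_add, map_add, hp, hq]
    | tmul v l =>
      simp only [Ψ, LinearMap.coe_sum, Finset.sum_apply, LinearMap.comp_apply, LinearMap.flip_apply,
        TensorProduct.mk_apply, TensorProduct.lift.tmul, Submodule.subtype_apply, hs']
      calc ∑ i, (s (w i) l • v) ⊗ₜ[R] z i = ∑ i, v ⊗ₜ[R] (r (z i) (w i) • l) :=
            Finset.sum_congr rfl fun i _ => by rw [h1, TensorProduct.smul_tmul]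
        _ = v ⊗ₜ[R] l := by rw [← TensorProduct.tmul_sum, ← Finset.sum_smul, hzw, one_smul]
  · simp only [Ψ, LinearMap.coe_sum, Finset.sum_apply, LinearMap.comp_apply, LinearMap.flip_apply,
      TensorProduct.mk_apply, map_sum, TensorProduct.lift.tmul, Submodule.subtype_apply, hr']
    rw [← Finset.sum_smul, hzw, one_smul]

/-- Tensor powers of an invertible module are invertible, with the expected class. -/
theorem piTensor_invertible (N : Type v) [AddCommGroup N] [Module R N] [Module.Invertible R N] (n : ℕ) :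
    ∃ _ : Module.Invertible R (⨂[R] _ : Fin n, N),
      CommRing.Pic.mk R (⨂[R] _ : Fin n, N) = CommRing.Pic.mk R N ^ n := by
  induction n with
  | zero =>
    let e : (⨂[R] _ : Fin 0, N) ≃ₗ[R] R := PiTensorProduct.isEmptyEquiv (Fin 0)
    have := Module.Invertible.congr e.symm
    exact ⟨this, by rw [pow_zero, CommRing.Pic.mk_eq_one_iff]; exact ⟨e⟩⟩
  | succ n ih =>
    obtain ⟨hn, hc⟩ := ih
    let e : (⨂[R] _ : Fin n, N) ⊗[R] N ≃ₗ[R] ⨂[R] _ : Fin (n + 1), N :=
      (TensorProduct.congr (LinearEquiv.refl R _)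
        (PiTensorProduct.subsingletonEquiv (s := fun _ : Fin 1 => N) 0).symm).trans
      ((PiTensorProduct.tmulEquiv R N (ι := Fin n) (ι₂ := Fin 1)).trans
        (PiTensorProduct.reindex R (fun _ => N) finSumFinEquiv))
    have := Module.Invertible.congr e
    exact ⟨this, by
      rw [← CommRing.Pic.mk_eq_mk_iff.2 ⟨e⟩, CommRing.Pic.mk_tensor, hc, pow_succ]⟩

end GrothLib.AzMod
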