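import Groth.Agent.Lib.Hensel.IdemMatrix
import Mathlib.RingTheory.Finiteness.Basic
import Mathlib.LinearAlgebra.FreeModule.Finite.CardQuotient

set_option autoImplicit false

/-!
# Lifting idempotents of finite algebras over a henselian pair
-/

universe u v

namespace GrothLib.AzMod

open Polynomial GrothLib.Hensel

/-- Idempotents of a finite (not necessarily commutative) algebra lift along a henselian pair. -/
theorem exists_idempotent_lift {R : Type u} [CommRing R] (I : Ideal R) [HenselianRing R I]
    {C : Type v} [Ring C] [Algebra R C] [Module.Finite R C] {x : C}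
    (hx : x * x - x ∈ (I • ⊤ : Submodule R C)) :
    ∃ e : C, IsIdempotentElem e ∧ e - x ∈ (I • ⊤ : Submodule R C) := by
  let K := RingHom.ker (aeval x : R[X] →ₐ[R] C).toRingHom
  let B := R[X] ⧸ K
  let h : B →+* C := Ideal.Quotient.lift K (aeval x : R[X] →ₐ[R] C).toRingHom fun _ ha ↦ ha
  obtain ⟨q, hqm, hq0⟩ := IsIntegral.of_finite R x
  have hq : q ∈ K := hq0
  have hfin : Module.Finite R B := by
    have := hqm.finite_adjoinRoot
    have : Module.Finite R (R[X] ⧸ Ideal.span {q}) := this
    exact Module.Finite.of_surjective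
      (Ideal.Quotient.factorₐ R ((Ideal.span_singleton_le_iff_mem K).mpr hq)).toLinearMap
      (Ideal.Quotient.factor_surjective ((Ideal.span_singleton_le_iff_mem K).mpr hq))
  have hlr : ∀ (a : C) {y : C}, y ∈ (I • ⊤ : Submodule R C) → a * y ∈ (I • ⊤ : Submodule R C) := fun a y hy =>
    (Submodule.map_smul'' I ⊤ (LinearMap.mulLeft R a)).trans_le (Submodule.smul_mono le_rfl le_top)
      ⟨y, hy, rfl⟩
  have hrl : ∀ (a : C) {y : C}, y ∈ (I • ⊤ : Submodule R C) → y * a ∈ (I • ⊤ : Submodule R C) := fun a y hy =>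
    (Submodule.map_smul'' I ⊤ (LinearMap.mulRight R a)).trans_le (Submodule.smul_mono le_rfl le_top)
      ⟨y, hy, rfl⟩
  let J : Ideal B :=
    { carrier := {z | h z ∈ (I • ⊤ : Submodule R C)}
      add_mem' := fun {a b} ha hb => by simpa using add_mem ha hb
      zero_mem' := by simp
      smul_mem' := fun a z hz => by simpa using hlr (h a) hz }
  set IB := I.map (algebraMap R B)
  have hJ : J ≤ IB.radical := by
    intro z hz
    obtain ⟨p, rfl⟩ := Ideal.Quotient.mk_surjective z
    set Y := aeval x p with hY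
    have hY : Y ∈ (I • ⊤ : Submodule R C) := hz
    obtain ⟨c, hcm, -, hc, hc0⟩ :=
      LinearMap.exists_monic_and_natDegree_eq_and_coeff_mem_pow_and_aeval_eq_zero R
        (LinearMap.mulLeft R Y) I (by rintro _ ⟨y, rfl⟩; exact hrl y hY)
    have hz0 : aeval (Ideal.Quotient.mkₐ R K p) c = 0 := by
      rw [aeval_algHom_apply, Ideal.Quotient.mkₐ_eq_mk, Ideal.Quotient.eq_zero_iff_mem]
      show aeval x (aeval p c) = 0
      rw [← aeval_algHom_apply]
      apply Algebra.lmul_injective (R := R)
      rw [map_zero, ← aeval_algHom_apply]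
      exact hc0
    refine ⟨c.natDegree, ?_⟩
    rw [aeval_eq_sum_range, Finset.sum_range_succ, hcm.coeff_natDegree, one_smul] at hz0
    have hsum : ∑ i ∈ Finset.range c.natDegree, c.coeff i • (Ideal.Quotient.mkₐ R K p) ^ i ∈ IB := by
      refine Ideal.sum_mem _ fun i hi => ?_
      rw [Algebra.smul_def]
      exact Ideal.mul_mem_right _ _ (Ideal.mem_map_of_mem _
        (Ideal.pow_le_self (Nat.sub_ne_zero_of_lt (Finset.mem_range.1 hi)) (hc i)))
    rw [eq_neg_of_add_eq_zero_left hz0] at hsum
    exact neg_mem_iff.1 hsum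
  have hB₁ : HenselianRing B IB := henselianRing_of_isIntegral I B
  have hB₂ : HenselianRing B IB.radical :=
    (henselianRing_iff_of_radical_eq (Ideal.radical_idem IB).symm).mp hB₁
  have hB₃ : HenselianRing B J := henselianRing_of_le hJ
  set b : B := Ideal.Quotient.mk K X
  have hfb : h b = x := (Ideal.Quotient.lift_mk K _ _).trans (aeval_X x)
  obtain ⟨e, he, heJ⟩ := exists_isIdempotentElem_lift (A := B) (I := J) (B := B) (b := b) (by
    rw [Algebra.algebraMap_self, Ideal.map_id]
    show h (b * b - b) ∈ (I • ⊤ : Submodule R C)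
    rwa [map_sub, map_mul, hfb])
  rw [Algebra.algebraMap_self, Ideal.map_id] at heJ
  refine ⟨h e, he.map h, ?_⟩
  have : h (e - b) ∈ (I • ⊤ : Submodule R C) := heJ
  rwa [map_sub, hfb] at this

end GrothLib.AzMod
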