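import Groth.Agent.Lib.AzMod.Core
import Groth.Agent.Lib.CSA.Centralizer
import Groth.Prelude.Def_W4c4lgringredgrpLG
import Mathlib.RingTheory.Spectrum.Prime.FreeLocus

set_option autoImplicit false

/-!
# Projective modules over Azumaya algebras over LG-rings
-/

universe u v w w'

open scoped TensorProduct

namespace GrothLib.AzMod

variable {R : Type u} [CommRing R] {A : Type v} [Ring A] [Algebra R A]

section Basics

variable (A) (M : Type w) [AddCommGroup M] [Module A M] [Module R M] [IsScalarTower R A M]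

include A in
theorem finite_of_tower [Module.Finite R A] [Module.Finite A M] : Module.Finite R M :=
  Module.Finite.trans A M

include A in
theorem projective_of_tower [Module.Projective R A] [Module.Finite A M] [Module.Projective A M] :
    Module.Projective R M := by
  obtain ⟨n, p, q, -, -, hpq⟩ := Module.Finite.exists_comp_eq_id_of_projective A M
  have : Module.Projective R (Fin n → A) :=
    Module.Projective.of_equiv (DFinsupp.linearEquivFunOnFintype (R := R) (M := fun _ : Fin n => A))
  exact Module.Projective.of_split (q.restrictScalars R) (p.restrictScalars R)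
    (LinearMap.ext fun m => LinearMap.congr_fun hpq m)

end Basics

/-- A surjection between finite projective modules of equal rank is bijective. -/
theorem bijective_of_surjective_of_rankAtStalk_eq {M : Type w} [AddCommGroup M] [Module R M]
    [Module.Finite R M] [Module.Projective R M] {N : Type w'} [AddCommGroup N] [Module R N]
    [Module.Finite R N] [Module.Projective R N]
    (h : ∀ p : PrimeSpectrum R, Module.rankAtStalk M p = Module.rankAtStalk N p)
    (f : M →ₗ[R] N) (hf : Function.Surjective f) : Function.Bijective f := by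
  obtain ⟨g, hg⟩ := Module.projective_lifting_property f LinearMap.id hf
  have hg' : ∀ y, f (g y) = y := LinearMap.congr_fun hg
  let K := LinearMap.ker f
  let π : M →ₗ[R] K := LinearMap.codRestrict K (LinearMap.id - g ∘ₗ f)
    fun x => LinearMap.mem_ker.2 (by simp [hg'])
  have hπ : π ∘ₗ K.subtype = LinearMap.id := LinearMap.ext fun x => Subtype.ext (by
    simp [π, LinearMap.mem_ker.1 x.2])
  have : Module.Projective R K := Module.Projective.of_split K.subtype π hπ
  have : Module.Finite R K := Module.Finite.of_surjective π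
    fun x => ⟨x, LinearMap.congr_fun hπ x⟩
  let e : M ≃ₗ[R] K × N := LinearEquiv.ofLinearMap (π.prod f) (K.subtype.coprod g)
    (LinearMap.ext fun x => by
      ext
      · simp [π, hg', LinearMap.mem_ker.1 x.1.2, sub_eq_zero]
      · simp [hg', LinearMap.mem_ker.1 x.1.2])
    (LinearMap.ext fun x => by simp [π])
  have h0 : Module.rankAtStalk (R := R) K = 0 := funext fun p => by
    have h1 := h p
    rw [Module.rankAtStalk_eq_of_equiv e, Module.rankAtStalk_prod K N, Pi.add_apply] at h1
    simp only [Pi.zero_apply]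
    omega
  have := Module.rankAtStalk_eq_zero_iff_subsingleton.1 h0
  exact ⟨LinearMap.ker_eq_bot.1 (Submodule.eq_bot_of_subsingleton), hf⟩

section Fibre

variable (M : Type w) [AddCommGroup M] [Module A M] [Module R M] [IsScalarTower R A M]

theorem finrank_tensor_quotient [Module.Finite R M] [Module.Projective R M] (m : Ideal R)
    [m.IsMaximal] :
    letI := Ideal.Quotient.field m
    Module.finrank (R ⧸ m) ((R ⧸ m) ⊗[R] M) =
      Module.rankAtStalk M (⟨m, inferInstance⟩ : PrimeSpectrum R) := by
  let := Ideal.Quotient.field m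
  let q : PrimeSpectrum (R ⧸ m) := ⟨⊥, Ideal.isPrime_bot⟩
  have hq : PrimeSpectrum.comap (algebraMap R (R ⧸ m)) q = (⟨m, inferInstance⟩ : PrimeSpectrum R) :=
    PrimeSpectrum.ext (by
      show Ideal.comap (algebraMap R (R ⧸ m)) ⊥ = m
      exact Ideal.mk_ker)
  rw [← hq, ← Module.rankAtStalk_baseChange, Module.rankAtStalk_eq_finrank_of_free]
  rfl

/-- The representation on the fibre of a module. -/
noncomputable def fibreRep (m : Ideal R) [m.IsMaximal] :
    (R ⧸ m) ⊗[R] A →ₐ[R ⧸ m] Module.End (R ⧸ m) ((R ⧸ m) ⊗[R] M) :=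
  Algebra.TensorProduct.lift (Algebra.ofId (R ⧸ m) _)
    ((Module.End.baseChangeHom R (R ⧸ m) M).comp (Algebra.lsmul R R M))
    fun c _ => Algebra.commute_algebraMap_left c _

theorem fibreRep_one_tmul (m : Ideal R) [m.IsMaximal] (a : A) (x : M) :
    fibreRep M m ((1 : R ⧸ m) ⊗ₜ a) (1 ⊗ₜ x) = (1 : R ⧸ m) ⊗ₜ (a • x) := by
  simp [fibreRep]
  rfl

end Fibre

variable [IsAzumaya R A]

theorem exists_fibre_surjective (M : Type w) [AddCommGroup M] [Module A M] [Module R M]
    [IsScalarTower R A M] [Module.Finite A M] [Module.Projective A M]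
    (N : Type w') [AddCommGroup N] [Module A N] [Module R N] [IsScalarTower R A N]
    [Module.Finite A N] [Module.Projective A N] (m : Ideal R) [m.IsMaximal]
    (h : Module.rankAtStalk N (⟨m, inferInstance⟩ : PrimeSpectrum R) ≤
      Module.rankAtStalk M (⟨m, inferInstance⟩ : PrimeSpectrum R)) :
    ∃ f : M →ₗ[A] N, ∀ y, ∃ x, y - f x ∈ (m • ⊤ : Submodule R N) := by
  let := Ideal.Quotient.field m
  have := finite_of_tower (R := R) A M
  have := projective_of_tower (R := R) A M
  have := finite_of_tower (R := R) A N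
  have := projective_of_tower (R := R) A N
  have hAz := GrothLib.Azu.isAzumaya_baseChange R (R ⧸ m) A
  obtain ⟨-, hsimple, hfd⟩ := CSAExtra.csa_of_isAzumaya (R ⧸ m) ((R ⧸ m) ⊗[R] A)
  have := CSA.isArtinianRing (R ⧸ m) ((R ⧸ m) ⊗[R] A)
  obtain ⟨S, hS⟩ := CSA.exists_simple_left_ideal (R ⧸ m) ((R ⧸ m) ⊗[R] A)
  let V := CSA.Rep (fibreRep (A := A) M m)
  let W := CSA.Rep (fibreRep (A := A) N m)
  have hVfin : Module.Finite (R ⧸ m) V := inferInstanceAs (Module.Finite (R ⧸ m) ((R ⧸ m) ⊗[R] M))
  have hWfin : Module.Finite (R ⧸ m) W := inferInstanceAs (Module.Finite (R ⧸ m) ((R ⧸ m) ⊗[R] N))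
  have := (Module.Finite.of_restrictScalars_finite (R ⧸ m) ((R ⧸ m) ⊗[R] A) V :
    Module.Finite ((R ⧸ m) ⊗[R] A) V)
  have := (Module.Finite.of_restrictScalars_finite (R ⧸ m) ((R ⧸ m) ⊗[R] A) W :
    Module.Finite ((R ⧸ m) ⊗[R] A) W)
  obtain ⟨a, ⟨e⟩⟩ := CSA.exists_linearEquiv_pi (R := (R ⧸ m) ⊗[R] A) ↥S V
  obtain ⟨b, ⟨f⟩⟩ := CSA.exists_linearEquiv_pi (R := (R ⧸ m) ⊗[R] A) ↥S W
  have hSfin : Module.Finite (R ⧸ m) S := Module.Finite.of_injective
    (S.subtype.restrictScalars (R ⧸ m)) S.subtype_injective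
  have := IsSimpleModule.nontrivial ((R ⧸ m) ⊗[R] A) S
  have hba : b ≤ a := by
    refine Nat.le_of_mul_le_mul_right ?_ (Module.finrank_pos (R := R ⧸ m) (M := S))
    have ha := (e.restrictScalars (R ⧸ m)).finrank_eq
    have hb := (f.restrictScalars (R ⧸ m)).finrank_eq
    rw [Module.finrank_pi_fintype] at ha hb
    simp only [Finset.sum_const, Finset.card_univ, Fintype.card_fin, smul_eq_mul] at ha hb
    rw [← ha, ← hb]
    calc Module.finrank (R ⧸ m) W = _ := finrank_tensor_quotient N m
      _ ≤ _ := h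
      _ = _ := (finrank_tensor_quotient M m).symm
  let hV : V →ₗ[(R ⧸ m) ⊗[R] A] W :=
    f.symm.toLinearMap ∘ₗ LinearMap.funLeft ((R ⧸ m) ⊗[R] A) S (Fin.castLE hba) ∘ₗ e.toLinearMap
  have hVsurj : Function.Surjective hV :=
    f.symm.surjective.comp ((LinearMap.funLeft_surjective_of_injective ((R ⧸ m) ⊗[R] A) (↥S) _
      (Fin.castLE_injective hba)).comp e.surjective)
  let : Module A W := Module.compHom W
    (Algebra.TensorProduct.includeRight : A →ₐ[R] (R ⧸ m) ⊗[R] A).toRingHom
  have hmk : ∀ {X : Type w'} [AddCommGroup X] [Module R X] (y : (R ⧸ m) ⊗[R] X),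
      ∃ x : X, (1 : R ⧸ m) ⊗ₜ[R] x = y := fun y => by
    obtain ⟨x, hx⟩ := TensorProduct.mk_surjective R _ (R ⧸ m) Ideal.Quotient.mk_surjective y
    exact ⟨x, hx⟩
  let π : N →ₗ[A] W :=
    { toFun := fun y => CSA.toRep (fibreRep (A := A) N m) (1 ⊗ₜ y)
      map_add' := fun y z => by rw [TensorProduct.tmul_add, map_add]
      map_smul' := fun c y => by
        show _ = fibreRep N m ((1 : R ⧸ m) ⊗ₜ c) (1 ⊗ₜ y)
        rw [fibreRep_one_tmul]; rfl }
  have hπ : Function.Surjective π := fun y => hmk y
  let φ : M →ₗ[A] W :=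
    { toFun := fun x => hV (CSA.toRep (fibreRep (A := A) M m) (1 ⊗ₜ x))
      map_add' := fun x z => by rw [TensorProduct.tmul_add, map_add, map_add]
      map_smul' := fun c x => by
        rw [← fibreRep_one_tmul, ← CSA.smul_toRep, map_smul]; rfl }
  obtain ⟨g, hg⟩ := Module.projective_lifting_property π φ hπ
  refine ⟨g, fun y => ?_⟩
  obtain ⟨v, hv⟩ := hVsurj (π y)
  obtain ⟨x, hx⟩ := TensorProduct.mk_surjective R M (R ⧸ m) Ideal.Quotient.mk_surjective v
  refine ⟨x, ?_⟩
  have h1 : π (g x) = π y :=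
    ((LinearMap.congr_fun hg x).trans (congrArg hV hx)).trans hv
  have h2 := congrArg (TensorProduct.quotTensorEquivQuotSMul N m) h1
  change TensorProduct.quotTensorEquivQuotSMul N m (Ideal.Quotient.mk m 1 ⊗ₜ g x) =
    TensorProduct.quotTensorEquivQuotSMul N m (Ideal.Quotient.mk m 1 ⊗ₜ y) at h2
  rw [TensorProduct.quotTensorEquivQuotSMul_mk_tmul, TensorProduct.quotTensorEquivQuotSMul_mk_tmul,
    one_smul, one_smul] at h2
  exact (Submodule.Quotient.eq _).1 h2.symm

open Matrix in
/-- Over an LG-ring a module surjects onto another one if it does so at every maximal ideal. -/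
theorem exists_surjective_of_forall_fibre (hR : LGRing.IsLGRing R) (M : Type w) [AddCommGroup M]
    [Module A M] [Module R M] [IsScalarTower R A M] [Module.Finite A M] [Module.Projective A M]
    (N : Type w') [AddCommGroup N] [Module A N] [Module R N] [IsScalarTower R A N]
    [Module.Finite A N] [Module.Projective A N]
    (h : ∀ (m : Ideal R) [m.IsMaximal],
      ∃ f : M →ₗ[A] N, ∀ y, ∃ x, y - f x ∈ (m • ⊤ : Submodule R N)) :
    ∃ f : M →ₗ[A] N, Function.Surjective f := by
  have := finite_of_tower (R := R) A M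
  have := projective_of_tower (R := R) A M
  have := finite_of_tower (R := R) A N
  have := projective_of_tower (R := R) A N
  -- generators of the `A`-linear maps
  obtain ⟨r, pM, qM, -, -, hM⟩ := Module.Finite.exists_comp_eq_id_of_projective A M
  let Φ : (Fin r → N) →ₗ[R] (M →ₗ[A] N) :=
    { toFun := fun v => Fintype.linearCombination A v ∘ₗ qM
      map_add' := fun v v' => LinearMap.ext fun x => by
        simp [Fintype.linearCombination_apply, smul_add, Finset.sum_add_distrib]
      map_smul' := fun c v => LinearMap.ext fun x => by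
        simp [Fintype.linearCombination_apply, Finset.smul_sum, smul_comm c] }
  have hΦ : Function.Surjective Φ := fun f => ⟨fun i => f (pM (Pi.single i 1)), LinearMap.ext fun x => by
    conv_rhs => rw [← LinearMap.id_apply (R := A) x, ← hM, LinearMap.comp_apply, pi_eq_sum_univ' (qM x),
      map_sum, map_sum]
    simp [Φ, Fintype.linearCombination_apply, map_smul]⟩
  have : Module.Finite R (M →ₗ[A] N) := Module.Finite.of_surjective Φ hΦ
  obtain ⟨s₁, fs, hfs⟩ := Module.Finite.exists_fin (R := R) (M := M →ₗ[A] N)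
  obtain ⟨k, p, i, -, -, hpi⟩ := Module.Finite.exists_comp_eq_id_of_projective R N
  have : Module.Finite R (N →ₗ[R] M) := by
    let Θ : (Fin k → M) →ₗ[R] (N →ₗ[R] M) :=
      { toFun := fun v => Fintype.linearCombination R v ∘ₗ i
        map_add' := fun v v' => LinearMap.ext fun x => by
          simp [Fintype.linearCombination_apply, smul_add, Finset.sum_add_distrib]
        map_smul' := fun c v => LinearMap.ext fun x => by
          simp [Fintype.linearCombination_apply, Finset.smul_sum, smul_comm c] }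
    refine Module.Finite.of_surjective Θ fun f => ⟨fun a => f (p (Pi.single a 1)), LinearMap.ext fun x => ?_⟩
    conv_rhs => rw [← LinearMap.id_apply (R := R) x, ← hpi, LinearMap.comp_apply, pi_eq_sum_univ' (i x),
      map_sum, map_sum]
    simp [Θ, Fintype.linearCombination_apply, map_smul]
  obtain ⟨s₂, gs, hgs⟩ := Module.Finite.exists_fin (R := R) (M := N →ₗ[R] M)
  let tm (h : N →ₗ[R] N) : Matrix (Fin k) (Fin k) R := LinearMap.toMatrix' (i ∘ₗ h ∘ₗ p)
  let P : Matrix (Fin k) (Fin k) R := 1 - LinearMap.toMatrix' (i ∘ₗ p)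
  let X₁ : Fin s₁ → MvPolynomial (Fin (s₁ + s₂)) R := fun a => MvPolynomial.X (Fin.castAdd s₂ a)
  let X₂ : Fin s₂ → MvPolynomial (Fin (s₁ + s₂)) R := fun b => MvPolynomial.X (Fin.natAdd s₁ b)
  let T : Matrix (Fin k) (Fin k) (MvPolynomial (Fin (s₁ + s₂)) R) :=
    (∑ a, ∑ b, (X₁ a * X₂ b) • (tm ((fs a).restrictScalars R ∘ₗ gs b)).map MvPolynomial.C) +
      P.map MvPolynomial.C
  have hT : ∀ (S : Type u) [CommRing S] [Algebra R S] (s : Fin (s₁ + s₂) → S),
      (MvPolynomial.aeval s).mapMatrix T = (∑ a, ∑ b, (s (Fin.castAdd s₂ a) * s (Fin.natAdd s₁ b)) •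
        (tm ((fs a).restrictScalars R ∘ₗ gs b)).map (algebraMap R S)) + P.map (algebraMap R S) := by
    intro S _ _ s
    ext x y
    simp [T, X₁, X₂, Matrix.sum_apply]
  have htm : ∀ (c : Fin s₁ → R) (d : Fin s₂ → R),
      (∑ a, ∑ b, (c a * d b) • tm ((fs a).restrictScalars R ∘ₗ gs b)) =
        tm ((∑ a, c a • fs a).restrictScalars R ∘ₗ ∑ b, d b • gs b) := by
    intro c d
    have hcomp : ((∑ a, c a • fs a).restrictScalars R ∘ₗ ∑ b, d b • gs b) =
        ∑ a, ∑ b, (c a * d b) • ((fs a).restrictScalars R ∘ₗ gs b) := by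
      ext y
      simp [LinearMap.sum_apply, map_sum, Finset.smul_sum, mul_smul, map_smul,
        LinearMap.map_smul_of_tower]
    rw [hcomp]
    ext x y
    simp [tm, Matrix.sum_apply, LinearMap.toMatrix'_apply, LinearMap.sum_apply, map_sum, map_smul]
  obtain ⟨s, hs⟩ := hR _ T.det (by
    intro m hm
    obtain ⟨f, hf⟩ := h m
    have hsurj : Function.Surjective ((Submodule.mkQ (m • ⊤ : Submodule R N)) ∘ₗ f.restrictScalars R) := by
      intro y
      obtain ⟨y, rfl⟩ := Submodule.Quotient.mk_surjective _ y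
      obtain ⟨x, hx⟩ := hf y
      exact ⟨x, ((Submodule.Quotient.eq _).2 hx).symm⟩
    obtain ⟨g, hg⟩ := Module.projective_lifting_property _ (Submodule.mkQ (m • ⊤ : Submodule R N)) hsurj
    obtain ⟨c, hc⟩ := (Submodule.mem_span_range_iff_exists_fun R).1 (hfs.ge (Submodule.mem_top (x := f)))
    obtain ⟨d, hd⟩ := (Submodule.mem_span_range_iff_exists_fun R).1 (hgs.ge (Submodule.mem_top (x := g)))
    refine ⟨fun l => algebraMap R (R ⧸ m) (Fin.append c d l), ?_⟩
    rw [AlgHom.map_det, hT]
    simp only [Fin.append_left, Fin.append_right, ← map_mul]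
    suffices hone : ((∑ a, ∑ b, (c a * d b) • tm ((fs a).restrictScalars R ∘ₗ gs b)) + P).map
        (algebraMap R (R ⧸ m)) = 1 by
      refine (congrArg (fun Z => IsUnit (Matrix.det Z)) ?_).mp (by rw [Matrix.det_one]; exact isUnit_one)
      rw [← hone]
      ext x y
      simp [Matrix.sum_apply]
    rw [htm, hc, hd]
    ext x y
    have hmem : ∀ z : N, f (g z) - z ∈ (m • ⊤ : Submodule R N) := fun z =>
      (Submodule.Quotient.eq _).1 (LinearMap.congr_fun hg z)
    have h3 : i (f (g (p (Pi.single y 1)))) x - i (p (Pi.single y 1)) x ∈ m := by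
      rw [← Pi.sub_apply, ← map_sub]
      have h4 := Submodule.mem_map_of_mem (f := LinearMap.proj x ∘ₗ i) (hmem (p (Pi.single y 1)))
      rw [Submodule.map_smul''] at h4
      exact Submodule.smul_le.2 (fun a ha z _ => m.mul_mem_right z ha) h4
    simp only [Matrix.map_apply, Matrix.add_apply, Matrix.sub_apply, P, tm, LinearMap.toMatrix'_apply,
      LinearMap.comp_apply, LinearMap.restrictScalars_apply]
    rw [Matrix.one_apply, Matrix.one_apply]
    rw [show i (f (g (p (Pi.single y 1)))) x + ((if x = y then (1 : R) else 0) - i (p (Pi.single y 1)) x) =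
      (if x = y then (1 : R) else 0) + (i (f (g (p (Pi.single y 1)))) x - i (p (Pi.single y 1)) x) by ring,
      map_add, Ideal.Quotient.algebraMap_eq, Ideal.Quotient.eq_zero_iff_mem.2 h3, add_zero]
    split <;> simp)
  refine ⟨∑ a, s (Fin.castAdd s₂ a) • fs a, fun y => ?_⟩
  rw [AlgHom.map_det, hT] at hs
  simp only [Algebra.algebraMap_self, RingHom.coe_id, Matrix.map_id] at hs
  rw [htm] at hs
  set F := (∑ a, s (Fin.castAdd s₂ a) • fs a)
  set G := (∑ b, s (Fin.natAdd s₁ b) • gs b)
  obtain ⟨v, hv⟩ := (Matrix.mulVec_surjective_iff_isUnit.2 ((Matrix.isUnit_iff_isUnit_det _).2 hs)) (i y)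
  refine ⟨G (p v), ?_⟩
  have h5 := congrArg p hv
  simp only [Matrix.add_mulVec, Matrix.sub_mulVec, Matrix.one_mulVec, P, tm,
    LinearMap.toMatrix'_mulVec, LinearMap.comp_apply, map_add, map_sub] at h5
  have hid : ∀ z, p (i z) = z := LinearMap.congr_fun hpi
  simpa [hid] using h5

theorem exists_surjective (hR : LGRing.IsLGRing R) (M : Type w) [AddCommGroup M]
    [Module A M] [Module R M] [IsScalarTower R A M] [Module.Finite A M] [Module.Projective A M]
    (N : Type w') [AddCommGroup N] [Module A N] [Module R N] [IsScalarTower R A N]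
    [Module.Finite A N] [Module.Projective A N]
    (h : ∀ p : PrimeSpectrum R, Module.rankAtStalk N p ≤ Module.rankAtStalk M p) :
    ∃ f : M →ₗ[A] N, Function.Surjective f :=
  exists_surjective_of_forall_fibre hR M N fun m _ => exists_fibre_surjective (R := R) (A := A) M N m (h _)

theorem nonempty_linearEquiv (hR : LGRing.IsLGRing R) (M : Type w) [AddCommGroup M]
    [Module A M] [Module R M] [IsScalarTower R A M] [Module.Finite A M] [Module.Projective A M]
    (N : Type w') [AddCommGroup N] [Module A N] [Module R N] [IsScalarTower R A N]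
    [Module.Finite A N] [Module.Projective A N]
    (h : ∀ p : PrimeSpectrum R, Module.rankAtStalk M p = Module.rankAtStalk N p) :
    Nonempty (M ≃ₗ[A] N) := by
  obtain ⟨f, hf⟩ := exists_surjective (A := A) hR M N fun p => (h p).ge
  have := finite_of_tower (R := R) A M
  have := projective_of_tower (R := R) A M
  have := finite_of_tower (R := R) A N
  have := projective_of_tower (R := R) A N
  exact ⟨LinearEquiv.ofBijective f
    (bijective_of_surjective_of_rankAtStalk_eq h (f.restrictScalars R) hf)⟩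

end GrothLib.AzMod
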