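import Groth.Agent.Lib.AzMod.Regular
import Mathlib.RingTheory.Localization.Integral
import Mathlib.Algebra.Module.FinitePresentation

set_option autoImplicit false

/-!
# Azumaya algebras split Zariski locally by finite étale covers
-/

universe u v w

open scoped TensorProduct
open Polynomial

namespace GrothLib.AzMod

variable {R : Type u} [CommRing R] {A : Type v} [Ring A] [Algebra R A]

theorem clear_poly (M : Submonoid R) {S : Type w} [CommRing S] [Algebra R S] [IsLocalization M S]
    (q : S[X]) : ∃ s ∈ M, ∃ q₀ : R[X], q₀.map (algebraMap R S) = C (algebraMap R S s) * q := by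
  obtain ⟨b, hb, h⟩ := IsLocalization.integerNormalization_spec M q
  refine ⟨b, hb, _, h.trans ?_⟩
  ext i; simp [Algebra.smul_def]

theorem kill_poly (M : Submonoid R) {S : Type w} [CommRing S] [Algebra R S] [IsLocalization M S]
    (q : R[X]) (h : q.map (algebraMap R S) = 0) : ∃ t ∈ M, C t * q = 0 := by
  have hi : ∀ i : ℕ, ∃ t : M, (t : R) * q.coeff i = 0 := fun i =>
    (IsLocalization.map_eq_zero_iff M S _).1 (by rw [← coeff_map, h, coeff_zero])
  choose t ht using hi
  refine ⟨((∏ i ∈ q.support, t i : M) : R), SetLike.coe_mem _, Polynomial.ext fun i => ?_⟩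
  rw [coeff_C_mul, coeff_zero]
  by_cases hmem : i ∈ q.support
  · rw [← Finset.prod_erase_mul _ _ hmem, Submonoid.coe_mul, mul_assoc, ht, mul_zero]
  · rw [notMem_support_iff.1 hmem, mul_zero]

/-- An algebra is free over `R[T]/(f)` with basis `a` once the `a_j ξ^i` form a basis over `R`. -/
theorem free_over_root {S : Type u} [CommRing S] {B : Type v} [Ring B] [Algebra S B] {r : ℕ}
    (f : S[X]) (hf : f.Monic) (hfd : f.natDegree = r) (ξ : B) (h : aeval ξ f = 0) (a : Fin r → B)
    (hΘ : Function.Bijective (Fintype.linearCombination S fun q : Fin r × Fin r => a q.1 * ξ ^ (q.2 : ℕ))) :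
    let := rightModule (rootHom f ξ h)
    Nonempty ((Fin r → AdjoinRoot f) ≃ₗ[AdjoinRoot f] B) := by
  let := rightModule (rootHom f ξ h)
  show Nonempty ((Fin r → AdjoinRoot f) ≃ₗ[AdjoinRoot f] B)
  have hmod : ∀ (e : AdjoinRoot f) (b : B), e • b = b * rootHom f ξ h e := fun _ _ => rfl
  have := isScalarTower_right (rootHom f ξ h) hmod
  let pb := AdjoinRoot.powerBasis' hf
  have : Module.Free S (AdjoinRoot f) := Module.Free.of_basis pb.basis
  have : Module.Finite S (AdjoinRoot f) := pb.finite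
  have : Module.Free S B := Module.Free.of_equiv (LinearEquiv.ofBijective _ hΘ)
  have : Module.Finite S B := Module.Finite.equiv (LinearEquiv.ofBijective _ hΘ)
  let Ψ := Fintype.linearCombination (AdjoinRoot f) a
  have hroot : ∀ (j : Fin r) (i : ℕ), (AdjoinRoot.root f ^ i) • a j = a j * ξ ^ i := fun j i => by
    rw [hmod, map_pow, rootHom_root]
  have hsurj : Function.Surjective Ψ := by
    intro b
    obtain ⟨c, rfl⟩ := hΘ.2 b
    refine ⟨fun j => ∑ i : Fin r, c (j, i) • AdjoinRoot.root f ^ (i : ℕ), ?_⟩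
    simp only [Ψ, Fintype.linearCombination_apply, Finset.sum_smul, smul_assoc, hroot]
    rw [Fintype.sum_prod_type]
  refine ⟨LinearEquiv.ofBijective Ψ (bijective_of_surjective_of_rankAtStalk_eq (R := S) (fun p => ?_)
    (Ψ.restrictScalars S) hsurj)⟩
  have := p.nontrivial
  rw [Module.rankAtStalk_eq_finrank_of_free, Module.rankAtStalk_eq_finrank_of_free,
    ← (LinearEquiv.ofBijective _ hΘ).finrank_eq, Module.finrank_pi_fintype, Finset.sum_const,
    Finset.card_univ, Fintype.card_fin, pb.finrank, AdjoinRoot.powerBasis'_dim, hfd, smul_eq_mul,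
    Module.finrank_pi, Fintype.card_prod, Fintype.card_fin]

theorem regular_smul {k : Type u} [Field k] {B : Type v} [Ring B] [Algebra k B] [FiniteDimensional k B]
    (x : B) (hs : (minpoly k x).Separable) (c : k) (hc : c ≠ 0) :
    (minpoly k (c • x)).Separable ∧ (minpoly k (c • x)).natDegree = (minpoly k x).natDegree := by
  have hadj : Algebra.adjoin k ({c • x} : Set B) = Algebra.adjoin k {x} := by
    refine le_antisymm (Algebra.adjoin_le ?_) (Algebra.adjoin_le ?_)
    · intro z hz
      rw [Set.mem_singleton_iff.1 hz]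
      exact Subalgebra.smul_mem _ (Algebra.self_mem_adjoin_singleton k _) _
    · intro z hz
      rw [Set.mem_singleton_iff.1 hz]
      have h := Subalgebra.smul_mem _ (Algebra.self_mem_adjoin_singleton k (c • x)) c⁻¹
      rwa [smul_smul, inv_mul_cancel₀ hc, one_smul] at h
  have h0 := isSeparable_adjoin_singleton hs (minpoly.aeval k x)
  rw [← hadj] at h0
  refine ⟨exists_separable_poly h0, ?_⟩
  rw [← finrank_adjoin_singleton (Algebra.IsIntegral.isIntegral (c • x)), hadj,
    finrank_adjoin_singleton (Algebra.IsIntegral.isIntegral x)]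

/-- Over a local ring some element has regular image in the fibre, with all its unit multiples. -/
theorem exists_regular_lift (R₀ : Type u) [CommRing R₀] [IsLocalRing R₀] (B : Type v) [Ring B]
    [Algebra R₀ B] [IsAzumaya R₀ B] :
    ∃ r : ℕ, 0 < r ∧ Module.finrank R₀ B = r ^ 2 ∧ ∃ y : B, ∀ c : R₀, IsUnit c →
      (minpoly (IsLocalRing.ResidueField R₀) ((1 : IsLocalRing.ResidueField R₀) ⊗ₜ[R₀] (c • y))).Separable ∧
      (minpoly (IsLocalRing.ResidueField R₀) ((1 : IsLocalRing.ResidueField R₀) ⊗ₜ[R₀] (c • y))).natDegree = r := by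
  let K := IsLocalRing.ResidueField R₀
  have := GrothLib.Azu.isAzumaya_baseChange R₀ K B
  have : Module.Free R₀ B := Module.free_of_flat_of_isLocalRing
  obtain ⟨_, _, _⟩ := CSAExtra.csa_of_isAzumaya K (K ⊗[R₀] B)
  obtain ⟨r, hr⟩ := CSA.finrank_isSquare (k := K) (A := K ⊗[R₀] B)
  rw [← sq, Module.finrank_baseChange] at hr
  obtain ⟨x, hxs, hxd⟩ := exists_regular_element (k := K) (K ⊗[R₀] B) r (by rw [Module.finrank_baseChange, hr])
  obtain ⟨y, rfl⟩ := TensorProduct.mk_surjective R₀ B K IsLocalRing.residue_surjective x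
  refine ⟨r, pos_of_finrank hr, hr, y, fun c hc => ?_⟩
  rw [TensorProduct.tmul_smul, ← algebraMap_smul K c]
  obtain ⟨h1, h2⟩ := regular_smul _ hxs (algebraMap R₀ K c) (hc.map (algebraMap R₀ K)).ne_zero
  exact ⟨h1, h2.trans hxd⟩

variable [IsAzumaya R A]

theorem exists_data (p : Ideal R) [p.IsPrime] :
    ∃ g : R, g ∉ p ∧ ∃ (r : ℕ) (f : (Localization.Away g)[X]) (a : A) (as : Fin r → A),
      0 < r ∧ f.Monic ∧ f.natDegree = r ∧ Nontrivial (Localization.Away g) ∧
      aeval ((1 : Localization.Away g) ⊗ₜ[R] a) f = 0 ∧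
      IsUnit (aeval (AdjoinRoot.root f) (derivative f)) ∧
      Function.Bijective (Fintype.linearCombination (Localization.Away g) fun q : Fin r × Fin r =>
        ((1 : Localization.Away g) ⊗ₜ[R] as q.1) * ((1 : Localization.Away g) ⊗ₜ[R] a) ^ (q.2 : ℕ)) := by
  classical
  let Rp := Localization.AtPrime p
  let Ap := Rp ⊗[R] A
  have := GrothLib.Azu.isAzumaya_baseChange R Rp A
  have : Module.Free Rp Ap := Module.free_of_flat_of_isLocalRing
  obtain ⟨r, hrpos, hr, y, hreg⟩ := exists_regular_lift Rp Ap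
  obtain ⟨⟨a, s⟩, hsy⟩ := IsLocalizedModule.surj p.primeCompl (TensorProduct.mk R Rp A 1) y
  set ξ : Ap := (1 : Rp) ⊗ₜ[R] a with hξdef
  have h1 : ξ = algebraMap R Rp s • y := by
    rw [algebraMap_smul]; exact hsy.symm
  obtain ⟨hxs', hxd'⟩ := h1 ▸ hreg _ (IsLocalization.map_units Rp s)
  obtain ⟨⟨l, hl⟩, fp, hfpm, hfpd, hfp, hfpu⟩ := exists_equation r hr ξ hxs' hxd'
  -- a basis of the localization made of global elements
  let up := rootHom fp ξ hfp
  let := rightModule up
  have hmod : ∀ (e : AdjoinRoot fp) (b : Ap), e • b = b * up e := fun _ _ => rfl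
  have := isScalarTower_right up hmod
  let pb := AdjoinRoot.powerBasis' hfpm
  have : Module.Free Rp (AdjoinRoot fp) := Module.Free.of_basis pb.basis
  have : Module.Finite Rp (AdjoinRoot fp) := pb.finite
  have : Algebra.FormallyUnramified Rp (AdjoinRoot fp) :=
    formallyUnramified_of_generator (AdjoinRoot.root fp) fp AdjoinRoot.adjoinRoot_eq_top
      (by rw [AdjoinRoot.aeval_eq, AdjoinRoot.mk_self]) hfpu
  have hup : Function.Injective up := by
    rw [injective_iff_map_eq_zero]
    intro e he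
    rw [← pb.basis.sum_repr e, map_sum] at he
    have h3 : Fintype.linearCombination Rp (fun i : Fin r => ξ ^ (i : ℕ))
        (fun i => pb.basis.repr e (Fin.cast ((AdjoinRoot.powerBasis'_dim hfpm).trans hfpd).symm i)) = 0 := by
      rw [← he, Fintype.linearCombination_apply]
      refine Fintype.sum_equiv (finCongr ((AdjoinRoot.powerBasis'_dim hfpm).trans hfpd).symm) _ _ fun i => ?_
      simp [pb, up, rootHom_root]
    have h4 := LinearMap.congr_fun hl (fun i => pb.basis.repr e (Fin.cast ((AdjoinRoot.powerBasis'_dim hfpm).trans hfpd).symm i))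
    rw [LinearMap.comp_apply, h3, map_zero, LinearMap.id_apply] at h4
    refine pb.basis.repr.injective (Finsupp.ext fun i => ?_)
    rw [map_zero, Finsupp.zero_apply]
    have h5 := congr_fun h4 (Fin.cast ((AdjoinRoot.powerBasis'_dim hfpm).trans hfpd) i)
    simpa using h5.symm
  obtain ⟨_, _, hrk⟩ := free_of_formallyUnramified up hmod r hr
    (by rw [pb.finrank, AdjoinRoot.powerBasis'_dim, hfpd]) hup
  have : Nontrivial (AdjoinRoot fp) := Module.nontrivial_of_finrank_pos (R := Rp)
    (by rw [pb.finrank, AdjoinRoot.powerBasis'_dim, hfpd]; exact hrpos)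
  let b := Module.finBasisOfFinrankEq (AdjoinRoot fp) Ap hrk
  choose as hbs using fun j => IsLocalizedModule.surj p.primeCompl (TensorProduct.mk R Rp A 1) (b j)
  let w : Fin r → (AdjoinRoot fp)ˣ := fun j =>
    ((IsLocalization.map_units Rp (as j).2).map (algebraMap Rp (AdjoinRoot fp))).unit
  let b' := b.unitsSMul w
  have hb' : ∀ j, b' j = (1 : Rp) ⊗ₜ[R] (as j).1 := fun j => by
    rw [Module.Basis.unitsSMul_apply, Units.smul_def, IsUnit.unit_spec, algebraMap_smul, algebraMap_smul]
    exact hbs j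
  let Φ : (Fin r × Fin r → R) →ₗ[R] A :=
    Fintype.linearCombination R fun q => (as q.1).1 * a ^ (q.2 : ℕ)
  let bq : Module.Basis (Fin r × Fin r) Rp Ap :=
    ((pb.basis.reindex (finCongr ((AdjoinRoot.powerBasis'_dim hfpm).trans hfpd))).smulTower b').reindex
      (Equiv.prodComm _ _)
  have hpow : ∀ (z : A) (i : ℕ), ((1 : Rp) ⊗ₜ[R] z) * ((1 : Rp) ⊗ₜ[R] a) ^ i = (1 : Rp) ⊗ₜ[R] (z * a ^ i) :=
    fun z i => by rw [Algebra.TensorProduct.tmul_pow, one_pow, Algebra.TensorProduct.tmul_mul_tmul, one_mul]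
  have hbq : ∀ q, bq q = (1 : Rp) ⊗ₜ[R] ((as q.1).1 * a ^ (q.2 : ℕ)) := fun q => by
    simp [bq, pb, hb', hmod, up, rootHom_root, hξdef]
    exact hpow _ _
  have hΦp : Function.Bijective (IsLocalizedModule.map p.primeCompl
      (TensorProduct.mk R Rp (Fin r × Fin r → R) 1) (TensorProduct.mk R Rp A 1) Φ) := by
    have h1 : IsLocalizedModule.map p.primeCompl (TensorProduct.mk R Rp (Fin r × Fin r → R) 1)
        (TensorProduct.mk R Rp A 1) Φ = Φ.lTensor Rp := by
      refine IsLocalizedModule.linearMap_ext p.primeCompl (TensorProduct.mk R Rp (Fin r × Fin r → R) 1)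
        (TensorProduct.mk R Rp A 1) (LinearMap.ext fun v => ?_)
      exact IsLocalizedModule.map_apply p.primeCompl (TensorProduct.mk R Rp _ 1) (TensorProduct.mk R Rp A 1) Φ v
    have h2 : ⇑(Φ.lTensor Rp) = ⇑bq.equivFun.symm ∘ ⇑(TensorProduct.piScalarRight R Rp Rp (Fin r × Fin r)) := by
      funext t
      induction t using TensorProduct.induction_on with
      | zero => simp
      | add x y hx hy => simp only [Function.comp_apply, map_add] at hx hy ⊢; rw [hx, hy]
      | tmul c v =>
        simp [Φ, Module.Basis.equivFun_symm_apply, hbq, Fintype.linearCombination_apply,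
          TensorProduct.tmul_sum, TensorProduct.tmul_smul]
        exact Finset.sum_congr rfl fun q _ => by
          rw [TensorProduct.smul_tmul', TensorProduct.smul_tmul', smul_eq_mul, mul_one]; first | done | exact (TensorProduct.smul_tmul' _ _ _).symm
    rw [h1, h2]
    exact bq.equivFun.symm.bijective.comp (LinearEquiv.bijective _)
  have := Module.finitePresentation_of_projective R A
  obtain ⟨r₀, hr₀, hspread⟩ := exists_bijective_map_powers p.primeCompl
    (TensorProduct.mk R Rp (Fin r × Fin r → R) 1) (TensorProduct.mk R Rp A 1) Φ hΦp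
  -- clearing denominators in the equation
  obtain ⟨s₁, hs₁, f₀, hf₀⟩ := clear_poly p.primeCompl fp
  -- exact degree
  let g₀ : R[X] := C (f₀.coeff r) * X ^ r + ∑ i : Fin r, C (f₀.coeff i) * X ^ (i : ℕ)
  have hg₀ : g₀.map (algebraMap R Rp) = C (algebraMap R Rp s₁) * fp := by
    rw [← hf₀]
    conv_rhs => rw [(f₀.map (algebraMap R Rp)).as_sum_range_C_mul_X_pow' (n := r + 1)
      (by
        rw [hf₀]
        exact lt_of_le_of_lt (natDegree_C_mul_le _ _) (by omega))]
    simp [g₀, Polynomial.map_sum, Finset.sum_range_succ, Finset.sum_range, add_comm]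
  obtain ⟨t₁, ht₁⟩ := (IsLocalization.map_eq_zero_iff p.primeCompl Rp (f₀.coeff r - s₁)).1 (by
    have h := congrArg (fun q : Rp[X] => q.coeff r) hf₀
    have hlead : fp.coeff r = 1 := hfpd ▸ hfpm.coeff_natDegree
    simp only [coeff_map, coeff_C_mul, hlead, mul_one] at h
    rw [map_sub, h, sub_self])
  obtain ⟨t₂, ht₂⟩ := (IsLocalizedModule.eq_zero_iff p.primeCompl (TensorProduct.mk R Rp A 1)
    (m := aeval a g₀)).1 (by
      show (Algebra.TensorProduct.includeRight : A →ₐ[R] Ap) (aeval a g₀) = 0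
      rw [← aeval_algHom_apply, ← aeval_map_algebraMap Rp, hg₀, map_mul,
        show (Algebra.TensorProduct.includeRight : A →ₐ[R] Ap) a = ξ from rfl, hfp, mul_zero])
  -- clearing denominators in the separability identity
  obtain ⟨bq₁, hbq₁⟩ := AdjoinRoot.mk_surjective (↑hfpu.unit⁻¹ : AdjoinRoot fp)
  obtain ⟨aq₁, haq₁⟩ : fp ∣ bq₁ * derivative fp - 1 := AdjoinRoot.mk_eq_zero.1 (by
    rw [map_sub, map_mul, hbq₁, map_one, ← AdjoinRoot.aeval_eq, IsUnit.val_inv_mul, sub_self])
  obtain ⟨s₂, hs₂, b₀, hb₀⟩ := clear_poly p.primeCompl bq₁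
  obtain ⟨s₃, hs₃, a₀, ha₀⟩ := clear_poly p.primeCompl aq₁
  obtain ⟨t₃, ht₃, hid⟩ := kill_poly p.primeCompl (S := Rp)
    (C s₃ * b₀ * derivative g₀ - C (s₁ * s₂ * s₃) - C s₂ * a₀ * g₀) (by
      have h1 : bq₁ * derivative fp - 1 - fp * aq₁ = 0 := sub_eq_zero.2 haq₁
      rw [Polynomial.map_sub, Polynomial.map_sub, Polynomial.map_mul, Polynomial.map_mul,
        Polynomial.map_mul, Polynomial.map_mul, ← derivative_map, hg₀, hb₀, ha₀, derivative_C_mul]
      simp only [Polynomial.map_C, Polynomial.map_mul, map_mul]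
      linear_combination (C (algebraMap R Rp s₁) * C (algebraMap R Rp s₂) * C (algebraMap R Rp s₃)) * h1)
  let g : R := r₀ * ((s₁ * s₂ * s₃) * ((t₁ : R) * (t₂ : R) * t₃))
  have hg : g ∉ p := by
    have h : g ∈ p.primeCompl := mul_mem hr₀ (mul_mem (mul_mem (mul_mem hs₁ hs₂) hs₃) (mul_mem (mul_mem t₁.2 t₂.2) ht₃))
    exact h
  let S := Localization.Away g
  have hgu : IsUnit (algebraMap R S g) := IsLocalization.Away.algebraMap_isUnit g
  simp only [g, map_mul, IsUnit.mul_iff] at hgu
  obtain ⟨-, ⟨⟨hu₁, hu₂⟩, hu₃⟩, ⟨hv₁, hv₂⟩, hv₃⟩ := hgu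
  let θ := algebraMap R S
  -- the monic equation over `R_g`
  let f : S[X] := X ^ r + C (↑hu₁.unit⁻¹ : S) * ∑ i : Fin r, C (θ (f₀.coeff i)) * X ^ (i : ℕ)
  have hlow : ((C (↑hu₁.unit⁻¹ : S)) * ∑ i : Fin r, C (θ (f₀.coeff i)) * X ^ (i : ℕ)).degree < (r : WithBot ℕ) :=
    lt_of_le_of_lt (by rw [← smul_eq_C_mul]; exact degree_smul_le _ _) (degree_sum_fin_lt _)
  have hfm : f.Monic := monic_X_pow_add hlow
  have : Nontrivial S := not_subsingleton_iff_nontrivial.1 fun h => by
    obtain ⟨k, hk⟩ := (IsLocalization.subsingleton_iff (M := Submonoid.powers g) (S := S)).1 h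
    exact hg (‹p.IsPrime›.mem_of_pow_mem k ((show g ^ k = 0 from hk) ▸ p.zero_mem))
  have hfd : f.natDegree = r := by
    refine natDegree_eq_of_degree_eq_some ?_
    rw [degree_add_eq_left_of_degree_lt (by rwa [degree_X_pow]), degree_X_pow]
  have hlead' : θ (f₀.coeff r) = θ s₁ := by
    have h := congrArg θ ht₁
    rw [map_mul, map_zero, map_sub] at h
    exact sub_eq_zero.1 (hv₁.mul_right_eq_zero.1 h)
  have hCf : g₀.map θ = C (θ s₁) * f := by
    simp only [g₀, f, Polynomial.map_add, Polynomial.map_mul, Polynomial.map_C, Polynomial.map_sum,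
      Polynomial.map_pow, Polynomial.map_X, hlead', mul_add, ← mul_assoc, ← C_mul]
    rw [show θ s₁ * (↑hu₁.unit⁻¹ : S) = 1 from hu₁.mul_val_inv, C_1, one_mul]
  let AS := S ⊗[R] A
  let ξS : AS := (1 : S) ⊗ₜ[R] a
  have hfS : aeval ξS f = 0 := by
    have h : aeval ξS (g₀.map θ) = 0 := by
      rw [aeval_map_algebraMap, show ξS = (Algebra.TensorProduct.includeRight : A →ₐ[R] AS) a from rfl,
        aeval_algHom_apply]
      show (1 : S) ⊗ₜ[R] aeval a g₀ = 0
      obtain ⟨c, hc⟩ := hv₂
      have h7 : θ t₂ • ((1 : S) ⊗ₜ[R] aeval a g₀) = 0 := by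
        rw [algebraMap_smul, ← TensorProduct.tmul_smul, show (t₂ : R) • aeval a g₀ = 0 from ht₂,
          TensorProduct.tmul_zero]
      exact (hc.symm ▸ c.isUnit : IsUnit (θ t₂)).smul_eq_zero.1 h7
    rw [hCf, map_mul, aeval_C, ← Algebra.smul_def] at h
    exact hu₁.smul_eq_zero.1 h
  have hd : IsUnit (aeval (AdjoinRoot.root f) (derivative f)) := by
    have h := congrArg (fun q => aeval (AdjoinRoot.root f) (q.map θ)) hid
    simp only [Polynomial.map_mul, Polynomial.map_sub, Polynomial.map_zero, ← derivative_map, hCf,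
      derivative_C_mul, Polynomial.map_C, map_mul, map_sub, map_zero, aeval_C,
      show aeval (AdjoinRoot.root f) f = 0 by rw [AdjoinRoot.aeval_eq, AdjoinRoot.mk_self], mul_zero, sub_zero] at h
    have h' := sub_eq_zero.1 ((hv₃.map (algebraMap S (AdjoinRoot f))).mul_right_eq_zero.1 h)
    have hu : IsUnit (algebraMap S (AdjoinRoot f) (θ s₁) * algebraMap S (AdjoinRoot f) (θ s₂) *
        algebraMap S (AdjoinRoot f) (θ s₃)) :=
      ((hu₁.map _).mul (hu₂.map _)).mul (hu₃.map _)
    rw [← h'] at hu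
    exact isUnit_of_mul_isUnit_right (isUnit_of_mul_isUnit_right hu)
  have hΦS : Function.Bijective (Φ.lTensor S) := by
    have h := hspread g (Dvd.intro _ rfl)
    rw [← IsLocalizedModule.map_bijective_iff_localizedModuleMap_bijective
      (TensorProduct.mk R S (Fin r × Fin r → R) 1) (TensorProduct.mk R S A 1)] at h
    have h1 : IsLocalizedModule.map (Submonoid.powers g) (TensorProduct.mk R S (Fin r × Fin r → R) 1)
        (TensorProduct.mk R S A 1) Φ = Φ.lTensor S := by
      refine IsLocalizedModule.linearMap_ext (Submonoid.powers g) (TensorProduct.mk R S (Fin r × Fin r → R) 1)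
        (TensorProduct.mk R S A 1) (LinearMap.ext fun v => ?_)
      exact IsLocalizedModule.map_apply (Submonoid.powers g) (TensorProduct.mk R S _ 1) (TensorProduct.mk R S A 1) Φ v
    rwa [h1] at h
  let aS : Fin r → AS := fun j => (1 : S) ⊗ₜ[R] (as j).1
  have hΘ : Function.Bijective (Fintype.linearCombination S fun q : Fin r × Fin r => aS q.1 * ξS ^ (q.2 : ℕ)) := by
    have h2 : ⇑(Φ.lTensor S) = ⇑(Fintype.linearCombination S fun q : Fin r × Fin r => aS q.1 * ξS ^ (q.2 : ℕ)) ∘
        ⇑(TensorProduct.piScalarRight R S S (Fin r × Fin r)) := by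
      funext t
      induction t using TensorProduct.induction_on with
      | zero => simp
      | add x y hx hy => simp only [Function.comp_apply, map_add] at hx hy ⊢; rw [hx, hy]
      | tmul c v =>
        simp [Φ, aS, ξS, Fintype.linearCombination_apply, Algebra.TensorProduct.tmul_pow,
          TensorProduct.tmul_sum, TensorProduct.tmul_smul]
        exact Finset.sum_congr rfl fun q _ => by
          rw [Algebra.TensorProduct.tmul_pow, one_pow, Algebra.TensorProduct.tmul_mul_tmul, one_mul,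
            TensorProduct.smul_tmul', TensorProduct.smul_tmul', smul_eq_mul, mul_one]
          first | done | exact (TensorProduct.smul_tmul' _ _ _).symm
    rw [h2] at hΦS
    exact (Function.Bijective.of_comp_iff _ (LinearEquiv.bijective _)).1 hΦS
  exact ⟨g, hg, r, f, a, fun j => (as j).1, hrpos, hfm, hfd, inferInstance, hfS, hd, hΘ⟩

theorem exists_etale_split_away (p : Ideal R) [p.IsPrime] :
    ∃ g : R, g ∉ p ∧ ∃ (f : (Localization.Away g)[X]),
      Algebra.Etale (Localization.Away g) (AdjoinRoot f) ∧ Module.Free (Localization.Away g) (AdjoinRoot f) ∧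
      Module.Finite (Localization.Away g) (AdjoinRoot f) ∧ Nontrivial (AdjoinRoot f) ∧
      ∃ r : ℕ, 1 ≤ r ∧ Nonempty ((AdjoinRoot f ⊗[R] A) ≃ₐ[AdjoinRoot f]
        Matrix (Fin r) (Fin r) (AdjoinRoot f)) := by
  obtain ⟨g, hg, r, f, a, as, hrpos, hfm, hfd, _, hfS, hd, hΘ⟩ := exists_data (R := R) (A := A) p
  let S := Localization.Away g
  let AS := S ⊗[R] A
  let ξS : AS := (1 : S) ⊗ₜ[R] a
  let aS : Fin r → AS := fun j => (1 : S) ⊗ₜ[R] as j
  let pbS := AdjoinRoot.powerBasis' hfm
  have : Module.Free S (AdjoinRoot f) := Module.Free.of_basis pbS.basis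
  have : Module.Finite S (AdjoinRoot f) := pbS.finite
  have : Algebra.FormallyUnramified S (AdjoinRoot f) :=
    formallyUnramified_of_generator (AdjoinRoot.root f) f AdjoinRoot.adjoinRoot_eq_top
      (by rw [AdjoinRoot.aeval_eq, AdjoinRoot.mk_self]) hd
  have hfr : Module.finrank S (AdjoinRoot f) = r := by rw [pbS.finrank, AdjoinRoot.powerBasis'_dim, hfd]
  have : Nontrivial (AdjoinRoot f) := Module.nontrivial_of_finrank_pos (R := S) (hfr ▸ hrpos)
  refine ⟨g, hg, f, Algebra.Etale.of_formallyUnramified_of_flat, inferInstance, inferInstance,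
    inferInstance, r, hrpos, ?_⟩
  let uS := rootHom f ξS hfS
  let : Module (AdjoinRoot f) AS := rightModule uS
  have hmodS : ∀ (e : AdjoinRoot f) (b : AS), e • b = b * uS e := fun _ _ => rfl
  have := isScalarTower_right uS hmodS
  obtain ⟨eB⟩ := free_over_root f hfm hfd ξS hfS aS hΘ
  have : Module.Free (AdjoinRoot f) AS := Module.Free.of_equiv eB
  have : Module.Finite (AdjoinRoot f) AS := Module.Finite.equiv eB
  have hrkS : Module.finrank (AdjoinRoot f) AS = r := by
    rw [← eB.finrank_eq, Module.finrank_pi, Fintype.card_fin]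
  have := GrothLib.Azu.isAzumaya_baseChange R S A
  have hAS : ∀ q : PrimeSpectrum S, Module.rankAtStalk AS q = r ^ 2 := fun q => by
    have := q.nontrivial
    rw [← Module.rankAtStalk_eq_of_equiv (LinearEquiv.ofBijective _ hΘ), Module.rankAtStalk_eq_finrank_of_free,
      Pi.natCast_apply, Nat.cast_id, Module.finrank_pi, Fintype.card_prod, Fintype.card_fin, sq]
  exact ⟨(GrothLib.Azu.cancelAlgEquiv R A (AdjoinRoot f) S).symm.trans
    ((AlgEquiv.ofBijective _ (splitMap_bijective uS hmodS r hrpos hAS hrkS)).trans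
      (algEquivMatrix (Module.finBasisOfFinrankEq (AdjoinRoot f) AS hrkS)))⟩

end GrothLib.AzMod
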