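import Groth.Agent.Lib.AzMod.Cancel
import Mathlib.RingTheory.PiTensorProduct
import Mathlib.LinearAlgebra.PiTensorProduct.Basic
import Mathlib.Logic.Equiv.Option
import Mathlib.Logic.Equiv.Fin.Basic

set_option autoImplicit false

/-!
# Tensor powers of Azumaya algebras over a ring
-/

universe u v w w'

open scoped TensorProduct
open PiTensorProduct (tprod)

namespace GrothLib.AzMod

variable (k : Type u) [CommRing k]

/-- Reindexing is multiplicative. -/
noncomputable def piReindex {α β : Type*} (e : α ≃ β) (s : β → Type v) [∀ b, Ring (s b)]
    [∀ b, Algebra k (s b)] : (⨂[k] b, s b) ≃ₐ[k] ⨂[k] a, s (e a) :=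
  AlgEquiv.ofLinearEquiv (PiTensorProduct.reindex k s e.symm)
    (by rw [PiTensorProduct.one_def, PiTensorProduct.reindex_tprod]; rfl)
    (by
      refine fun x y => ?_
      induction x using PiTensorProduct.induction_on with
      | smul_tprod r f =>
        induction y using PiTensorProduct.induction_on with
        | smul_tprod t g =>
          simp only [smul_mul_smul_comm, PiTensorProduct.tprod_mul_tprod, map_smul,
            PiTensorProduct.reindex_tprod]
          rfl
        | add p q hp hq => simp only [mul_add, map_add, hp, hq]
      | add p q hp hq => simp only [add_mul, map_add, hp, hq])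

section Option

variable {α : Type*} (s : Option α → Type v) [∀ i, Ring (s i)] [∀ i, Algebra k (s i)]

/-- Peeling one factor. -/
noncomputable def piOptionFwd : (⨂[k] i, s i) →ₐ[k] s none ⊗[k] (⨂[k] a, s (some a)) :=
  PiTensorProduct.liftAlgHom
    { toFun := fun f => f none ⊗ₜ[k] tprod k (fun a => f (some a))
      map_update_add' := by
        intro _ m i x y
        classical
        cases i with
        | none =>
          rw [Function.update_self, Function.update_self, Function.update_self,
            TensorProduct.add_tmul]
          simp
        | some j =>
          simp only [Function.update_of_ne (Option.some_ne_none j).symm]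
          rw [← TensorProduct.tmul_add]
          congr 1
          have h : ∀ z : s (some j), (fun a => Function.update m (some j) z (some a)) =
              Function.update (fun a => m (some a)) j z := fun z =>
            Function.update_comp_eq_of_injective' m (Option.some_injective α) j z
          rw [h, h, h, MultilinearMap.map_update_add]
      map_update_smul' := by
        intro _ m i c x
        classical
        cases i with
        | none =>
          rw [Function.update_self, Function.update_self, TensorProduct.smul_tmul']
          simp
        | some j =>
          simp only [Function.update_of_ne (Option.some_ne_none j).symm]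
          rw [← TensorProduct.tmul_smul]
          congr 1
          have h : ∀ z : s (some j), (fun a => Function.update m (some j) z (some a)) =
              Function.update (fun a => m (some a)) j z := fun z =>
            Function.update_comp_eq_of_injective' m (Option.some_injective α) j z
          rw [h, h, MultilinearMap.map_update_smul] }
    (by rfl) (fun x y => by
      simp only [MultilinearMap.coe_mk, Algebra.TensorProduct.tmul_mul_tmul,
        PiTensorProduct.tprod_mul_tprod]
      rfl)

theorem piOptionFwd_tprod (f : ∀ i, s i) :
    piOptionFwd k s (tprod k f) = f none ⊗ₜ[k] tprod k (fun a => f (some a)) :=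
  PiTensorProduct.lift.tprod f

/-- Extend by one. -/
def optionExt (f : ∀ a, s (some a)) : ∀ i, s i
  | none => 1
  | some a => f a

/-- Adding a trivial factor. -/
noncomputable def piOptionIncl : (⨂[k] a, s (some a)) →ₐ[k] ⨂[k] i, s i :=
  PiTensorProduct.liftAlgHom
    { toFun := fun f => tprod k (optionExt s f)
      map_update_add' := by
        intro _ m j x y
        classical
        have h : ∀ z : s (some j), optionExt s (Function.update m j z) =
            Function.update (optionExt s m) (some j) z := fun z => by
          funext i
          rcases i with _ | a
          · rw [Function.update_of_ne (Option.some_ne_none j).symm]; rfl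
          · rcases eq_or_ne a j with rfl | ha
            · simp [optionExt]
            · simp [optionExt, ha]
        rw [h, h, h, MultilinearMap.map_update_add]
      map_update_smul' := by
        intro _ m j c x
        classical
        have h : ∀ z : s (some j), optionExt s (Function.update m j z) =
            Function.update (optionExt s m) (some j) z := fun z => by
          funext i
          rcases i with _ | a
          · rw [Function.update_of_ne (Option.some_ne_none j).symm]; rfl
          · rcases eq_or_ne a j with rfl | ha
            · simp [optionExt]
            · simp [optionExt, ha]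
        rw [h, h, MultilinearMap.map_update_smul] }
    (by
      simp only [MultilinearMap.coe_mk, PiTensorProduct.one_def]
      congr 1
      funext i
      cases i <;> rfl)
    (fun x y => by
      simp only [MultilinearMap.coe_mk, PiTensorProduct.tprod_mul_tprod]
      congr 1
      funext i
      cases i <;> simp [optionExt])

theorem piOptionIncl_tprod (f : ∀ a, s (some a)) :
    piOptionIncl k s (tprod k f) = tprod k (optionExt s f) :=
  PiTensorProduct.lift.tprod f

/-- Peeling one factor, as an equivalence. -/
noncomputable def piOption : (⨂[k] i, s i) ≃ₐ[k] s none ⊗[k] (⨂[k] a, s (some a)) :=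
  letI := Classical.decEq (Option α)
  AlgEquiv.ofAlgHom (piOptionFwd k s)
    (Algebra.TensorProduct.lift (PiTensorProduct.singleAlgHom none) (piOptionIncl k s)
      (fun x y => by
        induction y using PiTensorProduct.induction_on with
        | smul_tprod r f =>
          rw [map_smul, piOptionIncl_tprod]
          refine Commute.smul_right (Commute.tprod ?_) r
          funext i
          cases i <;> simp [optionExt]
        | add p q hp hq => rw [map_add]; exact hp.add_right hq))
    (by
      ext : 1
      · apply AlgHom.ext
        intro x
        simp only [AlgHom.coe_comp, Function.comp_apply, Algebra.TensorProduct.includeLeft_apply,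
          Algebra.TensorProduct.lift_tmul, map_one, mul_one, PiTensorProduct.singleAlgHom_apply,
          piOptionFwd_tprod, AlgHom.id_apply]
        congr 1 <;> simp [PiTensorProduct.one_def, MonoidHom.mulSingle_apply]
        rfl
      · apply AlgHom.toLinearMap_injective
        apply PiTensorProduct.ext
        ext f
        simp only [LinearMap.compMultilinearMap_apply, AlgHom.toLinearMap_apply, AlgHom.coe_comp,
          Function.comp_apply, AlgHom.coe_restrictScalars', AlgHom.id_apply,
          Algebra.TensorProduct.includeRight_apply, Algebra.TensorProduct.lift_tmul, map_one,
          one_mul, piOptionIncl_tprod, piOptionFwd_tprod]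
        rfl)
    (by
      apply AlgHom.toLinearMap_injective
      apply PiTensorProduct.ext
      ext f
      simp only [LinearMap.compMultilinearMap_apply, AlgHom.toLinearMap_apply, AlgHom.coe_comp,
        Function.comp_apply, piOptionFwd_tprod, Algebra.TensorProduct.lift_tmul,
        PiTensorProduct.singleAlgHom_apply, piOptionIncl_tprod, AlgHom.id_apply,
        PiTensorProduct.tprod_mul_tprod]
      congr 1
      funext i
      cases i <;> simp [optionExt, MonoidHom.mulSingle_apply])

end Option

/-- The empty tensor product. -/
noncomputable def piEmpty {α : Type*} [IsEmpty α] (s : α → Type v) [∀ a, Ring (s a)]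
    [∀ a, Algebra k (s a)] : (⨂[k] a, s a) ≃ₐ[k] k :=
  AlgEquiv.ofLinearEquiv (PiTensorProduct.isEmptyEquiv (ι := α) (R := k) (s := s))
    (by rw [PiTensorProduct.one_def]; exact PiTensorProduct.isEmptyEquiv_apply_tprod (ι := α) _)
    (by
      refine fun x y => ?_
      induction x using PiTensorProduct.induction_on with
      | smul_tprod r f =>
        induction y using PiTensorProduct.induction_on with
        | smul_tprod t g => simp [PiTensorProduct.tprod_mul_tprod, mul_comm]
        | add p q hp hq => simp only [mul_add, map_add, hp, hq]
      | add p q hp hq => simp only [add_mul, map_add, hp, hq])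

variable {k}

theorem piPow_isAzumaya_and_rank (A : Type v) [Ring A] [Algebra k A] [IsAzumaya k A] (n : ℕ) :
    IsAzumaya k (⨂[k] _ : Fin n, A) ∧ ∀ p : PrimeSpectrum k,
      Module.rankAtStalk (⨂[k] _ : Fin n, A) p = Module.rankAtStalk A p ^ n := by
  induction n with
  | zero =>
    let e := piEmpty k (fun _ : Fin 0 => A)
    refine ⟨IsAzumaya.of_AlgEquiv k _ _ e.symm, fun p => ?_⟩
    have := p.nontrivial
    rw [Module.rankAtStalk_eq_of_equiv e.toLinearEquiv, Module.rankAtStalk_self, pow_zero]
    rfl
  | succ n ih =>
    obtain ⟨hA, hr⟩ := ih
    let e : (⨂[k] _ : Option (Fin n), A) ≃ₐ[k] ⨂[k] _ : Fin (n + 1), A :=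
      piReindex k (finSuccEquiv n) (fun _ => A)
    let e' := e.symm.trans (piOption k (fun _ : Option (Fin n) => A))
    have := GrothLib.Azu.isAzumaya_tensor k A (⨂[k] _ : Fin n, A)
    refine ⟨IsAzumaya.of_AlgEquiv k _ _ e'.symm, fun p => ?_⟩
    rw [Module.rankAtStalk_eq_of_equiv e'.toLinearEquiv, Module.rankAtStalk_tensorProduct, Pi.mul_apply,
      hr, pow_succ']

end GrothLib.AzMod
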