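import Groth.Agent.Lib.AzMod.EtaleGen
import Groth.Agent.Lib.CSA.Subfield
import Mathlib.RingTheory.LittleWedderburn
import Mathlib.FieldTheory.Finite.Extension
import Mathlib.FieldTheory.PrimitiveElement
import Mathlib.LinearAlgebra.Matrix.ToLin

set_option autoImplicit false

/-!
# Central simple algebras have regular separable elements
-/

universe u v

open Polynomial

namespace GrothLib.AzMod

variable {k : Type u} [Field k]

theorem exists_regular_element (A : Type v) [Ring A] [Algebra k A] [Algebra.IsCentral k A] [IsSimpleRing A]
    [FiniteDimensional k A] (r : ℕ) (hA : Module.finrank k A = r ^ 2) :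
    ∃ x : A, (minpoly k x).Separable ∧ (minpoly k x).natDegree = r := by
  classical
  obtain ⟨m, hm, D, _, _, _, _, ⟨e⟩⟩ := CSAExtra.exists_matrix_centralDivisionRing k A
  suffices ∃ x : Matrix (Fin m) (Fin m) D, (minpoly k x).Separable ∧ (minpoly k x).natDegree = r by
    obtain ⟨x, hx⟩ := this
    refine ⟨e.symm x, ?_⟩
    rwa [minpoly.algEquiv_eq]
  rw [CSAExtra.finrank_matrix_divisionRing k e] at hA
  rcases finite_or_infinite k with hfin | hinf
  · -- finite field
    have : Finite D := Module.finite_of_finite k
    have hDk : ∀ z : D, z ∈ (⊥ : Subalgebra k D) := fun z => by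
      apply Algebra.IsCentral.out
      rw [Subalgebra.mem_center_iff]
      intro w
      exact (littleWedderburn D).mul_comm w z
    have hbij : Function.Bijective (Algebra.ofId k D) :=
      ⟨(Algebra.ofId k D).toRingHom.injective, fun z => Algebra.mem_bot.1 (hDk z)⟩
    let εD := AlgEquiv.ofBijective (Algebra.ofId k D) hbij
    rw [← εD.toLinearEquiv.finrank_eq, Module.finrank_self, mul_one] at hA
    have hmr : m = r := Nat.pow_left_injective two_ne_zero hA
    subst hmr
    obtain ⟨p, hp⟩ := CharP.exists k
    have : Fact p.Prime := ⟨CharP.char_is_prime k p⟩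
    let K := FiniteField.Extension k p m
    have hK : Module.finrank k K = m := FiniteField.finrank_extension k p m
    obtain ⟨α, hα⟩ := Field.exists_primitive_element k K
    let ι : K →ₐ[k] Matrix (Fin m) (Fin m) D :=
      ((εD.mapMatrix : Matrix (Fin m) (Fin m) k ≃ₐ[k] Matrix (Fin m) (Fin m) D) : _ →ₐ[k] _).comp
        (Algebra.leftMulMatrix (Module.finBasisOfFinrankEq k K hK))
    refine ⟨ι α, ?_⟩
    rw [minpoly.algHom_eq ι ι.toRingHom.injective]
    refine ⟨Algebra.IsSeparable.isSeparable k α, ?_⟩
    rw [← IntermediateField.adjoin.finrank (Algebra.IsIntegral.isIntegral α), hα,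
      IntermediateField.finrank_top', hK]
  · obtain ⟨L, hcomm, hsep, hcent⟩ := CSA.exists_separable_centralizer_eq (k := k) (D := D)
    have hdim := CSA.finrank_sq_of_centralizer_eq L hcomm hcent
    rw [hdim, ← mul_pow] at hA
    have hmd : m * Module.finrank k L = r := Nat.pow_left_injective two_ne_zero hA
    let : CommRing L := { L.toRing with mul_comm := fun x y => Subtype.ext (hcomm x x.2 y y.2) }
    let : Field L := fieldOfFiniteDimensional k L
    have : Algebra.IsSeparable k L := hsep
    obtain ⟨y, hy⟩ := Field.exists_primitive_element k L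
    let q : k → k[X] := fun c => minpoly k (y + algebraMap k L c)
    have hdeg : ∀ c, (q c).natDegree = Module.finrank k L := fun c => by
      show (minpoly k (y + algebraMap k L c)).natDegree = _
      rw [minpoly.add_algebraMap, natDegree_comp, natDegree_X_sub_C, mul_one,
        ← IntermediateField.adjoin.finrank (Algebra.IsIntegral.isIntegral y), hy,
        IntermediateField.finrank_top']
    have hrange : (Set.range q).Infinite := by
      intro hfin
      have : (q ⁻¹' Set.range q).Finite := hfin.preimage' fun b _ => by
        by_cases hb : b = 0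
        · subst hb
          refine Set.Finite.subset Set.finite_empty fun c hc => ?_
          exact absurd hc (minpoly.ne_zero (Algebra.IsIntegral.isIntegral (R := k) (y + algebraMap k L c)))
        refine Set.Finite.subset ((finite_setOf_isRoot (Polynomial.map_ne_zero (f := algebraMap k L) hb)).preimage
          (f := fun c => y + algebraMap k L c)
          (
            fun a _ b _ h => (algebraMap k L).injective (add_left_cancel h))) fun c hc => ?_
        simp only [Set.mem_preimage, Set.mem_singleton_iff] at hc
        show (b.map (algebraMap k L)).IsRoot (y + algebraMap k L c)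
        rw [← hc, IsRoot, eval_map_algebraMap]
        exact minpoly.aeval k _
      rw [Set.preimage_range] at this
      exact Set.infinite_univ this
    let g := hrange.natEmbedding
    have hg : ∀ i : Fin m, ∃ c, q c = (g i.1 : k[X]) := fun i => (g i.1).2
    choose c hc using hg
    let z : Fin m → D := fun i => ((y + algebraMap k L (c i) : L) : D)
    let x : Matrix (Fin m) (Fin m) D := Matrix.diagonalAlgHom k z
    have hz : ∀ i, minpoly k (z i) = q (c i) := fun i =>
      minpoly.algHom_eq L.val Subtype.val_injective (y + algebraMap k L (c i))
    have hx : ∀ f : k[X], aeval x f = Matrix.diagonalAlgHom k fun i => aeval (z i) f := fun f => by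
      rw [aeval_algHom_apply]
      congr 1
      funext i
      rw [show z i = Pi.evalAlgHom k (fun _ : Fin m => D) i z from rfl, aeval_algHom_apply]
      rfl
    let P := ∏ i : Fin m, q (c i)
    have hirr : ∀ i, Irreducible (q (c i)) := fun i => minpoly.irreducible (Algebra.IsIntegral.isIntegral _)
    have hmon : ∀ i, (q (c i)).Monic := fun i => minpoly.monic (Algebra.IsIntegral.isIntegral _)
    have hcop : Pairwise (Function.onFun IsCoprime fun i : Fin m => q (c i)) := fun i j hij => by
      refine ((hirr i).coprime_iff_not_dvd).2 fun hd => hij (Fin.ext ?_)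
      have h1 := eq_of_monic_of_associated (hmon i) (hmon j) ((hirr i).associated_of_dvd (hirr j) hd)
      rw [hc, hc] at h1
      exact g.injective (Subtype.ext h1)
    have hP : P = minpoly k x := by
      refine eq_of_monic_of_associated (monic_prod_of_monic _ _ fun i _ => hmon i)
        (minpoly.monic (Algebra.IsIntegral.isIntegral x)) (associated_of_dvd_dvd ?_ ?_)
      · refine Fintype.prod_dvd_of_coprime hcop fun i => ?_
        show q (c i) ∣ _
        rw [← hz]
        refine minpoly.dvd k _ ?_
        have h := congrFun (congrFun (minpoly.aeval k x ▸ (hx (minpoly k x)).symm) i) i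
        simpa [Matrix.diagonalAlgHom] using h
      · refine minpoly.dvd k x ?_
        rw [hx, show (fun i => aeval (z i) P) = 0 from funext fun i => ?_, map_zero]
        obtain ⟨t, ht⟩ : q (c i) ∣ P := Finset.dvd_prod_of_mem _ (Finset.mem_univ i)
        rw [ht, map_mul, ← hz, minpoly.aeval, zero_mul]
        rfl
    refine ⟨x, ?_, ?_⟩
    · rw [← hP]
      exact separable_prod hcop fun i => Algebra.IsSeparable.isSeparable k _
    · rw [← hP, natDegree_prod_of_monic _ _ fun i _ => hmon i, Finset.sum_congr rfl fun i _ => hdeg (c i),
        Finset.sum_const, Finset.card_univ, Fintype.card_fin, smul_eq_mul, hmd]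

end GrothLib.AzMod
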