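import Groth.Agent.Lib.AzMod.Centralizer
import Mathlib.RingTheory.Unramified.Finite
import Mathlib.RingTheory.LocalRing.Module
import Mathlib.RingTheory.QuasiFinite.Basic
import Mathlib.LinearAlgebra.TensorProduct.Tower

set_option autoImplicit false

/-!
# Maximal commutative subalgebras split Azumaya algebras
-/

universe u v w

open scoped TensorProduct

namespace GrothLib.AzMod

variable {R : Type u} [CommRing R]

/-- A homomorphism between Azumaya algebras of the same rank is bijective. -/
theorem hom_bijective {A : Type v} [Ring A] [Algebra R A] [IsAzumaya R A] {B : Type w} [Ring B]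
    [Algebra R B] [IsAzumaya R B] (f : A →ₐ[R] B)
    (hr : ∀ p : PrimeSpectrum R, Module.rankAtStalk A p = Module.rankAtStalk B p) :
    Function.Bijective f := by
  refine ⟨injective_of_scalars f, fun b => ?_⟩
  obtain ⟨hbij, hC⟩ := centralizer_isAzumaya f
  set C := Subalgebra.centralizer R (Set.range f)
  obtain ⟨g, hg⟩ := exists_dual_one (R := R) (A := C)
  have hgs : Function.Surjective g := fun r => ⟨r • 1, by rw [map_smul, hg, smul_eq_mul, mul_one]⟩
  have h1 : ∀ p : PrimeSpectrum R, Module.rankAtStalk C p = Module.rankAtStalk R p := by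
    intro p
    have := p.nontrivial
    have h2 := congr_fun (Module.rankAtStalk_eq_of_equiv (AlgEquiv.ofBijective _ hbij).toLinearEquiv) p
    rw [Module.rankAtStalk_tensorProduct, Pi.mul_apply, ← hr p] at h2
    rw [Module.rankAtStalk_self, Pi.one_apply]
    exact Nat.eq_of_mul_eq_mul_left (rankAtStalk_pos A p) (h2.trans (mul_one _).symm)
  have hgb := bijective_of_surjective_of_rankAtStalk_eq h1 g hgs
  have hC1 : ∀ c : C, c = g c • 1 := fun c => hgb.1 (by rw [map_smul, hg, smul_eq_mul, mul_one])
  obtain ⟨t, rfl⟩ := hbij.2 b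
  induction t using TensorProduct.induction_on with
  | zero => exact ⟨0, by simp⟩
  | tmul a c =>
    refine ⟨g c • a, ?_⟩
    rw [map_smul, Algebra.TensorProduct.lift_tmul]
    conv_rhs => rw [hC1 c]
    simp
  | add p q hp hq =>
    obtain ⟨x, hx⟩ := hp
    obtain ⟨y, hy⟩ := hq
    exact ⟨x + y, by rw [map_add, map_add, hx, hy]⟩

/-- Semilocal rings are LG-rings. -/
theorem isLGRing_of_finite_maximalSpectrum (R : Type u) [CommRing R] [Finite (MaximalSpectrum R)] :
    LGRing.IsLGRing R := by
  intro n f h
  choose s hs using fun M : MaximalSpectrum R => h M.1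
  have hcop : Pairwise (Function.onFun IsCoprime fun M : MaximalSpectrum R => M.asIdeal) :=
    fun _ _ ne => Ideal.isCoprime_of_isMaximal (MaximalSpectrum.ext_iff.ne.mp ne)
  have hsurj : ∀ i : Fin n, ∃ x : R, ∀ M : MaximalSpectrum R,
      Ideal.Quotient.mk M.asIdeal x = s M i := fun i => by
    obtain ⟨x, hx⟩ := Ideal.pi_quotient_surjective hcop (fun M => s M i)
    exact ⟨x, hx⟩
  choose x hx using hsurj
  refine ⟨x, ?_⟩
  by_contra hnu
  obtain ⟨m, hm, hmem⟩ := exists_max_ideal_of_mem_nonunits hnu
  refine (hs ⟨m, hm⟩).ne_zero ?_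
  rw [show s ⟨m, hm⟩ = (algebraMap R (R ⧸ m)) ∘ x from funext fun i => (hx i ⟨m, hm⟩).symm,
    show ((algebraMap R (R ⧸ m)) ∘ x) = fun i => algebraMap R (R ⧸ m) (x i) from rfl]
  have h3 : MvPolynomial.aeval (fun i => algebraMap R (R ⧸ m) (x i)) f =
      algebraMap R (R ⧸ m) (MvPolynomial.aeval x f) := MvPolynomial.aeval_algebraMap_apply (R ⧸ m) x f
  rw [h3, Ideal.Quotient.algebraMap_eq, Ideal.Quotient.eq_zero_iff_mem]
  exact hmem

/-- A finite algebra over a local ring is semilocal. -/
theorem finite_maximalSpectrum (E : Type w) [CommRing E] [Algebra R E] [IsLocalRing R] [Module.Finite R E] :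
    Finite (MaximalSpectrum E) := by
  have := (Algebra.QuasiFinite.finite_primesOver (S := E) (IsLocalRing.maximalIdeal R)).to_subtype
  refine Finite.of_injective (β := (IsLocalRing.maximalIdeal R).primesOver E)
    (fun M => ⟨M.asIdeal, M.isMaximal.isPrime, ?_⟩) (fun M M' h => MaximalSpectrum.ext (congrArg Subtype.val h))
  have := M.isMaximal
  refine ⟨?_⟩
  exact (IsLocalRing.eq_maximalIdeal (Ideal.isMaximal_comap_of_isIntegral_of_isMaximal (R := R) M.asIdeal)).symm

section Subalgebra

variable {A : Type v} [Ring A] [Algebra R A] {E : Type w} [CommRing E] [Algebra R E] (u : E →ₐ[R] A)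
  [Module E A]

omit [Algebra R E] in
theorem smul_comm_left (u : E → A) (hmod : ∀ (e : E) (a : A), e • a = a * u e) (e : E) (a b : A) :
    a * (e • b) = e • (a * b) := by rw [hmod, hmod, mul_assoc]

variable (hmod : ∀ (e : E) (a : A), e • a = a * u e)

include hmod in
theorem isScalarTower_right : IsScalarTower R E A :=
  ⟨fun r e a => by rw [hmod, hmod, map_smul, mul_smul_comm]⟩

/-- The action of `E ⊗ A` on `A` by `(e ⊗ a) y = a y u(e)`. -/
noncomputable def splitMap [IsScalarTower R E A] : E ⊗[R] A →ₐ[E] Module.End E A :=
  Algebra.TensorProduct.lift (Algebra.ofId E _)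
    (AlgHom.ofLinearMap
      { toFun := fun a =>
          { toFun := fun y => a * y
            map_add' := mul_add a
            map_smul' := fun e y => smul_comm_left u hmod e a y }
        map_add' := fun a b => LinearMap.ext fun y => add_mul a b y
        map_smul' := fun r a => LinearMap.ext fun y => smul_mul_assoc r a y }
      (LinearMap.ext fun y => one_mul y) (fun a b => LinearMap.ext fun y => mul_assoc a b y))
    fun e _ => Algebra.commute_algebraMap_left e _

theorem splitMap_tmul [IsScalarTower R E A] (e : E) (a y : A) :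
    splitMap u hmod (e ⊗ₜ a) y = a * y * u e := by
  simp [splitMap, hmod]

variable [IsAzumaya R A]

include hmod in
theorem splitMap_bijective [IsScalarTower R E A] [Module.Free E A] [Module.Finite E A] (r : ℕ) (hr : 0 < r)
    (hA : ∀ p : PrimeSpectrum R, Module.rankAtStalk A p = r ^ 2) (hrk : Module.finrank E A = r) :
    Function.Bijective (splitMap u hmod) := by
  have := GrothLib.Azu.isAzumaya_baseChange R E A
  rcases subsingleton_or_nontrivial E with hE | hE
  · have : Subsingleton A := ⟨fun a b => by rw [← one_smul E a, ← one_smul E b, Subsingleton.elim (1 : E) 0, zero_smul, zero_smul]⟩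
    have : Subsingleton (E ⊗[R] A) := Module.subsingleton E _
    exact ⟨fun _ _ _ => Subsingleton.elim _ _, fun f => ⟨0, LinearMap.ext fun _ => Subsingleton.elim _ _⟩⟩
  have : FaithfulSMul E A := by
    have : Nontrivial A := Module.nontrivial_of_finrank_pos (R := E) (hrk ▸ hr)
    infer_instance
  have := GrothLib.Azu.isAzumaya_end E A
  refine hom_bijective _ fun p => ?_
  rw [Module.rankAtStalk_baseChange, hA, rankAtStalk_end,
    Module.rankAtStalk_eq_finrank_of_free, Pi.natCast_apply, Nat.cast_id, hrk]

include hmod in
/-- The centralizer of a maximal commutative subalgebra is itself. -/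
theorem exists_eq_of_commute [IsScalarTower R E A] [Module.Free E A] [Module.Finite E A] (r : ℕ) (hr : 0 < r)
    (hA : ∀ p : PrimeSpectrum R, Module.rankAtStalk A p = r ^ 2) (hrk : Module.finrank E A = r)
    (c : A) (hc : ∀ e : E, c * u e = u e * c) : ∃ e : E, u e = c := by
  rcases subsingleton_or_nontrivial E with hE | hE
  · refine ⟨0, ?_⟩
    have : Subsingleton A := ⟨fun a b => by rw [← one_smul E a, ← one_smul E b, Subsingleton.elim (1 : E) 0, zero_smul, zero_smul]⟩
    exact Subsingleton.elim _ _
  have : FaithfulSMul E A := by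
    have : Nontrivial A := Module.nontrivial_of_finrank_pos (R := E) (hrk ▸ hr)
    infer_instance
  have := GrothLib.Azu.isAzumaya_end E A
  let T : Module.End E A :=
    { toFun := fun y => y * c
      map_add' := fun x y => add_mul x y c
      map_smul' := fun e y => by simp only [hmod, RingHom.id_apply, mul_assoc, hc] }
  obtain ⟨e, he⟩ := exists_eq_algebraMap_of_forall_commute (R := E) (A := Module.End E A) (z := T) fun f => by
    obtain ⟨t, rfl⟩ := (splitMap_bijective u hmod r hr hA hrk).2 f
    induction t using TensorProduct.induction_on with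
    | zero => simp
    | tmul e a =>
      refine LinearMap.ext fun y => ?_
      show splitMap u hmod (e ⊗ₜ a) (y * c) = splitMap u hmod (e ⊗ₜ a) y * c
      rw [splitMap_tmul, splitMap_tmul, ← mul_assoc a y c, mul_assoc (a * y) c (u e), hc,
        mul_assoc (a * y) (u e) c]
    | add p q hp hq => rw [map_add, add_mul, mul_add, hp, hq]
  refine ⟨e, ?_⟩
  have h := LinearMap.congr_fun he 1
  simp only [Module.algebraMap_end_apply, hmod, one_mul] at h
  rw [← h]; exact one_mul c

include hmod in
/-- An étale subalgebra of rank `r` over a local ring makes the algebra free of rank `r`. -/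
theorem free_of_formallyUnramified [IsLocalRing R] [IsScalarTower R E A] [Algebra.FormallyUnramified R E]
    [Algebra.EssFiniteType R E] [Module.Finite R E] [Module.Free R E] (r : ℕ)
    (hA : Module.finrank R A = r ^ 2) (hE : Module.finrank R E = r)
    (hu : Function.Injective u) :
    Module.Free E A ∧ Module.Finite E A ∧ Module.finrank E A = r := by
  have := finite_maximalSpectrum (R := R) E
  have hfree : Module.Free R A := Module.free_of_flat_of_isLocalRing
  have : Module.Finite E A := Module.Finite.of_restrictScalars_finite R E A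
  have : Module.Projective E A := Algebra.FormallyUnramified.projective_of_restrictScalars R E A
  have hfaith : FaithfulSMul E A := ⟨fun {e e'} h => hu (by simpa [hmod] using h 1)⟩
  -- rank at least `r` everywhere
  have hlow : ∀ p : PrimeSpectrum E, r ≤ Module.rankAtStalk A p := by
    intro p
    let κ := p.asIdeal.ResidueField
    have : Nontrivial R := IsLocalRing.toNontrivial
    have hAz := GrothLib.Azu.isAzumaya_baseChange R κ A
    obtain ⟨-, hsimple, -⟩ := CSAExtra.csa_of_isAzumaya κ (κ ⊗[R] A)
    let L : A →ₐ[R] Module.End κ (κ ⊗[E] A) :=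
      ((Module.End.baseChangeHom E κ A).restrictScalars R).comp
        (((splitMap u hmod).restrictScalars R).comp Algebra.TensorProduct.includeRight)
    let φ : κ ⊗[R] A →ₐ[κ] Module.End κ (κ ⊗[E] A) :=
      Algebra.TensorProduct.lift (Algebra.ofId κ _) L fun c _ => Algebra.commute_algebraMap_left c _
    have hpos := rankAtStalk_pos (R := E) A p
    rw [Module.rankAtStalk_eq] at hpos ⊢
    change r ≤ Module.finrank κ (κ ⊗[E] A)
    change 0 < Module.finrank κ (κ ⊗[E] A) at hpos
    have : Nontrivial (κ ⊗[E] A) := Module.nontrivial_of_finrank_pos (R := κ) hpos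
    have h1 := LinearMap.finrank_le_finrank_of_injective (f := φ.toLinearMap) φ.toRingHom.injective
    rw [Module.finrank_baseChange, hA, Module.finrank_linearMap, ← sq] at h1
    exact Nat.pow_le_pow_iff_left two_ne_zero |>.1 h1
  obtain ⟨f, hf⟩ := exists_surjective (A := E) (R := E) (isLGRing_of_finite_maximalSpectrum E) A (Fin r → E)
    fun p => by
      have : Nontrivial E := p.nontrivial
      rw [Module.rankAtStalk_eq_finrank_of_free, Pi.natCast_apply, Nat.cast_id, Module.finrank_pi,
        Fintype.card_fin]
      exact hlow p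
  have hbij : Function.Bijective f := bijective_of_surjective_of_rankAtStalk_eq (R := R) (fun p => by
    rw [Module.rankAtStalk_eq_finrank_of_free, Module.rankAtStalk_eq_finrank_of_free, hA,
      Module.finrank_pi_fintype, Finset.sum_const, Finset.card_univ, Fintype.card_fin, hE, smul_eq_mul, sq])
    (f.restrictScalars R) hf
  let e := LinearEquiv.ofBijective f hbij
  refine ⟨Module.Free.of_equiv e.symm, inferInstance, ?_⟩
  rcases subsingleton_or_nontrivial E with hE' | hE'
  · exfalso
    rw [Module.finrank_zero_of_subsingleton (R := R)] at hE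
    have h1 := rankAtStalk_pos (R := R) A (IsLocalRing.closedPoint R)
    rw [Module.rankAtStalk_eq_finrank_of_free, Pi.natCast_apply, Nat.cast_id, hA, ← hE] at h1
    simp at h1
  · rw [e.finrank_eq, Module.finrank_pi, Fintype.card_fin]

end Subalgebra

end GrothLib.AzMod
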