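import Groth.Agent.Lib.AzMod.IdemLift
import Groth.Agent.Lib.AzMod.Split
import Groth.Agent.Lib.AzMod.Cancel
import Groth.Agent.Lib.BrauerEquiv.Basic
import Groth.Agent.Lib.Azumaya.BaseChange
import Mathlib.FieldTheory.IsSepClosed
import Mathlib.FieldTheory.PurelyInseparable.Basic
import Mathlib.RingTheory.SimpleModule.IsAlgClosed
import Mathlib.RingTheory.Spectrum.Prime.FreeLocus

set_option autoImplicit false

/-!
# Azumaya algebras over semilocal henselian rings with separably closed residue fields split
-/

universe u v w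

open scoped TensorProduct

namespace GrothLib.AzMod

/-- An algebraic extension of a separably closed field is separably closed. -/
theorem isSepClosed_of_isAlgebraic (k : Type u) [Field k] [IsSepClosed k] (K : Type v) [Field K]
    [Algebra k K] [Algebra.IsAlgebraic k K] : IsSepClosed K := by
  refine IsSepClosed.of_exists_root _ fun p _ hirr hsep => ?_
  let L := AlgebraicClosure K
  obtain ⟨x, hx⟩ := IsAlgClosed.exists_root (p.map (algebraMap K L)) (by
    rw [Polynomial.degree_map]; exact (Polynomial.degree_pos_of_irreducible hirr).ne')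
  have : Algebra.IsAlgebraic k L := Algebra.IsAlgebraic.trans k K L
  have : IsPurelyInseparable k L := inferInstance
  have : IsPurelyInseparable K L := IsPurelyInseparable.tower_top k K L
  have hxs : IsSeparable K x := hsep.of_dvd (minpoly.dvd K x (by
    rwa [Polynomial.aeval_def, ← Polynomial.eval_map]))
  obtain ⟨y, rfl⟩ := IsPurelyInseparable.inseparable K x hxs
  exact ⟨y, (algebraMap K L).injective (by rw [map_zero, ← Polynomial.eval_map_apply]; exact hx)⟩

/-- Central simple algebras over separably closed fields are matrix algebras. -/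
theorem exists_algEquiv_matrix_of_isSepClosed (k : Type u) [Field k] [IsSepClosed k] (A : Type v) [Ring A]
    [Algebra k A] [IsAzumaya k A] [Nontrivial A] :
    ∃ n : ℕ, 0 < n ∧ Nonempty (A ≃ₐ[k] Matrix (Fin n) (Fin n) k) := by
  have : Algebra.IsCentral k A := ⟨fun z hz => by
    obtain ⟨r, hr⟩ := exists_eq_algebraMap_of_forall_commute (R := k) (z := z) (fun a => Subalgebra.mem_center_iff.1 hz a)
    exact ⟨r, hr.symm⟩⟩
  have : IsSimpleRing A := .of_eq_bot_or_eq_top fun I => by
    by_cases htop : I = ⊤
    · exact Or.inr htop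
    refine Or.inl (le_bot_iff.1 fun x hx => (TwoSidedIdeal.mem_bot _).2 ?_)
    have : Nontrivial I.ringCon.Quotient := ⟨⟨0, 1, fun h => htop (TwoSidedIdeal.ext fun y => ⟨fun _ => trivial, fun _ => by
      have h1 : (1 : A) ∈ I := TwoSidedIdeal.mem_iff _ _ |>.2 ((RingCon.eq _).1 h.symm)
      simpa using I.mul_mem_left y 1 h1⟩)⟩⟩
    have : FaithfulSMul k I.ringCon.Quotient := (faithfulSMul_iff_algebraMap_injective _ _).2 (RingHom.injective _)
    exact injective_of_scalars (R := k) (A := A) (B := I.ringCon.Quotient) (I.ringCon.mkₐ k)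
      (((RingCon.eq _).2 ((TwoSidedIdeal.mem_iff _ _).1 hx)).trans (map_zero (I.ringCon.mkₐ k)).symm)
  have : IsArtinianRing A := IsArtinianRing.of_finite k A
  obtain ⟨n, hn, D, _, _, _, ⟨e⟩⟩ := IsSimpleRing.exists_algEquiv_matrix_divisionRing_finite k A
  have : Algebra.IsCentral k (Matrix (Fin n) (Fin n) D) := CSA.isCentral_of_algEquiv e
  have : Nonempty (Fin n) := ⟨⟨0, Nat.pos_of_ne_zero hn.out⟩⟩
  have : Algebra.IsCentral k D := CSAExtra.isCentral_of_matrix k (Fin n)
  obtain ⟨L, hc, hsep, he⟩ := CSA.exists_separable_centralizer_eq (k := k) (D := D)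
  let : CommRing L := { L.toRing with mul_comm := fun x y => Subtype.ext (hc x x.2 y y.2) }
  let := fieldOfFiniteDimensional k L
  have hdim := CSA.finrank_sq_of_centralizer_eq L hc he
  have hL : Module.finrank k L = 1 := by
    rw [← (LinearEquiv.ofBijective (Algebra.linearMap k L) (IsSepClosed.algebraMap_bijective (k := k) (K := L))).finrank_eq,
      Module.finrank_self]
  rw [hL, one_pow] at hdim
  have hbij : Function.Bijective (algebraMap k D) := by
    refine ⟨RingHom.injective _, ?_⟩
    exact (LinearMap.injective_iff_surjective_of_finrank_eq_finrank (f := Algebra.linearMap k D)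
      (by rw [Module.finrank_self, hdim])).1 (RingHom.injective _)
  exact ⟨n, Nat.pos_of_ne_zero hn.out, ⟨e.trans (AlgEquiv.mapMatrix (AlgEquiv.ofBijective (Algebra.ofId k D) hbij).symm)⟩⟩

/-- The rank at a prime equals the rank at a maximal ideal above it. -/
theorem rankAtStalk_eq_of_le {R : Type u} [CommRing R] (M : Type v) [AddCommGroup M] [Module R M]
    [Module.Finite R M] [Module.Projective R M] {p q : PrimeSpectrum R} (h : p ≤ q) :
    Module.rankAtStalk M p = Module.rankAtStalk M q := by
  have : Module.FinitePresentation R M := Module.finitePresentation_of_projective R M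
  have hlc := Module.isLocallyConstant_rankAtStalk (R := R) (M := M)
  exact (hlc.isOpen_fiber (Module.rankAtStalk M q)).stableUnderGeneralization
    ((PrimeSpectrum.le_iff_specializes p q).1 h) rfl

/-- An Azumaya algebra over a henselian semilocal ring with separably closed residue fields splits. -/
theorem nonempty_algEquiv_matrix_of_henselian {R : Type u} [CommRing R] [Finite (MaximalSpectrum R)]
    [HenselianRing R (⨅ M : MaximalSpectrum R, M.asIdeal)]
    (hsep : ∀ M : MaximalSpectrum R, letI := Ideal.Quotient.field M.asIdeal; IsSepClosed (R ⧸ M.asIdeal))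
    (A : Type v) [Ring A] [Algebra R A] [IsAzumaya R A] {n : ℕ}
    (hrk : ∀ p : PrimeSpectrum R, Module.rankAtStalk A p = n ^ 2) :
    Nonempty (A ≃ₐ[R] Matrix (Fin n) (Fin n) R) := by
  classical
  have := Fintype.ofFinite (MaximalSpectrum R)
  -- rank one idempotents on the fibres
  have hfib : ∀ M : MaximalSpectrum R, ∃ x : A, letI := Ideal.Quotient.field M.asIdeal
      ((1 : R ⧸ M.asIdeal) ⊗ₜ[R] (x * x - x) = 0) ∧
      Module.finrank (R ⧸ M.asIdeal) (LinearMap.range (LinearMap.mulRight (R ⧸ M.asIdeal)
        ((1 : R ⧸ M.asIdeal) ⊗ₜ[R] x : (R ⧸ M.asIdeal) ⊗[R] A))) = n := by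
    intro M
    let := Ideal.Quotient.field M.asIdeal
    let k := R ⧸ M.asIdeal
    have : IsSepClosed k := hsep M
    have hk : IsAzumaya k (k ⊗[R] A) := GrothLib.Azu.isAzumaya_baseChange R k A
    have := hk.toFaithfulSMul
    have hd : Module.finrank k (k ⊗[R] A) = n ^ 2 := by rw [finrank_tensor_quotient, hrk]
    have : Nontrivial (k ⊗[R] A) := by
      by_contra h
      have := not_nontrivial_iff_subsingleton.1 h
      exact one_ne_zero (FaithfulSMul.eq_of_smul_eq_smul (α := k ⊗[R] A) (m₁ := (1 : k)) (m₂ := 0)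
        fun x => Subsingleton.elim _ _)
    obtain ⟨r, hr, ⟨e⟩⟩ := exists_algEquiv_matrix_of_isSepClosed k (k ⊗[R] A)
    have hrn : r = n := by
      rw [e.toLinearEquiv.finrank_eq, Module.finrank_matrix, Module.finrank_self, Fintype.card_fin, mul_one,
        ← pow_two] at hd
      exact Nat.pow_left_injective two_ne_zero hd
    let i₀ : Fin r := ⟨0, hr⟩
    obtain ⟨x, hx⟩ := TensorProduct.mk_surjective R A k Ideal.Quotient.mk_surjective
      (e.symm (Matrix.single i₀ i₀ 1))
    rw [TensorProduct.mk_apply] at hx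
    refine ⟨x, ?_, ?_⟩
    · have h1 : ((1 : k) ⊗ₜ[R] x : k ⊗[R] A) * (1 ⊗ₜ x) = 1 ⊗ₜ x := by
        rw [hx, ← map_mul, Matrix.single_mul_single_same, one_mul]
      rw [Algebra.TensorProduct.tmul_mul_tmul, one_mul] at h1
      rw [TensorProduct.tmul_sub, h1, sub_self]
    · let col : (Fin r → k) →ₗ[k] Matrix (Fin r) (Fin r) k :=
        { toFun := fun v => Matrix.vecMulVec v (Pi.single i₀ 1)
          map_add' := fun a b => Matrix.add_vecMulVec a b _
          map_smul' := fun c a => Matrix.smul_vecMulVec c a _ }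
      have hcolinj : Function.Injective col := fun a b h => funext fun l => by
        simpa [col, Matrix.vecMulVec_apply] using congrFun (congrFun h l) i₀
      have hrange : (LinearMap.range (LinearMap.mulRight k ((1 : k) ⊗ₜ[R] x : k ⊗[R] A))).map e.toLinearEquiv.toLinearMap =
          LinearMap.range col := by
        refine le_antisymm ?_ ?_
        · rintro _ ⟨_, ⟨y, rfl⟩, rfl⟩
          refine ⟨fun l => e y l i₀, ?_⟩
          show Matrix.vecMulVec _ _ = e (y * _)
          rw [hx, map_mul, AlgEquiv.apply_symm_apply]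
          ext a b
          rcases eq_or_ne b i₀ with rfl | hb
          · simp [Matrix.vecMulVec_apply, Matrix.mul_apply, Matrix.single_apply]
          · simp [Matrix.vecMulVec_apply, Matrix.mul_apply, Matrix.single_apply, hb, Ne.symm hb]
        · rintro _ ⟨v, rfl⟩
          refine ⟨_, ⟨e.symm (col v), rfl⟩, ?_⟩
          show e (e.symm (col v) * _) = col v
          rw [hx, map_mul, AlgEquiv.apply_symm_apply, AlgEquiv.apply_symm_apply]
          ext a b
          rcases eq_or_ne b i₀ with rfl | hb
          · simp [col, Matrix.vecMulVec_apply, Matrix.mul_apply, Matrix.single_apply]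
          · simp [col, Matrix.vecMulVec_apply, Matrix.mul_apply, Matrix.single_apply, hb, Ne.symm hb]
      rw [← LinearEquiv.finrank_map_eq e.toLinearEquiv, hrange, LinearMap.finrank_range_of_inj hcolinj,
        Module.finrank_fintype_fun_eq_card, Fintype.card_fin, hrn]
  choose x hx hxr using hfib
  -- glue by the Chinese remainder theorem
  have hcop : Pairwise (Function.onFun IsCoprime fun M : MaximalSpectrum R => M.asIdeal) :=
    fun _ _ ne => Ideal.isCoprime_of_isMaximal (MaximalSpectrum.ext_iff.ne.mp ne)
  have heps : ∀ M : MaximalSpectrum R, ∃ ε : R, ∀ M' : MaximalSpectrum R, ε - (if M' = M then 1 else 0) ∈ M'.asIdeal := fun M =>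
    Ideal.exists_forall_sub_mem_ideal hcop fun M' => if M' = M then 1 else 0
  choose ε hε using heps
  let X : A := ∑ M, ε M • x M
  have hX : ∀ M : MaximalSpectrum R, ((1 : R ⧸ M.asIdeal) ⊗ₜ[R] X) = (1 : R ⧸ M.asIdeal) ⊗ₜ[R] x M := fun M => by
    rw [TensorProduct.tmul_sum, Finset.sum_eq_single M]
    · rw [← TensorProduct.smul_tmul, Algebra.smul_def, mul_one]
      congr 1
      have := hε M M
      rw [if_pos rfl, ← Ideal.Quotient.eq, map_one] at this
      exact this
    · intro M' _ hne
      rw [← TensorProduct.smul_tmul, Algebra.smul_def, mul_one]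
      have := hε M' M
      rw [if_neg (Ne.symm hne), sub_zero, ← Ideal.Quotient.eq_zero_iff_mem] at this
      rw [show algebraMap R (R ⧸ M.asIdeal) (ε M') = 0 from this, TensorProduct.zero_tmul]
    · simp
  obtain ⟨d, b, g, hg⟩ := exists_dualBasis (R := R) A
  have hXJ : X * X - X ∈ ((⨅ M : MaximalSpectrum R, M.asIdeal) • ⊤ : Submodule R A) := by
    rw [← hg (X * X - X)]
    refine Submodule.sum_mem _ fun i _ => Submodule.smul_mem_smul (Submodule.mem_iInf _ |>.2 fun M => ?_) trivial
    let gk : (R ⧸ M.asIdeal) ⊗[R] A →ₗ[R] (R ⧸ M.asIdeal) :=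
      TensorProduct.lift ((LinearMap.mul R (R ⧸ M.asIdeal)).compl₂ ((Algebra.linearMap R (R ⧸ M.asIdeal)) ∘ₗ g i))
    have h0 : ((1 : R ⧸ M.asIdeal) ⊗ₜ[R] (X * X - X)) = 0 := by
      have h2 : ((1 : R ⧸ M.asIdeal) ⊗ₜ[R] (X * X)) = (1 : R ⧸ M.asIdeal) ⊗ₜ[R] (x M * x M) := by
        conv_lhs => rw [← one_mul (1 : R ⧸ M.asIdeal), ← Algebra.TensorProduct.tmul_mul_tmul, hX M,
          Algebra.TensorProduct.tmul_mul_tmul, one_mul]
      rw [TensorProduct.tmul_sub, h2, hX M, ← TensorProduct.tmul_sub, hx M]
    have h1 := congrArg gk h0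
    rw [map_zero] at h1
    exact Ideal.Quotient.eq_zero_iff_mem.1 (by simpa [gk] using h1)
  obtain ⟨e, he, hex⟩ := exists_idempotent_lift (⨅ M : MaximalSpectrum R, M.asIdeal) hXJ
  let P : Submodule R A := LinearMap.range (LinearMap.mulRight R e)
  let toP : A →ₗ[R] P := (LinearMap.mulRight R e).rangeRestrict
  have htoP : ∀ y : P, toP y = y := fun y => Subtype.ext (by
    obtain ⟨c, hc⟩ := y.2
    show (y : A) * e = y
    rw [← hc, LinearMap.mulRight_apply, mul_assoc, he.eq])
  have : Module.Finite R P := Module.Finite.of_surjective toP fun y => ⟨y, htoP y⟩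
  have : Module.Projective R P := Module.Projective.of_split P.subtype toP (LinearMap.ext htoP)
  have hrP : ∀ p : PrimeSpectrum R, Module.rankAtStalk P p = n := by
    intro p
    obtain ⟨m, hm, hle⟩ := Ideal.exists_le_maximal p.asIdeal p.isPrime.ne_top
    rw [rankAtStalk_eq_of_le P (q := ⟨m, hm.isPrime⟩) hle]
    let M : MaximalSpectrum R := ⟨m, hm⟩
    let := Ideal.Quotient.field M.asIdeal
    let k := R ⧸ M.asIdeal
    have hek : ((1 : k) ⊗ₜ[R] e : k ⊗[R] A) = (1 : k) ⊗ₜ[R] x M := by
      rw [← hX M, ← sub_eq_zero, ← TensorProduct.tmul_sub]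
      refine Submodule.smul_induction_on hex (fun r hr y _ => ?_) (fun a c ha hc => by
        rw [TensorProduct.tmul_add, ha, hc, add_zero])
      rw [← TensorProduct.smul_tmul, Algebra.smul_def, mul_one,
        show algebraMap R k r = 0 from Ideal.Quotient.eq_zero_iff_mem.2 (Submodule.mem_iInf _ |>.1 hr M),
        TensorProduct.zero_tmul]
    have hφinj : Function.Injective (P.subtype.baseChange k) := by
      refine Function.LeftInverse.injective (g := toP.baseChange k) fun z => ?_
      rw [← LinearMap.comp_apply, ← LinearMap.baseChange_comp, show toP ∘ₗ P.subtype = LinearMap.id from LinearMap.ext htoP,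
        LinearMap.baseChange_id]
      rfl
    have hrange : LinearMap.range (P.subtype.baseChange k) =
        LinearMap.range (LinearMap.mulRight k ((1 : k) ⊗ₜ[R] e : k ⊗[R] A)) := by
      refine le_antisymm ?_ ?_
      · rintro _ ⟨z, rfl⟩
        refine ⟨P.subtype.baseChange k z, ?_⟩
        induction z using TensorProduct.induction_on with
        | zero => simp
        | add a c ha hc => rw [map_add, map_add, ha, hc]
        | tmul c y =>
          rw [LinearMap.baseChange_tmul, LinearMap.mulRight_apply, Algebra.TensorProduct.tmul_mul_tmul, mul_one]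
          exact congrArg (c ⊗ₜ[R] ·) (congrArg Subtype.val (htoP y))
      · rintro _ ⟨z, rfl⟩
        refine ⟨toP.baseChange k z, ?_⟩
        induction z using TensorProduct.induction_on with
        | zero => simp
        | add a c ha hc => rw [map_add, map_add, map_add, ha, hc]
        | tmul c y =>
          rw [LinearMap.baseChange_tmul, LinearMap.baseChange_tmul, LinearMap.mulRight_apply,
            Algebra.TensorProduct.tmul_mul_tmul, mul_one]
          rfl
    rw [← finrank_tensor_quotient (M := P) M.asIdeal, ← LinearMap.finrank_range_of_inj hφinj, hrange, hek]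
    exact hxr M
  have hfree : Nonempty (P ≃ₗ[R] (Fin n → R)) :=
    nonempty_linearEquiv (A := R) (isLGRing_of_finite_maximalSpectrum R) P (Fin n → R) fun p => by
      have := p.nontrivial
      rw [hrP, Module.rankAtStalk_eq_finrank_of_free, Pi.natCast_apply, Nat.cast_id, Module.finrank_fin_fun]
  obtain ⟨η⟩ := hfree
  let L : A →ₐ[R] Module.End R P := AlgHom.ofLinearMap
    { toFun := fun a => (LinearMap.mulLeft R a).restrict
        (fun x hx => by obtain ⟨b, rfl⟩ := hx; exact ⟨a * b, mul_assoc a b e⟩)
      map_add' := fun a b => LinearMap.ext fun x => Subtype.ext (add_mul a b (x : A))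
      map_smul' := fun c a => LinearMap.ext fun x => Subtype.ext (smul_mul_assoc c a (x : A)) }
    (LinearMap.ext fun x => Subtype.ext (one_mul (x : A)))
    (fun a b => LinearMap.ext fun x => Subtype.ext (mul_assoc a b (x : A)))
  let L' : A →ₐ[R] Matrix (Fin n) (Fin n) R :=
    (LinearMap.toMatrixAlgEquiv' : Module.End R (Fin n → R) ≃ₐ[R] _).toAlgHom.comp
      ((η.conjAlgEquiv R).toAlgHom.comp L)
  rcases n.eq_zero_or_pos with rfl | hn
  · rcases subsingleton_or_nontrivial R with hR | hR
    · have := Module.subsingleton R A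
      exact ⟨AlgEquiv.ofBijective L' ⟨fun _ _ _ => Subsingleton.elim _ _, fun y => ⟨0, Subsingleton.elim _ _⟩⟩⟩
    · obtain ⟨m, hm⟩ := Ideal.exists_maximal R
      exact absurd (hrk ⟨m, hm.isPrime⟩) (rankAtStalk_pos (R := R) (P := A) _).ne'
  have : Nonempty (Fin n) := ⟨⟨0, hn⟩⟩
  have : IsAzumaya R (Matrix (Fin n) (Fin n) R) := IsAzumaya.matrix R (Fin n)
  exact ⟨AlgEquiv.ofBijective L' (hom_bijective L' fun p => by
    have := p.nontrivial
    rw [hrk, Module.rankAtStalk_eq_finrank_of_free, Pi.natCast_apply, Nat.cast_id, Module.finrank_matrix,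
      Module.finrank_self, Fintype.card_fin, mul_one, pow_two])⟩

end GrothLib.AzMod
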