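import Groth.Agent.Lib.AzMod.LocalSplit
import Groth.Agent.Lib.AzMod.Cancel
import Mathlib.RingTheory.Spectrum.Prime.RingHom
import Mathlib.RingTheory.Etale.Pi
import Mathlib.RingTheory.Flat.FaithfullyFlat.Algebra

set_option autoImplicit false

/-!
# A faithfully flat étale splitting of an Azumaya algebra of constant rank
-/

universe u v w

open scoped TensorProduct

namespace GrothLib.AzMod

theorem subsingleton_of_rank_zero {R : Type u} [CommRing R] {A : Type w} [Ring A] [Algebra R A] [IsAzumaya R A]
    (hrk : ∀ p : PrimeSpectrum R, Module.rankAtStalk A p = 0) : Subsingleton R := by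
  by_contra h
  have : Nontrivial R := not_subsingleton_iff_nontrivial.1 h
  obtain ⟨m, hm⟩ := Ideal.exists_maximal R
  exact (rankAtStalk_pos (R := R) (P := A) ⟨m, hm.isPrime⟩).ne' (hrk _)

/-- An algebra map to a product of matrix algebras as a map to matrices over the product. -/
noncomputable def piMatrixHom {R : Type u} [CommRing R] {A : Type w} [Ring A] [Algebra R A] {ι : Type*}
    {S : ι → Type v} [∀ i, CommRing (S i)] [∀ i, Algebra R (S i)] {m : Type*} [Fintype m] [DecidableEq m]
    (f : ∀ i, A →ₐ[R] Matrix m m (S i)) : A →ₐ[R] Matrix m m (∀ i, S i) :=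
  AlgHom.ofLinearMap
    { toFun := fun a => Matrix.of fun x y i => f i a x y
      map_add' := fun a b => by ext x y i; simp
      map_smul' := fun c a => by ext x y i; simp }
    (by ext x y i; by_cases h : x = y <;> simp [Matrix.one_apply, h])
    (fun a b => by ext x y i; simp [Matrix.mul_apply, Finset.sum_apply])

theorem exists_split_cover {R : Type u} [CommRing R] (A : Type u) [Ring A] [Algebra R A] [IsAzumaya R A]
    {n : ℕ} (hrk : ∀ p : PrimeSpectrum R, Module.rankAtStalk A p = n ^ 2) :
    ∃ (R' : Type u) (_ : CommRing R') (_ : Algebra R R'),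
      Module.FaithfullyFlat R R' ∧ Algebra.Etale R R' ∧ Nonempty (A →ₐ[R] Matrix (Fin n) (Fin n) R') := by
  classical
  choose g hg f het hfree hfin hnt r hr he using fun p : PrimeSpectrum R =>
    exists_etale_split_away (R := R) (A := A) p.asIdeal
  have htop : Ideal.span (Set.range g) = ⊤ := by
    by_contra h
    obtain ⟨m, hm, hle⟩ := Ideal.exists_le_maximal _ h
    exact hg ⟨m, hm.isPrime⟩ (hle (Ideal.subset_span ⟨_, rfl⟩))
  obtain ⟨t', ht', htop'⟩ := Ideal.span_eq_top_iff_finite (Set.range g) |>.1 htop
  obtain ⟨t, rfl⟩ : ∃ t : Finset (PrimeSpectrum R), t.image g = t' := by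
    obtain ⟨t, -, ht⟩ := Finset.subset_set_image_iff.1 (show (t' : Set R) ⊆ g '' Set.univ by rwa [Set.image_univ])
    exact ⟨t, ht⟩
  have hn : ∀ p, r p = n := fun p => by
    have := hnt p
    obtain ⟨q⟩ := (PrimeSpectrum.nonempty_iff_nontrivial (R := AdjoinRoot (f p))).2 inferInstance
    obtain ⟨e⟩ := he p
    have h1 := Module.rankAtStalk_baseChange (R := R) (M := A) (S := AdjoinRoot (f p)) q
    rw [Module.rankAtStalk_eq_of_equiv e.toLinearEquiv, Module.rankAtStalk_eq_finrank_of_free, hrk] at h1
    simp [Module.finrank_matrix, ← pow_two] at h1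
    exact h1
  let S : ↥t → Type u := fun i => AdjoinRoot (f i)
  have hflat : ∀ i : ↥t, Module.Flat R (S i) := fun i => by
    have := hfree i
    have := hnt i
    exact Module.Flat.trans R (Localization.Away (g i)) (AdjoinRoot (f i))
  have hetale : ∀ i : ↥t, Algebra.Etale R (S i) := fun i => by
    have := het i
    have : Algebra.Etale R (Localization.Away (g (i : PrimeSpectrum R))) :=
      Algebra.Etale.of_isLocalizationAway (g (i : PrimeSpectrum R))
    exact Algebra.Etale.comp R (Localization.Away (g i)) (AdjoinRoot (f i))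
  have hff : Module.FaithfullyFlat R (∀ i, S i) := by
    have : Module.Flat R (∀ i, S i) :=
      Module.Flat.of_linearEquiv (DirectSum.linearEquivFunOnFintype R ↥t S).symm
    refine Module.FaithfullyFlat.of_comap_surjective fun p => ?_
    have hex : ∃ i : ↥t, g i ∉ p.asIdeal := by
      by_contra h
      push Not at h
      apply p.isPrime.ne_top
      rw [eq_top_iff, ← htop', Ideal.span_le]
      intro x hx
      obtain ⟨i, hi, rfl⟩ := Finset.mem_image.1 (Finset.mem_coe.1 hx)
      exact h ⟨i, hi⟩
    obtain ⟨i, hi⟩ := hex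
    obtain ⟨q, hq⟩ : p ∈ Set.range (PrimeSpectrum.comap (algebraMap R (Localization.Away (g i)))) := by
      rw [PrimeSpectrum.localization_away_comap_range (Localization.Away (g i)) (g i)]
      exact hi
    have := hfree i
    have := hfin i
    have := hnt i
    obtain ⟨q', hq'⟩ := PrimeSpectrum.comap_surjective_of_faithfullyFlat
      (A := Localization.Away (g i)) (B := AdjoinRoot (f i)) q
    refine ⟨PrimeSpectrum.comap (Pi.evalRingHom S i) q', ?_⟩
    rw [← hq, ← hq']
    exact PrimeSpectrum.ext rfl
  refine ⟨∀ i, S i, inferInstance, inferInstance, hff, inferInstance, ⟨piMatrixHom fun i => ?_⟩⟩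
  exact (Matrix.reindexAlgEquiv R (S i) (finCongr (hn i))).toAlgHom.comp
    (((he i).some.restrictScalars R).toAlgHom.comp Algebra.TensorProduct.includeRight)

end GrothLib.AzMod
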