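import Groth.Agent.Lib.CSA.SimpleModules
import Mathlib.Algebra.Module.Torsion.Basic
import Mathlib.RingTheory.Jacobson.Radical
import Mathlib.Algebra.Module.Projective
import Mathlib.RingTheory.Artinian.Module

/-!
# Projective modules over strongly local rings
-/

set_option autoImplicit false
set_option backward.isDefEq.respectTransparency false

universe u v w

open Submodule

namespace GrothLib.StronglyLocal

variable {A : Type u} [Ring A]

local notation "J" => Ring.jacobson A

section trace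

variable (P : Type v) [AddCommGroup P] [Module A P] [Module.Finite A P] [Module.Projective A P] [Nontrivial P]

/-- A nonzero finite projective module over a strongly local ring is a generator. -/
theorem exists_sum_eq_one [IsSimpleRing (A ⧸ J)] :
    ∃ (n : ℕ) (f : Fin n → P →ₗ[A] A) (x : Fin n → P), ∑ i, f i (x i) = 1 := by
  let T : Ideal A := Submodule.span A {a | ∃ (f : P →ₗ[A] A) (x : P), f x = a}
  have hT : ∀ (f : P →ₗ[A] A) (x : P), f x ∈ T := fun f x => subset_span ⟨f, x, rfl⟩
  have hTm : ∀ t ∈ T, ∀ b, t * b ∈ T := by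
    intro t ht b
    induction ht using span_induction with
    | mem x hx => obtain ⟨f, y, rfl⟩ := hx; exact hT (LinearMap.toSpanSingleton A A b ∘ₗ f) y
    | zero => simp
    | add x y _ _ hx hy => rw [add_mul]; exact add_mem hx hy
    | smul c x _ hx => rw [smul_eq_mul, mul_assoc]; exact T.mul_mem_left c hx
  let I : TwoSidedIdeal (A ⧸ J) := TwoSidedIdeal.mk' (Ideal.Quotient.mk J '' T)
    ⟨0, T.zero_mem, map_zero _⟩
    (by rintro _ _ ⟨a, ha, rfl⟩ ⟨b, hb, rfl⟩; exact ⟨a + b, T.add_mem ha hb, map_add _ _ _⟩)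
    (by rintro _ ⟨a, ha, rfl⟩; exact ⟨-a, T.neg_mem ha, map_neg _ _⟩)
    (by
      rintro x _ ⟨b, hb, rfl⟩
      obtain ⟨a, rfl⟩ := Ideal.Quotient.mk_surjective x
      exact ⟨a * b, T.mul_mem_left a hb, map_mul _ _ _⟩)
    (by
      rintro _ y ⟨b, hb, rfl⟩
      obtain ⟨a, rfl⟩ := Ideal.Quotient.mk_surjective y
      exact ⟨b * a, hTm b hb a, map_mul _ _ _⟩)
  have hI : I = ⊤ := by
    refine (IsSimpleRing.simple.eq_bot_or_eq_top I).resolve_left fun h => ?_
    have hTJ : ∀ (f : P →ₗ[A] A) (x : P), f x ∈ J := fun f x => by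
      have : Ideal.Quotient.mk J (f x) ∈ I := (TwoSidedIdeal.mem_mk' ..).mpr ⟨_, hT f x, rfl⟩
      rw [h, TwoSidedIdeal.mem_bot] at this
      exact Ideal.Quotient.eq_zero_iff_mem.mp this
    obtain ⟨n, f, hf⟩ := Module.Finite.exists_fin' A P
    obtain ⟨g, hfg⟩ := Module.projective_lifting_property f LinearMap.id hf
    have htop : (⊤ : Submodule A P) ≤ J • ⊤ := fun x _ => by
      rw [show x = f (g x) from (LinearMap.congr_fun hfg x).symm, pi_eq_sum_univ (g x), map_sum]
      refine sum_mem fun i _ => ?_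
      rw [map_smul]
      exact smul_mem_smul (hTJ (LinearMap.proj i ∘ₗ g) x) mem_top
    exact top_ne_bot (Module.Finite.fg_top.eq_bot_of_le_jacobson_smul htop)
  obtain ⟨t, ht, htu⟩ : (1 : A ⧸ J) ∈ Ideal.Quotient.mk J '' T :=
    (TwoSidedIdeal.mem_mk' ..).mp (hI ▸ TwoSidedIdeal.mem_top _ : (1 : A ⧸ J) ∈ I)
  have h1J : T ⊔ J = ⊤ := (Ideal.eq_top_iff_one _).mpr (by
    have hj : 1 - t ∈ J := Ideal.Quotient.eq_zero_iff_mem.mp (by rw [map_sub, map_one, htu, sub_self])
    simpa using Submodule.add_mem_sup ht hj)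
  have hTtop : T = ⊤ := by
    by_contra hne
    obtain ⟨m, hm, hle⟩ := Ideal.exists_le_maximal T hne
    exact hm.ne_top (top_le_iff.mp (h1J ▸ sup_le hle (Ring.jacobson_le_of_isMaximal m)))
  have h1 : (1 : A) ∈ T := hTtop ▸ Submodule.mem_top
  obtain ⟨n, c, y, hy⟩ : ∃ (n : ℕ) (c : Fin n → A) (y : Fin n → {a // ∃ (f : P →ₗ[A] A) (x : P), f x = a}),
      ∑ i, c i • (y i : A) = 1 := mem_span_set'.mp h1
  choose f x hfx using fun i => (y i).2
  exact ⟨n, f, fun i => c i • x i, by simpa only [map_smul, hfx] using hy⟩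

/-- An endomorphism commuting with all endomorphisms is multiplication by a central element. -/
theorem existsUnique_central [IsSimpleRing (A ⧸ J)] (u : P →ₗ[A] P) (hu : ∀ f : Module.End A P, u ∘ₗ f = f ∘ₗ u) :
    ∃! a : A, (∀ b : A, a * b = b * a) ∧ ∀ x : P, u x = a • x := by
  obtain ⟨n, f, x, hfx⟩ := exists_sum_eq_one (A := A) P
  have hfaith : ∀ c : A, (∀ p : P, c • p = 0) → c = 0 := fun c hc => by
    rw [← mul_one c, ← hfx, Finset.mul_sum]
    exact Finset.sum_eq_zero fun i _ => by rw [← smul_eq_mul, ← map_smul, hc, map_zero]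
  let a : A := ∑ i, f i (u (x i))
  have ha : ∀ p : P, u p = a • p := fun p => by
    calc u p = ∑ i, f i (x i) • u p := by rw [← Finset.sum_smul, hfx, one_smul]
      _ = ∑ i, u ((f i).smulRight p (x i)) := by simp
      _ = ∑ i, f i (u (x i)) • p := Finset.sum_congr rfl fun i _ => DFunLike.congr_fun (hu ((f i).smulRight p)) (x i)
      _ = a • p := (Finset.sum_smul ..).symm
  refine ⟨a, ⟨fun b => sub_eq_zero.mp (hfaith _ fun p => ?_), ha⟩,
    fun a' ⟨_, ha'⟩ => sub_eq_zero.mp (hfaith _ fun p => ?_)⟩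
  · rw [sub_smul, mul_smul, mul_smul, ← ha, ← ha, map_smul, sub_self]
  · rw [sub_smul, ← ha, ← ha', sub_self]

end trace

section iso

variable {P : Type v} [AddCommGroup P] [Module A P] {Q : Type v} [AddCommGroup Q] [Module A Q]

/-- Reduction modulo the radical. -/
abbrev bar (M : Type v) [AddCommGroup M] [Module A M] := M ⧸ (J • (⊤ : Submodule A M))

/-- Reduction of a linear map. -/
noncomputable def red (f : P →ₗ[A] Q) : bar (A := A) P →ₗ[A] bar (A := A) Q :=
  Submodule.mapQ _ _ f (smul_top_le_comap_smul_top _ f)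

theorem red_comp (f g : Module.End A Q) : red (f * g) = red f ∘ₗ red g :=
  Submodule.linearMap_qext _ (LinearMap.ext fun _ => rfl)

theorem eq_zero_of_red_eq_zero [Module.Finite A Q] {D : Module.End A Q} (hD : D * D = D) (h : red D = 0) : D = 0 := by
  rw [← LinearMap.range_eq_bot]
  refine Submodule.FG.eq_bot_of_le_jacobson_smul ?_ ?_
  · rw [LinearMap.range_eq_map]; exact Module.Finite.fg_top.map D
  · rintro _ ⟨x, rfl⟩
    have hx : D x ∈ J • (⊤ : Submodule A Q) := (Submodule.Quotient.mk_eq_zero _).mp (DFunLike.congr_fun h (Submodule.Quotient.mk x))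
    rw [show D x = D (D x) from (DFunLike.congr_fun hD x).symm, LinearMap.range_eq_map, ← Submodule.map_smul'']
    exact Submodule.mem_map_of_mem hx

theorem surjective_of_red [Module.Finite A P] (h : Q →ₗ[A] P) (hs : Function.Surjective ((J • (⊤ : Submodule A P)).mkQ ∘ₗ h)) :
    Function.Surjective h := by
  rw [← LinearMap.range_eq_top, ← Submodule.Quotient.subsingleton_iff]
  by_contra hne
  rw [not_subsingleton_iff_nontrivial] at hne
  refine (Submodule.jacobson_smul_lt_top (R := A) (⊤ : Submodule A (P ⧸ LinearMap.range h))).ne (top_le_iff.mp fun z _ => ?_)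
  obtain ⟨p, rfl⟩ := Submodule.mkQ_surjective _ z
  obtain ⟨q, hq⟩ := hs (Submodule.Quotient.mk p)
  have hd : p - h q ∈ J • (⊤ : Submodule A P) := (Submodule.Quotient.eq _).mp hq.symm
  rw [show (LinearMap.range h).mkQ p = (LinearMap.range h).mkQ (p - h q) by
    rw [map_sub, show (LinearMap.range h).mkQ (h q) = 0 from (Submodule.Quotient.mk_eq_zero _).mpr ⟨q, rfl⟩, sub_zero]]
  exact smul_top_le_comap_smul_top _ _ hd


theorem finite_bar (M : Type v) [AddCommGroup M] [Module A M] [Module.Finite A M] :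
    Module.Finite (A ⧸ J) (bar (A := A) M) := by
  obtain ⟨n, s, hs⟩ := Module.Finite.exists_fin (R := A) (M := bar (A := A) M)
  refine Module.Finite.of_surjective (Fintype.linearCombination (A ⧸ J) s) fun x => ?_
  obtain ⟨c, hc⟩ := (Submodule.mem_span_range_iff_exists_fun A).mp (hs ▸ Submodule.mem_top : x ∈ Submodule.span A (Set.range s))
  exact ⟨fun i => Ideal.Quotient.mk J (c i), by rw [Fintype.linearCombination_apply]; exact hc⟩

theorem isArtinian_bar [IsArtinianRing (A ⧸ J)] [Module.Finite A Q] : IsArtinian A (bar (A := A) Q) := by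
  have := finite_bar (A := A) Q
  have : IsArtinian (A ⧸ J) (bar (A := A) Q) := inferInstance
  let φ : Submodule A (bar (A := A) Q) → Submodule (A ⧸ J) (bar (A := A) Q) := fun N =>
    { carrier := N
      add_mem' := N.add_mem
      zero_mem' := N.zero_mem
      smul_mem' := fun r x hx => by obtain ⟨a, rfl⟩ := Ideal.Quotient.mk_surjective r; exact N.smul_mem a hx }
  have hφ : StrictMono φ := fun a b h => show (a : Set (bar (A := A) Q)) < b from SetLike.coe_ssubset_coe.mpr h
  exact hφ.wellFoundedLT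

theorem nonempty_equiv_of_surjective [IsArtinianRing (A ⧸ J)] [Module.Finite A P] [Module.Projective A P] [Module.Finite A Q]
    [Module.Projective A Q] (e : Module.End A P ≃+* Module.End A Q)
    (g : bar (A := A) Q →ₗ[A] bar (A := A) P) (hg : Function.Surjective g) : Nonempty (P ≃ₗ[A] Q) := by
  obtain ⟨h, hh⟩ := Module.projective_lifting_property (J • (⊤ : Submodule A P)).mkQ (g ∘ₗ (J • (⊤ : Submodule A Q)).mkQ)
    (Submodule.mkQ_surjective _)
  have hs : Function.Surjective h := surjective_of_red h (hh ▸ hg.comp (Submodule.mkQ_surjective _))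
  obtain ⟨s, hsec⟩ := Module.projective_lifting_property h LinearMap.id hs
  have hsec' : ∀ p, h (s p) = p := DFunLike.congr_fun hsec
  by_cases h1 : ∀ q, s (h q) = q
  · exact ⟨{ s with invFun := h, left_inv := hsec', right_inv := h1 }⟩
  exfalso
  let ψ : Module.End A Q → Module.End A Q := fun f => s ∘ₗ (e.symm f) ∘ₗ h
  have hψ : ∀ f f', ψ (f * f') = ψ f * ψ f' := fun f f' => LinearMap.ext fun q => by
    simp [ψ, hsec']
  have hψi : Function.Injective ψ := fun f f' hff => e.symm.injective <| LinearMap.ext fun p => by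
    simpa [ψ, hsec'] using congrArg h (DFunLike.congr_fun hff (s p))
  have hψ1 : ψ 1 ≠ 1 := fun hc => h1 fun q => by simpa [ψ] using DFunLike.congr_fun hc q
  let E : ℕ → Module.End A Q := fun k => ψ^[k] 1
  have hE : ∀ k, E (k + 1) = ψ (E k) := fun k => Function.iterate_succ_apply' ψ k 1
  have hEE : ∀ k, E k * E k = E k ∧ E k * E (k + 1) = E (k + 1) ∧ E (k + 1) * E k = E (k + 1) := by
    intro k
    induction k with
    | zero => exact ⟨one_mul _, one_mul _, mul_one _⟩
    | succ k ih => simp only [hE, ← hψ] at ih ⊢; exact ⟨by rw [ih.1], by rw [ih.2.1], by rw [ih.2.2]⟩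
  have hne : ∀ k, E k - E (k + 1) ≠ 0 := fun k hc => by
    rw [sub_eq_zero] at hc
    exact hψ1 ((hψi.iterate k ((Function.iterate_succ_apply ψ k 1).symm.trans hc.symm)))
  let R : ℕ → Submodule A (bar (A := A) Q) := fun k => LinearMap.range (red (E k))
  have hR : StrictAnti R := strictAnti_nat_of_succ_lt fun k => by
    refine lt_of_le_of_ne ?_ fun hc => hne k (eq_zero_of_red_eq_zero (D := E k - E (k + 1)) ?_ ?_)
    · rintro _ ⟨x, rfl⟩
      exact ⟨red (E (k + 1)) x, by rw [← LinearMap.comp_apply, ← red_comp, (hEE k).2.1]⟩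
    · simp only [sub_mul, mul_sub, (hEE k).1, (hEE (k + 1)).1, (hEE k).2.1, (hEE k).2.2, sub_self, sub_zero]
    · refine Submodule.linearMap_qext _ (LinearMap.ext fun x => ?_)
      have hx : red (E k) (Submodule.Quotient.mk x) ∈ R k := ⟨_, rfl⟩
      rw [← hc] at hx
      obtain ⟨y, hy⟩ := hx
      have := congrArg (red (E (k + 1))) hy
      rw [← LinearMap.comp_apply, ← red_comp, (hEE (k + 1)).1, ← LinearMap.comp_apply, ← red_comp, (hEE k).2.2, hy] at this
      change Submodule.Quotient.mk ((E k - E (k + 1)) x) = (0 : bar (A := A) Q)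
      rw [LinearMap.sub_apply, Submodule.Quotient.mk_sub]
      exact sub_eq_zero.mpr this
  have := isArtinian_bar (A := A) (Q := Q)
  exact not_strictAnti_of_wellFoundedLT R hR

theorem nonempty_equiv [IsSimpleRing (A ⧸ J)] [IsArtinianRing (A ⧸ J)] [Module.Finite A P] [Module.Projective A P] [Module.Finite A Q]
    [Module.Projective A Q] (e : Module.End A P ≃+* Module.End A Q) : Nonempty (P ≃ₗ[A] Q) := by
  obtain ⟨S, hS⟩ := IsAtomic.exists_atom (Submodule (A ⧸ J) (A ⧸ J))
  have := isSimpleModule_iff_isAtom.mpr hS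
  have fin : ∀ (M : Type v) [AddCommGroup M] [Module A M] [Module.Finite A M],
      ∃ n, Nonempty (bar (A := A) M ≃ₗ[A ⧸ J] (Fin n → S)) := by
    intro M _ _ _
    have := finite_bar (A := A) M
    exact CSA.exists_linearEquiv_pi (R := A ⧸ J) S _
  have key : ∀ (M N : Type v) [AddCommGroup M] [Module A M] [AddCommGroup N] [Module A N] (m n : ℕ),
      m ≤ n → (bar (A := A) M ≃ₗ[A ⧸ J] (Fin m → S)) → (bar (A := A) N ≃ₗ[A ⧸ J] (Fin n → S)) →
      ∃ g : bar (A := A) N →ₗ[A] bar (A := A) M, Function.Surjective g := by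
    intro M N _ _ _ _ m n hmn eM eN
    let g' := eM.symm.toLinearMap ∘ₗ LinearMap.funLeft (A ⧸ J) S (Fin.castLE hmn) ∘ₗ eN.toLinearMap
    refine ⟨{ g'.toAddMonoidHom with map_smul' := fun a x => g'.map_smul (Ideal.Quotient.mk J a) x }, ?_⟩
    exact eM.symm.surjective.comp ((LinearMap.funLeft_surjective_of_injective (A ⧸ J) S _ (Fin.castLE_injective hmn)).comp eN.surjective)
  obtain ⟨m, ⟨eP⟩⟩ := fin P
  obtain ⟨n, ⟨eQ⟩⟩ := fin Q
  rcases le_total m n with hmn | hmn
  · obtain ⟨g, hg⟩ := key P Q m n hmn eP eQ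
    exact nonempty_equiv_of_surjective e g hg
  · obtain ⟨g, hg⟩ := key Q P n m hmn eQ eP
    exact (nonempty_equiv_of_surjective e.symm g hg).map LinearEquiv.symm

end iso

end GrothLib.StronglyLocal
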