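import Groth.Agent.Lib.AzMod.Descent
import Groth.Agent.Lib.AzMod.PiPow
import Mathlib.RingTheory.Spectrum.Prime.RingHom
import Mathlib.RingTheory.Flat.FaithfullyFlat.Algebra

set_option autoImplicit false

/-!
# The degree kills the Brauer class of an Azumaya algebra
-/

universe u v w

open scoped TensorProduct
open PiTensorProduct (tprod)
open Matrix

namespace GrothLib.AzMod

section Kron

variable {S : Type v} [CommRing S] {n : ℕ}

/-- The Kronecker product of a tuple of matrices. -/
def kronTuple (m : Fin n → Matrix (Fin n) (Fin n) S) : Matrix (Fin n → Fin n) (Fin n → Fin n) S :=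
  Matrix.of fun x y => ∏ i, m i (x i) (y i)

theorem kronTuple_mul (a b : Fin n → Matrix (Fin n) (Fin n) S) :
    kronTuple (fun i => a i * b i) = kronTuple a * kronTuple b := by
  ext x y
  simp only [kronTuple, Matrix.of_apply, Matrix.mul_apply, ← Finset.prod_mul_distrib]
  rw [Fintype.prod_sum]

theorem kronTuple_algebraMap (r : S) :
    kronTuple (fun _ : Fin n => algebraMap S (Matrix (Fin n) (Fin n) S) r) = algebraMap S _ (r ^ n) := by
  ext x y
  simp only [kronTuple, Matrix.of_apply, Matrix.algebraMap_matrix_apply, Algebra.algebraMap_self, RingHom.id_apply]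
  by_cases h : x = y
  · subst h; simp
  · obtain ⟨i, hi⟩ := Function.ne_iff.1 h
    rw [if_neg h]
    exact Finset.prod_eq_zero (Finset.mem_univ i) (if_neg hi)

theorem kronTuple_one : kronTuple (fun _ : Fin n => (1 : Matrix (Fin n) (Fin n) S)) = 1 := by
  have h := kronTuple_algebraMap (S := S) (n := n) 1
  simpa using h

variable (S n) in
/-- The alternating vector. -/
def altVec : (Fin n → Fin n) → S := fun x => ((1 : Matrix (Fin n) (Fin n) S).submatrix x id).det

theorem altVec_id : altVec S n id = 1 := by simp [altVec]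

theorem altVec_map {S' : Type*} [CommRing S'] (f : S →+* S') (x : Fin n → Fin n) :
    f (altVec S n x) = altVec S' n x := by
  rw [altVec, RingHom.map_det, altVec]
  congr 1
  ext i j
  simp [Matrix.submatrix, Matrix.one_apply, apply_ite f]

theorem det_eq_sum_altVec (M : Matrix (Fin n) (Fin n) S) :
    M.det = ∑ y : Fin n → Fin n, (∏ i, M i (y i)) * altVec S n y := by
  have h : M = fun i => ∑ j, M i j • (1 : Matrix (Fin n) (Fin n) S) j := by
    funext i k
    simp [Matrix.one_apply]
  conv_lhs => rw [h]
  show (Matrix.detRowAlternating (R := S) (n := Fin n)).toMultilinearMap _ = _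
  rw [MultilinearMap.map_sum]
  refine Finset.sum_congr rfl fun y _ => ?_
  rw [MultilinearMap.map_smul_univ, smul_eq_mul]
  rfl

theorem kron_mulVec_altVec (z : Matrix (Fin n) (Fin n) S) :
    kronTuple (fun _ : Fin n => z) *ᵥ altVec S n = z.det • altVec S n := by
  funext x
  have h : z.submatrix x id = (1 : Matrix (Fin n) (Fin n) S).submatrix x id * z := by
    ext i j
    simp [Matrix.mul_apply, Matrix.one_apply]
  calc (kronTuple (fun _ : Fin n => z) *ᵥ altVec S n) x = (z.submatrix x id).det := by
        rw [det_eq_sum_altVec]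
        simp [Matrix.mulVec, dotProduct, kronTuple]
    _ = _ := by rw [h, Matrix.det_mul, Pi.smul_apply, smul_eq_mul, mul_comm]; rfl

theorem altVec_vecMul_kron (z : Matrix (Fin n) (Fin n) S) :
    altVec S n ᵥ* kronTuple (fun _ : Fin n => z) = z.det • altVec S n := by
  rw [← Matrix.mulVec_transpose, ← Matrix.det_transpose z, ← kron_mulVec_altVec]
  rfl

variable (S n) in
/-- The antisymmetriser. -/
def altMat : Matrix (Fin n → Fin n) (Fin n → Fin n) S := Matrix.vecMulVec (altVec S n) (altVec S n)

theorem kron_mul_altMat (z : Matrix (Fin n) (Fin n) S) :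
    kronTuple (fun _ : Fin n => z) * altMat S n = altMat S n * kronTuple (fun _ : Fin n => z) := by
  rw [altMat, Matrix.mul_vecMulVec, Matrix.vecMulVec_mul, kron_mulVec_altVec, altVec_vecMul_kron]
  ext x y
  simp [Matrix.vecMulVec, mul_left_comm, mul_assoc, mul_comm]

theorem altMat_map {S' : Type*} [CommRing S'] (f : S →+* S') : (altMat S n).map f = altMat S' n := by
  ext x y
  simp [altMat, Matrix.vecMulVec, altVec_map]

theorem kronTuple_map {S' : Type*} [CommRing S'] (f : S →+* S') (m : Fin n → Matrix (Fin n) (Fin n) S) :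
    (kronTuple m).map f = kronTuple (fun i => (m i).map f) := by
  ext x y
  simp [kronTuple]

end Kron

variable {R : Type u} [CommRing R] {A : Type w} [Ring A] [Algebra R A] {n : ℕ}

/-- The tensor power of a matrix representation. -/
noncomputable def powRep {S : Type v} [CommRing S] [Algebra R S] (f : A →ₐ[R] Matrix (Fin n) (Fin n) S) :
    (⨂[R] _ : Fin n, A) →ₐ[R] Matrix (Fin n → Fin n) (Fin n → Fin n) S :=
  PiTensorProduct.liftAlgHom
    { toFun := fun a => kronTuple fun i => f (a i)
      map_update_add' := by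
        intro inst a i p q
        obtain rfl := Subsingleton.elim inst (instDecidableEqFin n)
        ext x y
        simp only [kronTuple, Matrix.of_apply, Matrix.add_apply]
        rw [← Finset.mul_prod_erase _ _ (Finset.mem_univ i), ← Finset.mul_prod_erase _ _ (Finset.mem_univ i),
          ← Finset.mul_prod_erase _ _ (Finset.mem_univ i)]
        have hupd : ∀ v : A, (∏ j ∈ Finset.univ.erase i, f (Function.update a i v j) (x j) (y j)) =
            ∏ j ∈ Finset.univ.erase i, f (a j) (x j) (y j) := fun v =>
          by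
            refine Finset.prod_congr rfl fun j hj => ?_
            rw [Function.update_of_ne (Finset.ne_of_mem_erase hj)]
        simp only [Function.update_self, map_add, Matrix.add_apply, add_mul, hupd]
      map_update_smul' := by
        intro inst a i c p
        obtain rfl := Subsingleton.elim inst (instDecidableEqFin n)
        ext x y
        simp only [kronTuple, Matrix.of_apply, Matrix.smul_apply]
        rw [← Finset.mul_prod_erase _ _ (Finset.mem_univ i), ← Finset.mul_prod_erase _ _ (Finset.mem_univ i)]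
        have hupd : ∀ v : A, (∏ j ∈ Finset.univ.erase i, f (Function.update a i v j) (x j) (y j)) =
            ∏ j ∈ Finset.univ.erase i, f (a j) (x j) (y j) := fun v =>
          by
            refine Finset.prod_congr rfl fun j hj => ?_
            rw [Function.update_of_ne (Finset.ne_of_mem_erase hj)]
        rw [Function.update_self, Function.update_self, hupd, hupd, map_smul f c p, Matrix.smul_apply, smul_mul_assoc] }
    (by simp only [MultilinearMap.coe_mk, Pi.one_apply, map_one]; exact kronTuple_one)
    (fun a b => by simp only [MultilinearMap.coe_mk, Pi.mul_apply, map_mul]; exact kronTuple_mul _ _)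

theorem powRep_tprod {S : Type v} [CommRing S] [Algebra R S] (f : A →ₐ[R] Matrix (Fin n) (Fin n) S)
    (a : Fin n → A) : powRep f (tprod R a) = kronTuple fun i => f (a i) :=
  PiTensorProduct.lift.tprod a

theorem powRep_map {S : Type v} [CommRing S] [Algebra R S] {S' : Type*} [CommRing S'] [Algebra R S']
    (f : A →ₐ[R] Matrix (Fin n) (Fin n) S) (j : S →ₐ[R] S') (b : ⨂[R] _ : Fin n, A) :
    powRep (j.mapMatrix.comp f) b = (powRep f b).map j := by
  induction b using PiTensorProduct.induction_on with
  | smul_tprod r a =>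
    rw [map_smul, map_smul, powRep_tprod, powRep_tprod, Matrix.map_smul _ r (fun x => map_smul j r x)]
    congr 1
    exact (kronTuple_map (j : S →+* S') fun i => f (a i)).symm
  | add p q hp hq => rw [map_add, map_add, Matrix.map_add _ (map_add j), hp, hq]

theorem powRep_mul_kron {S : Type v} [CommRing S] [Algebra R S] (f f' : A →ₐ[R] Matrix (Fin n) (Fin n) S)
    (z : Matrix (Fin n) (Fin n) S) (hz : ∀ a, f' a * z = z * f a) (b : ⨂[R] _ : Fin n, A) :
    powRep f' b * kronTuple (fun _ => z) = kronTuple (fun _ => z) * powRep f b := by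
  induction b using PiTensorProduct.induction_on with
  | smul_tprod r a =>
    rw [map_smul, map_smul, powRep_tprod, powRep_tprod, smul_mul_assoc, mul_smul_comm,
      ← kronTuple_mul, ← kronTuple_mul]
    simp only [hz]
  | add p q hp hq => rw [map_add, map_add, add_mul, mul_add, hp, hq]

variable [IsAzumaya R A]

/-- The descended antisymmetriser. -/
theorem exists_alt (hn : 0 < n) (hrk : ∀ p : PrimeSpectrum R, Module.rankAtStalk A p = n ^ 2)
    {R' : Type v} [CommRing R'] [Algebra R R'] [Module.FaithfullyFlat R R']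
    (f : A →ₐ[R] Matrix (Fin n) (Fin n) R') :
    ∃ s₀ : ⨂[R] _ : Fin n, A, powRep f s₀ = altMat R' n := by
  have : Nonempty (Fin n) := ⟨⟨0, hn⟩⟩
  obtain ⟨hB, hBr⟩ := piPow_isAzumaya_and_rank (k := R) A n
  have hcard : Fintype.card (Fin n → Fin n) = n ^ n := by simp
  have hrkB : ∀ p : PrimeSpectrum R, Module.rankAtStalk (⨂[R] _ : Fin n, A) p = Fintype.card (Fin n → Fin n) ^ 2 :=
    fun p => by rw [hBr, hrk, hcard, ← pow_mul, ← pow_mul, mul_comm]
  have hb1 := matExt_bijective (powRep f) fun p => hrkB _
  obtain ⟨t, ht⟩ := hb1.2 (altMat R' n)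
  let ι₁ : R' →ₐ[R] R' ⊗[R] R' := Algebra.TensorProduct.includeLeft
  let ι₂ : R' →ₐ[R] R' ⊗[R] R' := Algebra.TensorProduct.includeRight
  let f₁ := ι₁.mapMatrix.comp f
  let f₂ := ι₂.mapMatrix.comp f
  have hb2 := matExt_bijective (powRep f₂) fun p => hrkB _
  let Θ : R' ⊗[R] (R' ⊗[R] (⨂[R] (_ : Fin n), A)) →ₗ[R] Matrix (Fin n → Fin n) (Fin n → Fin n) (R' ⊗[R] R') :=
    (matExt (powRep f₂)).toLinearMap.restrictScalars R ∘ₗ (TensorProduct.assoc R R' R' (⨂[R] _ : Fin n, A)).symm.toLinearMap
  have hΘ : Function.Injective Θ := hb2.1.comp (LinearEquiv.injective _)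
  have hΘ' : ∀ (r r' : R') (b : ⨂[R] _ : Fin n, A), Θ (r ⊗ₜ (r' ⊗ₜ b)) = (r ⊗ₜ[R] r') • powRep f₂ b :=
    fun r r' b => by simp [Θ, matExt, Algebra.smul_def]
  have hone : ∀ s : R' ⊗[R] (⨂[R] (_ : Fin n), A), Θ ((1 : R') ⊗ₜ s) = (matExt (powRep f) s).map ι₂ := by
    intro s
    induction s using TensorProduct.induction_on with
    | zero => simp
    | add p q hp hq => rw [TensorProduct.tmul_add, map_add, hp, hq, map_add, Matrix.map_add _ (map_add ι₂)]
    | tmul r b =>
      rw [hΘ', powRep_map]
      ext x y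
      simp [matExt, ι₂, Algebra.smul_def, Matrix.algebraMap_eq_diagonal, Algebra.TensorProduct.tmul_mul_tmul]
  let d := (TensorProduct.mk R R' (⨂[R] (_ : Fin n), A) 1).lTensor R' t
  have htwo : ∀ Z, (∀ b, powRep f₂ b * Z = Z * powRep f₁ b) → ∀ s : R' ⊗[R] (⨂[R] (_ : Fin n), A),
      Θ ((TensorProduct.mk R R' (⨂[R] (_ : Fin n), A) 1).lTensor R' s) * Z = Z * (matExt (powRep f) s).map ι₁ := by
    intro Z hZ s
    induction s using TensorProduct.induction_on with
    | zero => simp
    | add p q hp hq =>
      rw [map_add, map_add, add_mul, hp, hq, map_add, Matrix.map_add _ (map_add ι₁), mul_add]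
    | tmul r b =>
      rw [LinearMap.lTensor_tmul, TensorProduct.mk_apply, hΘ', smul_mul_assoc, hZ, ← mul_smul_comm]
      congr 1
      rw [powRep_map]
      ext x y
      simp [matExt, ι₁, Algebra.smul_def, Matrix.algebraMap_eq_diagonal, Algebra.TensorProduct.tmul_mul_tmul]
  have heq : Θ d = altMat (R' ⊗[R] R') n := by
    refine Matrix.ext fun x y => ?_
    by_contra hne
    set e := Θ d x y - altMat (R' ⊗[R] R') n x y
    obtain ⟨m, hm, hle⟩ := Ideal.exists_le_maximal (LinearMap.ker (LinearMap.toSpanSingleton (R' ⊗[R] R') _ e))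
      (fun h => hne (sub_eq_zero.1 (by
        have h1 : (1 : R' ⊗[R] R') ∈ LinearMap.ker (LinearMap.toSpanSingleton (R' ⊗[R] R') _ e) := h ▸ Submodule.mem_top
        simpa using h1)))
    obtain ⟨z, w, r, hrm, hzw, hz⟩ := exists_intertwiner f₁ f₂ (fun p => by rw [hrk, Fintype.card_fin]) m hm.ne_top
    have h1 := htwo _ (powRep_mul_kron f₁ f₂ z hz) t
    rw [ht, show ((altMat R' n).map ι₁) = altMat (R' ⊗[R] R') n from altMat_map (ι₁ : R' →+* R' ⊗[R] R'),
      kron_mul_altMat] at h1
    have h2 : (Θ d - altMat (R' ⊗[R] R') n) * algebraMap (R' ⊗[R] R') _ (r ^ n) = 0 := by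
      rw [← kronTuple_algebraMap, ← hzw, kronTuple_mul, ← mul_assoc, sub_mul, h1, sub_self, zero_mul]
    have h3 := congrFun (congrFun h2 x) y
    rw [← Algebra.commutes, ← Algebra.smul_def, Matrix.smul_apply, Matrix.sub_apply, Matrix.zero_apply] at h3
    exact hrm (hm.isPrime.mem_of_pow_mem n (hle h3))
  obtain ⟨s₀, hs₀⟩ := exists_one_tmul_eq R' t (hΘ (by
    rw [hone, ht]
    exact (altMat_map (ι₂ : R' →+* R' ⊗[R] R')).trans heq.symm))
  exact ⟨s₀, by rw [← matExt_one_tmul (powRep f) s₀, hs₀, ht]⟩

/-- An Azumaya algebra of degree `n` split by a faithfully flat extension has trivial `n`-th tensor power. -/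
theorem exists_end_equiv (hn : 0 < n) (hrk : ∀ p : PrimeSpectrum R, Module.rankAtStalk A p = n ^ 2)
    {R' : Type v} [CommRing R'] [Algebra R R'] [Module.FaithfullyFlat R R']
    (f : A →ₐ[R] Matrix (Fin n) (Fin n) R') :
    ∃ E : Submodule R (⨂[R] _ : Fin n, A), Module.Finite R E ∧ Module.Projective R E ∧
      (∀ p : PrimeSpectrum R, Module.rankAtStalk E p = n ^ n) ∧
      Nonempty ((⨂[R] _ : Fin n, A) ≃ₐ[R] Module.End R E) := by
  have : Nonempty (Fin n) := ⟨⟨0, hn⟩⟩
  obtain ⟨s₀, hs₀⟩ := exists_alt hn hrk f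
  obtain ⟨hB, hBr⟩ := piPow_isAzumaya_and_rank (k := R) A n
  have hcard : Fintype.card (Fin n → Fin n) = n ^ n := by simp
  let B := ⨂[R] _ : Fin n, A
  have hb := matExt_bijective (A := B) (powRep f) fun p => by
    rw [hBr, hrk, hcard, ← pow_mul, ← pow_mul, mul_comm]
  let E : Submodule R B := LinearMap.range (LinearMap.mulRight R s₀)
  let M := (matExt (powRep f)).toLinearMap ∘ₗ E.subtype.baseChange R'
  have hMinj : Function.Injective M :=
    hb.1.comp (Module.Flat.lTensor_preserves_injective_linearMap _ (Submodule.injective_subtype _))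
  have hM : ∀ (r : R') (b : B), M (r ⊗ₜ (LinearMap.mulRight R s₀).rangeRestrict b) =
      Matrix.vecMulVec ((r • powRep f b) *ᵥ altVec R' n) (altVec R' n) := fun r b => by
    rw [← Matrix.mul_vecMulVec]
    show matExt (powRep f) (r ⊗ₜ (b * s₀)) = r • powRep f b * altMat R' n
    simp [matExt, Algebra.smul_def, hs₀, mul_assoc]
  let col : R' ⊗[R] E →ₗ[R'] ((Fin n → Fin n) → R') :=
    (LinearMap.pi fun x => LinearMap.proj (R := R') (φ := fun _ : Fin n → Fin n => R') id ∘ₗ
      LinearMap.proj (R := R') (φ := fun _ : Fin n → Fin n => (Fin n → Fin n) → R') x) ∘ₗ M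
  have hspan : ∀ e : R' ⊗[R] E, ∃ b : R' ⊗[R] B,
      e = (LinearMap.mulRight R s₀).rangeRestrict.baseChange R' b := fun e => by
    obtain ⟨b, hb'⟩ := LinearMap.lTensor_surjective R'
      (g := (LinearMap.mulRight R s₀).rangeRestrict) (LinearMap.surjective_rangeRestrict _) e
    exact ⟨b, hb'.symm⟩
  have hMb : ∀ b : R' ⊗[R] B, M ((LinearMap.mulRight R s₀).rangeRestrict.baseChange R' b) =
      Matrix.vecMulVec (matExt (powRep f) b *ᵥ altVec R' n) (altVec R' n) := fun b => by
    induction b using TensorProduct.induction_on with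
    | zero => simp
    | add p q hp hq => rw [map_add, map_add, hp, hq, map_add, Matrix.add_mulVec, Matrix.add_vecMulVec]
    | tmul r b =>
      rw [LinearMap.baseChange_tmul, hM]
      simp [matExt, Algebra.smul_def]
  have hcol : ∀ b, col ((LinearMap.mulRight R s₀).rangeRestrict.baseChange R' b) =
      matExt (powRep f) b *ᵥ altVec R' n := fun b => funext fun x => by
    show M _ x id = _
    rw [hMb, Matrix.vecMulVec_apply, altVec_id, mul_one]
  have hbij : Function.Bijective col := by
    refine ⟨(injective_iff_map_eq_zero col).2 fun e he => hMinj ?_, fun v => ?_⟩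
    · obtain ⟨b, rfl⟩ := hspan e
      rw [hcol] at he
      rw [hMb, he, map_zero, Matrix.zero_vecMulVec]
    · obtain ⟨b, hb'⟩ := hb.2 (Matrix.vecMulVec v (Pi.single id 1))
      refine ⟨(LinearMap.mulRight R s₀).rangeRestrict.baseChange R' b, ?_⟩
      rw [hcol, hb']
      funext x
      simp [Matrix.mulVec, dotProduct, Matrix.vecMulVec_apply, Pi.single_apply, altVec_id]
  let ε := LinearEquiv.ofBijective col hbij
  have : Module.Finite R' (R' ⊗[R] E) := Module.Finite.equiv ε.symm
  have : Module.Projective R' (R' ⊗[R] E) := Module.Projective.of_equiv' ε.symm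
  obtain ⟨_, _⟩ := GrothLib.Azu.finite_projective_of_baseChange (R := R) R' E
  have hrank : ∀ p : PrimeSpectrum R, Module.rankAtStalk E p = n ^ n := by
    intro p
    obtain ⟨q, rfl⟩ := PrimeSpectrum.comap_surjective_of_faithfullyFlat (A := R) (B := R') p
    have := q.nontrivial
    rw [← Module.rankAtStalk_baseChange, Module.rankAtStalk_eq_of_equiv ε,
      Module.rankAtStalk_eq_finrank_of_free, Pi.natCast_apply, Nat.cast_id, Module.finrank_pi, hcard]
  have : FaithfulSMul R E := ⟨fun {r s} h => by
    have h1 : ∀ v : R' ⊗[R] E, r • v = s • v := fun v => by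
      induction v using TensorProduct.induction_on with
      | zero => simp
      | add p q hp hq => rw [smul_add, smul_add, hp, hq]
      | tmul a e => rw [← TensorProduct.tmul_smul, ← TensorProduct.tmul_smul, h e]
    have h2 := congrArg (fun w => ε w id) (h1 (ε.symm (fun _ => 1)))
    simp only [← algebraMap_smul R' r, ← algebraMap_smul R' s, map_smul, LinearEquiv.apply_symm_apply,
      Pi.smul_apply, smul_eq_mul, mul_one] at h2
    exact FaithfulSMul.algebraMap_injective R R' h2⟩
  refine ⟨E, inferInstance, inferInstance, hrank, ?_⟩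
  have := GrothLib.Azu.isAzumaya_end R E
  let L : B →ₐ[R] Module.End R E := AlgHom.ofLinearMap
    { toFun := fun a => (LinearMap.mulLeft R a).restrict
        (fun x hx => by obtain ⟨b, rfl⟩ := hx; exact ⟨a * b, mul_assoc a b s₀⟩)
      map_add' := fun a b => LinearMap.ext fun x => Subtype.ext (add_mul a b (x : B))
      map_smul' := fun c a => LinearMap.ext fun x => Subtype.ext (smul_mul_assoc c a (x : B)) }
    (LinearMap.ext fun x => Subtype.ext (one_mul (x : B)))
    (fun a b => LinearMap.ext fun x => Subtype.ext (mul_assoc a b (x : B)))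
  have hL : Function.Bijective L := by
    refine hom_bijective (A := B) (B := Module.End R E) L fun p => ?_
    rw [rankAtStalk_end, hrank, hBr, hrk, ← pow_mul, ← pow_mul, mul_comm]
  exact ⟨AlgEquiv.ofBijective L hL⟩

end GrothLib.AzMod
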